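import Groth.Agent.CurveDual15.ModDual
import Groth.Agent.CurveCohLib.Proper
import Groth.Agent.AmpleVan.Vanish
import Groth.Prelude.Def_CurvBase

/-!
# The dualizing module of a proper scheme of dimension at most one over a field
-/

set_option linter.style.haveILetI false
set_option linter.unusedSectionVars false
set_option backward.isDefEq.respectTransparency false
set_option backward.isDefEq.respectTransparency.types false

universe u

open CategoryTheory CategoryTheory.Limits CategoryTheory.Pretriangulated AlgebraicGeometry Opposite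
open Groth.Agent.PnCoh.Finite (mapLin)

attribute [local instance] HasDerivedCategory.standard

noncomputable section

namespace Groth.Agent.CurveDual15

variable (k : Type u) [Field k] {X : Scheme.{u}} [X.Over (Spec (CommRingCat.of k))]
  [IsProper (X ↘ Spec (CommRingCat.of k))]

/-- Cohomology of quasi-coherent modules vanishes above the dimension. -/
theorem subsingleton_HH_curve' (k : Type u) [Field k] {X : Scheme.{u}} [X.Over (Spec (CommRingCat.of k))]
    [IsProper (X ↘ Spec (CommRingCat.of k))] (d : ℕ) (hd : topologicalKrullDim X ≤ d) :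
    ∀ F : X.Modules, Coh.IsQCoh F → ∀ p : ℕ, d < p → Subsingleton (Coh.HH X F p) := by
  haveI := isNoetherian_of_proper' k (X := X)
  exact fun F hF p hp => subsingleton_HH_of_dim_lt d hd F hF p hp

variable {k}

/-- Right exactness of the top cohomology: a surjection of quasi-coherent modules. -/
theorem surjective_mapLin_top (d : ℕ) (hd : topologicalKrullDim X ≤ d) {M N : X.Modules} (g : M ⟶ N)
    [Epi g] (hM : Coh.IsQCoh M) (hN : Coh.IsQCoh N) : Function.Surjective (mapLin k g d) := by
  let S : ShortComplex X.Modules := ShortComplex.mk (kernel.ι g) g (kernel.condition g)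
  have hS : S.ShortExact := { exact := ShortComplex.exact_of_f_is_kernel _ (kernelIsKernel g) }
  intro z
  haveI := subsingleton_HH_curve' k d hd S.X₁ (QCoh.isQCoh_kernel hM hN g) (d + 1) (by omega)
  have : z ∈ LinearMap.ker (PnCoh.Finite.deltaLin k hS d) :=
    LinearMap.mem_ker.2 (Subsingleton.elim _ _)
  rw [CurveCohLib.ker_deltaLin k hS d] at this
  exact this

/-- Right exactness of the top cohomology. -/
theorem exists_preimage_top (d : ℕ) (hd : topologicalKrullDim X ≤ d) {A M N : X.Modules} (f : A ⟶ M)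
    (g : M ⟶ N) [Epi g] (w : f ≫ g = 0) (hex : (ShortComplex.mk f g w).Exact) (hA : Coh.IsQCoh A)
    (hM : Coh.IsQCoh M) (hN : Coh.IsQCoh N) (x : Coh.HH X M d) (hx : mapLin k g d x = 0) :
    ∃ y, mapLin k f d y = x := by
  let S : ShortComplex X.Modules := ShortComplex.mk (kernel.ι g) g (kernel.condition g)
  have hS : S.ShortExact := { exact := ShortComplex.exact_of_f_is_kernel _ (kernelIsKernel g) }
  have h1 : x ∈ LinearMap.ker (mapLin k S.g d) := LinearMap.mem_ker.2 hx
  rw [CurveCohLib.ker_mapLin_g k hS d] at h1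
  obtain ⟨z, rfl⟩ := h1
  haveI : Epi (kernel.lift g f w) := hex.epi_kernelLift
  obtain ⟨y, rfl⟩ := surjective_mapLin_top (k := k) d hd (kernel.lift g f w) hA (QCoh.isQCoh_kernel hM hN g) z
  refine ⟨y, ?_⟩
  rw [FFun.mapLin_comp, kernel.lift_ι]

variable [DCoh.HasRpush (str k X)] {h : DCoh.RpushPreservesQCoh (str k X)}
  [DCoh.HasShriek (str k X) h] {OY : DCoh.DQCoh (pt k)}

/-- Serre duality for the top cohomology. -/
theorem exists_trace (hOY : Nonempty (OY.obj ≅ DCoh.inD (pt k) (Coh.structureModule (pt k))))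
    (d : ℕ) (hd : topologicalKrullDim X ≤ d) :
    ∃ t : Coh.HH X (omega k h OY d) d →ₗ[k] k,
      ∀ F : X.Modules, Coh.IsQCoh F → ∀ g : Coh.HH X F d →ₗ[k] k,
        ∃! φ : F ⟶ omega k h OY d, ∀ x, t (mapLin k φ d x) = g x := by
  obtain ⟨τ⟩ := nonempty_trace k h OY hOY
  exact exists_omega_trace τ d (subsingleton_HH_curve' k d hd)

omit [IsProper (X ↘ Spec (CommRingCat.of k))] in
/-- Maps to the dualizing module as functionals. -/
def homToDual {d : ℕ} (t : Coh.HH X (omega k h OY d) d →ₗ[k] k) (F : X.Modules) :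
    (F ⟶ omega k h OY d) →ₗ[k] Module.Dual k (Coh.HH X F d) where
  toFun φ := t.comp (mapLin k φ d)
  map_add' a b := LinearMap.ext fun x => by
    show t (Sheaf.H.map ((QCoh.toAbFunctor X).map (a + b)) d x) = t _ + t _
    rw [Functor.map_add, Sheaf.H.map_add_apply, map_add]
    rfl
  map_smul' c a := LinearMap.ext fun x => by
    show t (mapLin k (c • a) d x) = c • t (mapLin k a d x)
    rw [KLin.smul_def, ← FFun.mapLin_comp, FFun.mapLin_smulMod, map_smul, map_smul]

/-- `Hom(F, ω) ≅ H^d(X, F)^∨`. -/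
theorem nonempty_homEquivDual
    (hOY : Nonempty (OY.obj ≅ DCoh.inD (pt k) (Coh.structureModule (pt k))))
    (d : ℕ) (hd : topologicalKrullDim X ≤ d) :
    ∃ t : Coh.HH X (omega k h OY d) d →ₗ[k] k, ∀ F : X.Modules, Coh.IsQCoh F →
      Function.Bijective (homToDual (h := h) (OY := OY) t F) := by
  obtain ⟨t, ht⟩ := exists_trace (h := h) hOY d hd
  refine ⟨t, fun F hF => ⟨fun a b hab => ?_, fun g => ?_⟩⟩
  · exact (ht F hF (homToDual t F b)).unique (fun x => by rw [← hab]; rfl) fun x => rfl
  · obtain ⟨φ, hφ, -⟩ := ht F hF g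
    exact ⟨φ, LinearMap.ext hφ⟩

/-- The top cohomology of the dualizing module of a curve embeds in the dual of the global functions. -/
theorem finrank_HH_omega_le (hOY : Nonempty (OY.obj ≅ DCoh.inD (pt k) (Coh.structureModule (pt k))))
    (d : ℕ) (hd1 : d ≤ 1) (hd : topologicalKrullDim X ≤ d) :
    Module.Finite k (Coh.HH X (omega k h OY d) d) ∧
      Module.finrank k (Coh.HH X (omega k h OY d) d) ≤ Module.finrank k (Coh.HH X (Coh.structureModule X) 0) := by
  obtain ⟨τ⟩ := nonempty_trace k h OY hOY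
  obtain ⟨ι, -, hinj, -⟩ := exists_omega_map τ d (subsingleton_HH_curve' k d hd)
  haveI := isNoetherian_of_proper' k (X := X)
  haveI hfin : Module.Finite k (Coh.HH X (Coh.structureModule X) 0) :=
    CurveCohLib.finite_HH QCoh.isCoh_structureModule' 0
  let e0 : OX X ≅ sh (Coh.structureModule X) 0 := ((shiftFunctorZero (DCoh.D X) ℤ).app _).symm
  let L : (OX X ⟶ OX X) ≃ₗ[k] Coh.HH X (Coh.structureModule X) 0 :=
    (Linear.homCongr k (Iso.refl _) e0).trans (hhEquiv k _ 0)
  have hOX : DCoh.IsQCohD (OX X) := fun i => KFlatLib.isQCoh_of_iso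
    ((DerivedCategory.homologyFunctor X.Modules i).mapIso e0).symm
    (isQCohD_sh QCoh.isCoh_structureModule'.1 0 i)
  let P : (OX X ⟶ TX k h OY) ≃ₗ[k] Module.Dual k (OX X ⟶ OX X) :=
    LinearEquiv.ofBijective (τ.pair (OX X)) (τ.bijective_pair hOX)
  let j : Coh.HH X (omega k h OY d) d →ₗ[k] Module.Dual k (Coh.HH X (Coh.structureModule X) 0) :=
    L.dualMap.symm.toLinearMap.comp (P.toLinearMap.comp
      ((Linear.rightComp k (OX X) ι).comp (hhEquiv k (omega k h OY d) d).symm.toLinearMap))
  have hj : Function.Injective j := by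
    refine L.dualMap.symm.injective.comp (P.injective.comp ?_)
    intro x y hxy
    apply (hhEquiv k (omega k h OY d) d).symm.injective
    refine sub_eq_zero.1 (hinj (OX X) 0 (by omega) _ ?_)
    rw [Preadditive.sub_comp, sub_eq_zero]
    exact hxy
  exact ⟨Module.Finite.of_injective j hj,
    (LinearMap.finrank_le_finrank_of_injective hj).trans Subspace.dual_finrank_eq.le⟩

/-- With one-dimensional global functions the endomorphisms of the dualizing module are scalars. -/
theorem exists_smul_of_hom_omega (hOY : Nonempty (OY.obj ≅ DCoh.inD (pt k) (Coh.structureModule (pt k))))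
    (d : ℕ) (hd1 : d ≤ 1) (hd : topologicalKrullDim X ≤ d)
    (h0 : Module.finrank k (Coh.HH X (Coh.structureModule X) 0) = 1)
    (φ : omega k h OY d ⟶ omega k h OY d) : ∃ c : k, φ = c • 𝟙 (omega k h OY d) := by
  obtain ⟨t, ht⟩ := nonempty_homEquivDual (h := h) hOY d hd
  obtain ⟨hfin, hle⟩ := finrank_HH_omega_le (h := h) hOY d hd1 hd
  let e := LinearEquiv.ofBijective _ (ht (omega k h OY d) (isQCoh_omega d))
  haveI := Module.Finite.equiv e.symm
  have hle' : Module.finrank k (omega k h OY d ⟶ omega k h OY d) ≤ 1 := by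
    rw [e.finrank_eq, Subspace.dual_finrank_eq]
    omega
  by_cases hz : (𝟙 (omega k h OY d)) = 0
  · exact ⟨0, by rw [← Category.comp_id φ, hz, comp_zero, zero_smul]⟩
  · have h1 : Module.finrank k (omega k h OY d ⟶ omega k h OY d) = 1 := by
      have : Nontrivial (omega k h OY d ⟶ omega k h OY d) := ⟨⟨_, _, hz⟩⟩
      have := Module.finrank_pos (R := k) (M := (omega k h OY d ⟶ omega k h OY d))
      omega
    obtain ⟨c, hc⟩ := (finrank_eq_one_iff_of_nonzero' _ hz).1 h1 φ
    exact ⟨c, hc.symm⟩

/-- A map out of the dualizing module which is non-zero on top cohomology has a retraction. -/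
theorem exists_retraction (hOY : Nonempty (OY.obj ≅ DCoh.inD (pt k) (Coh.structureModule (pt k))))
    (d : ℕ) (hd1 : d ≤ 1) (hd : topologicalKrullDim X ≤ d)
    (h0 : Module.finrank k (Coh.HH X (Coh.structureModule X) 0) = 1) {F : X.Modules} (hF : Coh.IsQCoh F)
    (f : omega k h OY d ⟶ F) (y : Coh.HH X (omega k h OY d) d) (hy : mapLin k f d y ≠ 0) :
    ∃ r : F ⟶ omega k h OY d, f ≫ r = 𝟙 _ := by
  obtain ⟨t, ht⟩ := nonempty_homEquivDual (h := h) hOY d hd
  obtain ⟨g, hg⟩ : ∃ g : Module.Dual k (Coh.HH X F d), g (mapLin k f d y) ≠ 0 := by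
    by_contra hne
    push Not at hne
    exact hy ((Module.forall_dual_apply_eq_zero_iff k _).1 hne)
  obtain ⟨r, rfl⟩ := (ht F hF).2 g
  obtain ⟨c, hc⟩ := exists_smul_of_hom_omega hOY d hd1 hd h0 (f ≫ r)
  have hc0 : c ≠ 0 := fun h0' => hg (by
    show t (mapLin k r d (mapLin k f d y)) = 0
    rw [FFun.mapLin_comp, hc, h0', zero_smul]
    show t (Sheaf.H.map ((QCoh.toAbFunctor X).map 0) d y) = 0
    rw [Functor.map_zero]
    show t (((Sheaf.functorH _ d).map 0).hom y) = 0
    rw [Functor.map_zero]
    exact map_zero t)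
  exact ⟨c⁻¹ • r, by rw [Linear.comp_smul, hc, smul_smul, inv_mul_cancel₀ hc0, one_smul]⟩

end Groth.Agent.CurveDual15
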