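import Groth.Agent.SiteBase.ExtMod
import Groth.Prelude.Def_Coh
import Mathlib.Algebra.Homology.DerivedCategory.Ext.Map
import Mathlib.Algebra.Homology.DerivedCategory.Ext.EnoughInjectives

/-!
# `Ext^n(O_X, M) = H^n(X, M)`, canonically
-/

set_option linter.style.haveILetI false
set_option linter.unusedSectionVars false
set_option backward.isDefEq.respectTransparency false
set_option backward.isDefEq.respectTransparency.types false

universe u

open CategoryTheory CategoryTheory.Limits AlgebraicGeometry Opposite Abelian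

noncomputable section

namespace Groth.Agent.CurveDual15

variable {X : Scheme.{u}}

/-- The underlying abelian sheaf functor. -/
abbrev toShf (X : Scheme.{u}) : X.Modules ⥤ Sheaf (Opens.grothendieckTopology X) AddCommGrpCat.{u} :=
  SheafOfModules.toSheaf X.ringCatSheaf

instance additive_toShf : (toShf X).Additive :=
  inferInstanceAs (SheafOfModules.toSheaf.{u} X.ringCatSheaf).Additive

instance enoughInjectives_modules : EnoughInjectives X.Modules :=
  inferInstanceAs (EnoughInjectives (SheafOfModules.{u} X.ringCatSheaf))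

instance preservesFiniteLimits_toShf : PreservesFiniteLimits (toShf X) :=
  inferInstanceAs (PreservesFiniteLimits (SheafOfModules.toSheaf.{u} X.ringCatSheaf))

instance preservesFiniteColimits_toShf : PreservesFiniteColimits (toShf X) :=
  inferInstanceAs (PreservesFiniteColimits (SheafOfModules.toSheaf.{u} X.ringCatSheaf))

instance hasExt_modules : HasExt.{u} X.Modules :=
  IsGrothendieckAbelian.hasExt (SheafOfModules.{u} X.ringCatSheaf)

/-- `Ext^n(O_X, M) → H^n(X, M)`: apply the forgetful functor and restrict along `1`. -/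
def unitExt (M : X.Modules) (n : ℕ) :
    Ext.{u} (Coh.structureModule X) M n →+ Coh.HH X M n where
  toFun x := (Ext.mk₀ (SiteBase.oneHom X.ringCatSheaf)).comp (x.mapExactFunctor (toShf X)) (zero_add n)
  map_zero' := by rw [Ext.mapExactFunctor_zero, Ext.comp_zero]
  map_add' x y := by rw [Ext.mapExactFunctor_add, Ext.comp_add]

theorem unitExt_naturality {M N : X.Modules} (g : M ⟶ N) (n : ℕ)
    (x : Ext.{u} (Coh.structureModule X) M n) :
    unitExt N n (x.comp (Ext.mk₀ g) (add_zero n)) = Sheaf.H.map ((toShf X).map g) n (unitExt M n x) := by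
  show (Ext.mk₀ (SiteBase.oneHom X.ringCatSheaf)).comp ((x.comp (Ext.mk₀ g) (add_zero n)).mapExactFunctor (toShf X)) (zero_add n) =
    ((Ext.mk₀ (SiteBase.oneHom X.ringCatSheaf)).comp (x.mapExactFunctor (toShf X)) (zero_add n)).comp
      (Ext.mk₀ ((toShf X).map g)) (add_zero n)
  rw [Ext.mapExactFunctor_comp, Ext.mapExactFunctor_mk₀, Ext.comp_assoc_of_third_deg_zero]

theorem subsingleton_HH_injective (I : X.Modules) [Injective I] (q : ℕ) :
    Subsingleton (Coh.HH X I (q + 1)) := by
  obtain ⟨e⟩ := SiteBase.nonempty_ext_unit_addEquiv (R := X.ringCatSheaf) I (q + 1)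
  haveI := Ext.subsingleton_of_injective (SheafOfModules.unit X.ringCatSheaf) I q
  exact e.toEquiv.symm.subsingleton

theorem bijective_unitExt (n : ℕ) : ∀ M : X.Modules, Function.Bijective (unitExt M n) := by
  induction n with
  | zero =>
    intro M
    have h0 : ∀ φ : Coh.structureModule X ⟶ M, unitExt M 0 (Ext.mk₀ φ) =
        Ext.mk₀ (SiteBase.oneHom X.ringCatSheaf ≫ (toShf X).map φ) := fun φ => by
      show (Ext.mk₀ (SiteBase.oneHom X.ringCatSheaf)).comp ((Ext.mk₀ φ).mapExactFunctor (toShf X)) (zero_add 0) = _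
      rw [Ext.mapExactFunctor_mk₀, Ext.mk₀_comp_mk₀]
    have hb := SiteBase.oneHom_comp_bijective (R := X.ringCatSheaf) M
    constructor
    · intro x y hxy
      obtain ⟨φ, rfl⟩ := (Ext.mk₀_bijective _ _).2 x
      obtain ⟨ψ, rfl⟩ := (Ext.mk₀_bijective _ _).2 y
      rw [h0, h0] at hxy
      rw [hb.1 ((Ext.mk₀_bijective _ _).1 hxy)]
    · intro z
      obtain ⟨ξ, rfl⟩ := (Ext.mk₀_bijective _ _).2 z
      obtain ⟨φ, rfl⟩ := hb.2 ξ
      exact ⟨Ext.mk₀ φ, h0 φ⟩
  | succ n ih =>
    suffices H : ∀ S : ShortComplex X.Modules, S.ShortExact → Injective S.X₂ →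
        Function.Bijective (unitExt S.X₁ (n + 1)) from fun M => by
      obtain ⟨P⟩ := EnoughInjectives.presentation M
      exact H P.shortComplex P.shortExact_shortComplex P.injective
    intro S hS hI
    have hS' := hS.map_of_exact (toShf X)
    let PA := Coh.structureModule X
    let PB := (constantSheaf (Opens.grothendieckTopology X) AddCommGrpCat.{u}).obj
      (AddCommGrpCat.of (ULift.{u} ℤ))
    haveI hA2 : Subsingleton (Ext.{u} PA S.X₂ (n + 1)) := Ext.subsingleton_of_injective _ _ n
    haveI hB2 : Subsingleton (Coh.HH X S.X₂ (n + 1)) := subsingleton_HH_injective S.X₂ n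
    have hδ : ∀ y : Ext.{u} PA S.X₃ n, unitExt S.X₁ (n + 1) (y.comp hS.extClass rfl) =
        (unitExt S.X₃ n y).comp hS'.extClass rfl := fun y => by
      show (Ext.mk₀ (SiteBase.oneHom X.ringCatSheaf)).comp ((y.comp hS.extClass rfl).mapExactFunctor (toShf X)) (zero_add (n+1)) =
        ((Ext.mk₀ (SiteBase.oneHom X.ringCatSheaf)).comp (y.mapExactFunctor (toShf X)) (zero_add n)).comp hS'.extClass rfl
      rw [Ext.mapExactFunctor_comp, Ext.mapExactFunctor_extClass]
      exact (Ext.comp_assoc _ _ _ _ _ (by omega)).symm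
    constructor
    · rw [injective_iff_map_eq_zero]
      intro x hx
      obtain ⟨y, rfl⟩ := Ext.covariant_sequence_exact₁ PA hS x (Subsingleton.elim _ _) rfl
      rw [hδ] at hx
      obtain ⟨z, hz⟩ := Ext.covariant_sequence_exact₃ PB hS' (unitExt S.X₃ n y) rfl hx
      obtain ⟨w, rfl⟩ := (ih S.X₂).2 z
      have hw : y = w.comp (Ext.mk₀ S.g) (add_zero n) := by
        apply (ih S.X₃).1
        rw [unitExt_naturality]
        exact hz.symm
      rw [hw, Ext.comp_assoc_of_second_deg_zero, hS.comp_extClass, Ext.comp_zero]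
    · intro z
      obtain ⟨y', rfl⟩ := Ext.covariant_sequence_exact₁ PB hS' z (hB2.elim _ _) rfl
      obtain ⟨y, rfl⟩ := (ih S.X₃).2 y'
      exact ⟨y.comp hS.extClass rfl, hδ y⟩

/-- `Ext^n(O_X, M) ≃ H^n(X, M)`. -/
def unitExtEquiv (M : X.Modules) (n : ℕ) :
    Ext.{u} (Coh.structureModule X) M n ≃+ Coh.HH X M n :=
  AddEquiv.ofBijective (unitExt M n) (bijective_unitExt n M)

end Groth.Agent.CurveDual15
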