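import Groth.Agent.AmpleVan.Tw
import Groth.Agent.CurveDual15.ExtUnit
import Groth.Agent.SiteBase.ExtCompare
import Groth.Agent.H23.PicMul

/-!
# `Ext` out of an invertible module
-/

universe u

set_option backward.isDefEq.respectTransparency false
set_option backward.isDefEq.respectTransparency.types false
set_option linter.style.haveILetI false

open CategoryTheory CategoryTheory.Limits AlgebraicGeometry TopologicalSpace Opposite MonoidalCategory
open CategoryTheory.Abelian

noncomputable section

namespace Groth.Agent.CurveDual15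

/-- `Ext^i(L, M) = H^i(M ⊗ L⁻¹)`. -/
theorem nonempty_ext_invertible {X : Scheme.{u}} [HasExt.{u} X.Modules] {L D : X.Modules} (hL : PicF.IsInvertible L)
    (e : CohB1.tensorMod D L ≅ Coh.structureModule X) (M : X.Modules) (i : ℕ) :
    Nonempty (Ext L M i ≃+ Coh.HH X (CohB1.tensorMod M D) i) := by
  haveI : EnoughInjectives X.Modules := inferInstanceAs (EnoughInjectives (SheafOfModules _))
  haveI := AmpleVan.isEquivalence_tw hL
  let E := (AmpleVan.tw L).asEquivalence
  haveI : E.functor.IsEquivalence := E.isEquivalence_functor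
  haveI : E.inverse.IsEquivalence := E.isEquivalence_inverse
  haveI : E.inverse.Additive := Functor.additive_of_preserves_binary_products _
  obtain ⟨c⟩ := H23.PicMul.comm (Coh.structureModule X) L
  let u : E.functor.obj (Coh.structureModule X) ≅ L := c ≪≫ AmpleVan.twUnit.app L
  obtain ⟨e₁⟩ := SiteBase.nonempty_ext_addEquiv_of_adjunction E.toAdjunction u i M
  let a : E.functor.obj (CohB1.tensorMod M D) ≅ M :=
    (AmpleVan.twComp D L).app M ≪≫ ((DCoh.tensorBi (X := X)).flip.mapIso e).app M ≪≫ AmpleVan.twUnit.app M
  let v : E.inverse.obj M ≅ CohB1.tensorMod M D := E.inverse.mapIso a.symm ≪≫ (E.unitIso.app _).symm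
  exact ⟨e₁.trans ((unitExtEquiv _ i).trans
    ((Sheaf.functorH _ i).mapIso ((SheafOfModules.toSheaf X.ringCatSheaf).mapIso v)).addCommGroupIsoToAddEquiv)⟩

end Groth.Agent.CurveDual15
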