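import Groth.Agent.CurveDual15.CMTwist
import Groth.Agent.CurveDual15.Curve
import Groth.Agent.CurveDual15.ExtInv
import Groth.Agent.H23.TopDim
import Groth.Agent.Alg6.AssDepth
import Groth.Agent.VarBase.DimOne.GlobGen
import Groth.Agent.H23.PicInv

/-!
# The dualizing complex of a Cohen–Macaulay curve is a module in degree `-1`
-/

set_option linter.style.haveILetI false
set_option linter.unusedSectionVars false
set_option backward.isDefEq.respectTransparency false
set_option backward.isDefEq.respectTransparency.types false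

universe u

open CategoryTheory CategoryTheory.Limits CategoryTheory.Pretriangulated AlgebraicGeometry TopologicalSpace Opposite
  MonoidalCategory Abelian
open Groth.Agent.PnCoh.Finite (mapLin)
open Groth.Agent.H23.PicMul (cl_tensor cl_tensorPow cl_eq_iff)
open scoped Groth.Agent.H23.PicMul

attribute [local instance] HasDerivedCategory.standard

noncomputable section

namespace Groth.Agent.CurveDual15

variable {X : Scheme.{u}}

/-- The dimension of a scheme with one-dimensional components. -/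
theorem dim_le_one_of_equidim
    (hequi : ∀ Z ∈ irreducibleComponents (X : Type u), topologicalKrullDim Z = 1) :
    topologicalKrullDim X ≤ 1 := by
  rw [H23.TopDim.dim_eq_iSup_irreducibleComponents]
  exact iSup₂_le fun Z hZ => (hequi Z hZ).le

theorem exists_ne_specializes
    (hequi : ∀ Z ∈ irreducibleComponents (X : Type u), topologicalKrullDim Z = 1) (x : X) :
    ∃ Z ∈ irreducibleComponents (X : Type u), x ∈ Z ∧ ∀ γ : X, IsGenericPoint γ Z → ¬ IsClosed ({γ} : Set X) := by
  obtain ⟨Z, hZ, hxZ⟩ := exists_mem_irreducibleComponents_subset_of_isIrreducible _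
    (isIrreducible_singleton (x := x))
  refine ⟨Z, hZ, hxZ rfl, fun γ hγ hcl => ?_⟩
  have hZeq : Z = {γ} := hγ.symm.trans hcl.closure_eq
  haveI : Subsingleton ↥Z := by
    rw [hZeq]; exact Set.subsingleton_singleton.coe_sort
  haveI : Subsingleton (IrreducibleCloseds ↥Z) := ⟨fun A B =>
    IrreducibleCloseds.ext ((Subsingleton.eq_univ_of_nonempty A.isIrreducible'.nonempty).trans
      (Subsingleton.eq_univ_of_nonempty B.isIrreducible'.nonempty).symm)⟩
  have h0 : topologicalKrullDim ↥Z ≤ 0 := Order.krullDim_nonpos_of_subsingleton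
  rw [hequi Z hZ] at h0
  exact absurd h0 (by norm_num)

/-- A Cohen–Macaulay scheme with one-dimensional components has no embedded points. -/
theorem unmixed_of_CM (hCM : ∀ x : X, LocCoh.IsCohenMacaulayLocalRing (X.presheaf.stalk x))
    (hequi : ∀ Z ∈ irreducibleComponents (X : Type u), topologicalKrullDim Z = 1) : Unmixed X := by
  intro x hx
  let R := X.presheaf.stalk x
  haveI := hCM x
  haveI : IsNoetherianRing R := inferInstanceAs (IsNoetherianRing (X.presheaf.stalk x))
  obtain ⟨Z, hZ, hxZ, hgen⟩ := exists_ne_specializes hequi x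
  obtain ⟨γ, hγ⟩ := QuasiSober.sober hZ.1 (isClosed_of_mem_irreducibleComponents Z hZ)
  obtain ⟨q, hq⟩ : γ ∈ Set.range (X.fromSpecStalk x).base := by
    rw [Scheme.range_fromSpecStalk]
    exact hγ.specializes hxZ
  have hne : (q : PrimeSpectrum R) ≠ IsLocalRing.closedPoint R := by
    rintro h
    refine hgen γ hγ ?_
    rw [← hq, h]
    erw [Scheme.fromSpecStalk_closedPoint]
    exact hx
  have hdepth : (1 : ℕ∞) ≤ LocCoh.depth R R := by
    by_contra hlt
    have h0 : LocCoh.depth R R = 0 := ENat.lt_one_iff_eq_zero.1 (not_le.1 hlt)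
    have hd : ringKrullDim R = 0 := by
      rw [← Module.supportDim_self_eq_ringKrullDim, (hCM x).supportDim_eq_depth, h0]
      rfl
    haveI : Ring.KrullDimLE 0 R := Ring.krullDimLE_iff.2 hd.le
    exact hne (@Subsingleton.elim (PrimeSpectrum R) inferInstance _ _)
  have hass := Alg6.one_le_depth_iff.1 hdepth
  exact (Alg6.exists_isSMulRegular_mem_iff (M := R) (IsLocalRing.maximalIdeal R)).2 fun p hp hle => hass (by
    rwa [(IsLocalRing.maximalIdeal.isMaximal R).eq_of_le (IsAssociatedPrime.isPrime hp).ne_top hle])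

theorem cl_twistIter (D : X.Modules) (n : ℕ) :
    PicF.cl (twistIter D (Coh.structureModule X) n) = PicF.cl D ^ n := by
  induction n with
  | zero => rw [pow_zero]; exact H23.PicMul.one_def.symm
  | succ n ih =>
    show PicF.cl (CohB1.tensorMod (twistIter D (Coh.structureModule X) n) D) = _
    rw [cl_tensor, ih, pow_succ]

variable (k : Type u) [Field k] [X.Over (Spec (CommRingCat.of k))]
  [IsProper (X ↘ Spec (CommRingCat.of k))]

include k in
/-- Cofinite opens are dense. -/
theorem mem_closure_of_finite_compl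
    (hequi : ∀ Z ∈ irreducibleComponents (X : Type u), topologicalKrullDim Z = 1)
    {U : X.Opens} (hfin : ((U : Set X)ᶜ).Finite) (y : X) : y ∈ closure (U : Set X) := by
  haveI := LocallyOfFiniteType.jacobsonSpace (X ↘ Spec (CommRingCat.of k))
  by_contra hy
  let W : Set X := (closure (U : Set X))ᶜ
  have hW : IsOpen W := isClosed_closure.isOpen_compl
  have hWfin : W.Finite := hfin.subset (Set.compl_subset_compl.2 subset_closure)
  let C : Set X := W ∩ closedPoints X
  have hC : IsClosed C := by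
    rw [← Set.biUnion_of_singleton C]
    exact (hWfin.inter_of_left _).isClosed_biUnion fun c hc => hc.2
  have hall : ∀ z ∈ W, IsClosed ({z} : Set X) := fun z hz => by
    by_contra hzc
    obtain ⟨c, ⟨hcW, hcC⟩, hc⟩ := nonempty_inter_closedPoints
      (show (W ∩ Cᶜ).Nonempty from ⟨z, hz, fun h => hzc h.2⟩) (hW.inter hC.isOpen_compl).isLocallyClosed
    exact hcC ⟨hcW, hc⟩
  obtain ⟨Z, hZ, hyZ, hgen⟩ := exists_ne_specializes hequi y
  obtain ⟨γ, hγ⟩ := QuasiSober.sober hZ.1 (isClosed_of_mem_irreducibleComponents Z hZ)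
  exact hgen γ hγ (hall γ ((hγ.specializes hyZ).mem_open hW hy))

section Hom

variable {k}

omit [X.Over (Spec (CommRingCat.of k))] [IsProper (X ↘ Spec (CommRingCat.of k))] in
/-- Vanishing of `Ext` as vanishing of morphisms in the derived category. -/
theorem subsingleton_hom_of_ext {A B : X.Modules} (n : ℕ) (h : Subsingleton (Ext A B n)) :
    Subsingleton (DCoh.inD X A ⟶ sh B n) :=
  (Ext.homEquiv (X := A) (Y := B) (n := n)).symm.subsingleton

omit [X.Over (Spec (CommRingCat.of k))] [IsProper (X ↘ Spec (CommRingCat.of k))] in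
/-- Morphisms from a module to the lowest cohomology. -/
theorem exists_zero_cohom (B : DCoh.D X) [B.IsGE 0] :
    ∃ N : X.Modules, Nonempty (DCoh.HD B 0 ≅ N) ∧
      ∀ P : X.Modules, (∀ φ : DCoh.inD X P ⟶ B, φ = 0) → ∀ ψ : P ⟶ N, ψ = 0 := by
  obtain ⟨A, B', hA, hB', f, g, δ, hT⟩ :=
    DerivedCategory.TStructure.t.exists_triangle B 0 1 rfl
  haveI : A.IsLE 0 := ⟨hA⟩
  haveI : B'.IsGE 1 := ⟨hB'⟩
  haveI hB1 : DerivedCategory.TStructure.t.IsGE (B'⟦(-1 : ℤ)⟧) 2 :=
    DerivedCategory.TStructure.t.isGE_shift B' 1 (-1) 2 (by omega)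
  haveI : A.IsGE 0 := by
    refine DerivedCategory.TStructure.t.isGE₂ _ (inv_rot_of_distTriang _ hT) _ ?_ ‹B.IsGE _›
    exact DerivedCategory.TStructure.t.isGE_of_ge (B'⟦(-1 : ℤ)⟧) 0 2 (by omega)
  obtain ⟨N, ⟨eN⟩⟩ := A.exists_iso_singleFunctor_obj_of_isGE_of_isLE 0
  have hf : IsIso ((DerivedCategory.homologyFunctor X.Modules 0).map f) := by
    haveI : Epi ((DerivedCategory.homologyFunctor X.Modules 0).map f) :=
      (DerivedCategory.HomologySequence.exact₂ _ hT _).epi_f
        ((DerivedCategory.isZero_of_isGE B' 1 _ (by omega)).eq_of_tgt _ _)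
    haveI : Mono ((DerivedCategory.homologyFunctor X.Modules 0).map f) :=
      (DerivedCategory.HomologySequence.mono_homologyMap_mor₁_iff _ hT (-1) _ (by omega)).2
        ((DerivedCategory.isZero_of_isGE B' 1 _ (by omega)).eq_of_src _ _)
    exact isIso_of_mono_of_epi _
  refine ⟨N, ⟨(asIso ((DerivedCategory.homologyFunctor X.Modules 0).map f)).symm ≪≫
    (DerivedCategory.homologyFunctor X.Modules 0).mapIso eN ≪≫ h0 N⟩, fun P hP ψ => ?_⟩
  apply (DerivedCategory.singleFunctor X.Modules 0).map_injective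
  rw [Functor.map_zero, ← cancel_mono eN.inv, zero_comp]
  obtain ⟨a, ha⟩ : ∃ a : DCoh.inD X P ⟶ B'⟦(-1 : ℤ)⟧,
      (DerivedCategory.singleFunctor X.Modules 0).map ψ ≫ eN.inv = a ≫ (Triangle.mk f g δ).invRotate.mor₁ :=
    Triangle.coyoneda_exact₂ _ (inv_rot_of_distTriang _ hT) _ (hP _)
  haveI : DerivedCategory.TStructure.t.IsLE (DCoh.inD X P) 0 :=
    inferInstanceAs (((DerivedCategory.singleFunctor X.Modules 0).obj P).IsLE 0)
  rw [ha, DerivedCategory.TStructure.t.zero a 0 2 (by omega), zero_comp]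

omit [X.Over (Spec (CommRingCat.of k))] [IsProper (X ↘ Spec (CommRingCat.of k))] in
/-- Morphisms out of an invertible module as cohomology. -/
theorem subsingleton_hom_invertible {L D : X.Modules} (hD : PicF.IsInvertible D)
    (e : CohB1.tensorMod L D ≅ Coh.structureModule X) (M : X.Modules) (n : ℕ)
    (h : Subsingleton (Coh.HH X (CohB1.tensorMod M L) n)) : Subsingleton (DCoh.inD X D ⟶ sh M n) := by
  obtain ⟨ee⟩ := nonempty_ext_invertible hD e M n
  exact subsingleton_hom_of_ext (A := D) (B := M) n (@Equiv.subsingleton _ _ ee.toEquiv h)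

omit [X.Over (Spec (CommRingCat.of k))] [IsProper (X ↘ Spec (CommRingCat.of k))] in
/-- Moving a shift to the source. -/
theorem subsingleton_shift_neg {P Q : DCoh.D X} (i : ℤ) (h : Subsingleton (P ⟶ Q⟦i⟧)) :
    Subsingleton (P⟦-i⟧ ⟶ Q) := by
  refine ⟨fun a b => ?_⟩
  apply (shiftFunctor (DCoh.D X) i).map_injective
  apply (cancel_epi ((shiftFunctorCompIsoId (DCoh.D X) (-i) i (by omega)).inv.app P)).1
  exact @Subsingleton.elim _ h _ _

omit [X.Over (Spec (CommRingCat.of k))] [IsProper (X ↘ Spec (CommRingCat.of k))] in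
theorem isQCohD_shift {M : X.Modules} (hM : Coh.IsQCoh M) (a : ℤ) : DCoh.IsQCohD ((DCoh.inD X M)⟦a⟧) := by
  intro j
  refine KFlatLib.isQCoh_of_iso
    (((DerivedCategory.homologyFunctor X.Modules 0).shiftIso a j (a + j) rfl).app _ :).symm ?_
  by_cases hj : a + j = 0
  · rw [hj]
    exact KFlatLib.isQCoh_of_iso (KFlatLib.h0Single M).symm hM
  · refine KFlatLib.isQCoh_of_isZero ?_
    rcases lt_or_gt_of_ne hj with hlt | hlt
    · exact DerivedCategory.isZero_of_isGE _ 0 _ hlt
    · exact DerivedCategory.isZero_of_isLE _ 0 _ hlt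

include k in
/-- No maps from `O_X` into a module placed in non-negative degrees without sections. -/
theorem subsingleton_OX_hom {M : X.Modules} (i : ℕ) (h : Subsingleton (Coh.HH X M 0)) :
    Subsingleton (OX X ⟶ (DCoh.inD X M)⟦-(i : ℤ)⟧) := by
  rcases Nat.eq_zero_or_pos i with h0 | hpos
  · subst h0
    have h1 : Subsingleton (OX X ⟶ sh M 0) := @Equiv.subsingleton _ _ (hhEquiv k M 0).toEquiv h
    rw [show (-((0 : ℕ) : ℤ)) = ((0 : ℕ) : ℤ) from rfl]
    exact h1
  · haveI : DerivedCategory.TStructure.t.IsGE ((DCoh.inD X M)⟦-(i : ℤ)⟧) (i : ℤ) :=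
      DerivedCategory.TStructure.t.isGE_shift (DCoh.inD X M) 0 (-(i : ℤ)) i (by omega)
    haveI : DerivedCategory.TStructure.t.IsLE (OX X) 0 :=
      inferInstanceAs (((DerivedCategory.singleFunctor X.Modules 0).obj _).IsLE 0)
    exact subsingleton_of_forall_eq 0 fun a =>
      DerivedCategory.TStructure.t.zero a 0 (i : ℤ) (by omega)

end Hom

variable [DCoh.HasRpush (str k X)] {h : DCoh.RpushPreservesQCoh (str k X)}
  [DCoh.HasShriek (str k X) h] {OY : DCoh.DQCoh (pt k)}

variable {k} in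
set_option maxHeartbeats 800000 in
/-- The dualizing complex of a Cohen–Macaulay curve has cohomology in degree `-1` only. -/
theorem isZero_HD_dualizingCx (τ : Trace k h OY)
    (hequi : ∀ Z ∈ irreducibleComponents (X : Type u), topologicalKrullDim Z = 1) (hX : Unmixed X) :
    ∀ i : ℤ, -1 < i → IsZero (DCoh.HD (TX k h OY) i) := by
  have hdim := dim_le_one_of_equidim hequi
  haveI := isNoetherian_of_proper' k (X := X)
  haveI : X.IsSeparated :=
    ⟨by rw [← terminal.comp_from (X ↘ Spec (CommRingCat.of k))]; infer_instance⟩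
  have hv := subsingleton_HH_curve' k (X := X) 1 hdim
  have hTq : DCoh.IsQCohD (TX k h OY) := ((DCoh.shriek (str k X) h).obj OY).property
  haveI hT1 : (TX k h OY).IsGE (-1) := isGE_dualizingCx τ 1 hv
  obtain ⟨A, B, hA, hB, f, g, δ, hT⟩ :=
    DerivedCategory.TStructure.t.exists_triangle (TX k h OY) (-1) 0 rfl
  haveI : A.IsLE (-1) := ⟨hA⟩
  haveI : B.IsGE 0 := ⟨hB⟩
  haveI hB1 : DerivedCategory.TStructure.t.IsGE (B⟦(-1 : ℤ)⟧) 1 :=
    DerivedCategory.TStructure.t.isGE_shift B 0 (-1) 1 (by omega)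
  haveI : A.IsGE (-1) := by
    refine DerivedCategory.TStructure.t.isGE₂ _ (inv_rot_of_distTriang _ hT) _ ?_ hT1
    exact DerivedCategory.TStructure.t.isGE_of_ge (B⟦(-1 : ℤ)⟧) (-1) 1 (by omega)
  haveI : DerivedCategory.TStructure.t.IsLE (A⟦(-1 : ℤ)⟧) 0 :=
    DerivedCategory.TStructure.t.isLE_shift A (-1) (-1) 0 (by omega)
  haveI : DerivedCategory.TStructure.t.IsGE (A⟦(-1 : ℤ)⟧) 0 :=
    DerivedCategory.TStructure.t.isGE_shift A (-1) (-1) 0 (by omega)
  haveI : (A⟦(-1 : ℤ)⟧).IsLE 0 := ‹_›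
  haveI : (A⟦(-1 : ℤ)⟧).IsGE 0 := ‹_›
  obtain ⟨M, ⟨eM⟩⟩ := (A⟦(-1 : ℤ)⟧).exists_iso_singleFunctor_obj_of_isGE_of_isLE 0
  let eA : sh M 1 ≅ A := ((shiftFunctor (DCoh.D X) (1 : ℤ)).mapIso eM.symm) ≪≫
    (shiftFunctorCompIsoId (DCoh.D X) (-1 : ℤ) (1 : ℤ) (by omega)).app A
  have hMq : Coh.IsQCoh M := by
    haveI : Epi ((DerivedCategory.homologyFunctor X.Modules (-1)).map f) :=
      (DerivedCategory.HomologySequence.exact₂ _ hT _).epi_f
        ((DerivedCategory.isZero_of_isGE B 0 _ (by omega)).eq_of_tgt _ _)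
    haveI : Mono ((DerivedCategory.homologyFunctor X.Modules (-1)).map f) :=
      (DerivedCategory.HomologySequence.mono_homologyMap_mor₁_iff _ hT (-2) _ (by omega)).2
        ((DerivedCategory.isZero_of_isGE B 0 _ (by omega)).eq_of_src _ _)
    haveI := isIso_of_mono_of_epi ((DerivedCategory.homologyFunctor X.Modules (-1)).map f)
    exact KFlatLib.isQCoh_of_iso
      ((asIso ((DerivedCategory.homologyFunctor X.Modules (-1)).map f)).symm ≪≫
        (DerivedCategory.homologyFunctor X.Modules (-1)).mapIso eA.symm ≪≫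
        ((DerivedCategory.homologyFunctor X.Modules 0).shiftIso (1 : ℤ) (-1) 0 (by omega)).app _ ≪≫ h0 M)
      (hTq _)
  have hTB : ∀ i : ℤ, 0 ≤ i → Nonempty (DCoh.HD (TX k h OY) i ≅ DCoh.HD B i) := fun i hi => by
    haveI : Mono ((DerivedCategory.homologyFunctor X.Modules i).map g) :=
      (DerivedCategory.HomologySequence.exact₂ _ hT i).mono_g
        ((DerivedCategory.isZero_of_isLE A (-1) i (by omega)).eq_of_src _ _)
    haveI : Epi ((DerivedCategory.homologyFunctor X.Modules i).map g) :=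
      (DerivedCategory.HomologySequence.exact₃ _ hT i (i + 1) rfl).epi_f
        ((DerivedCategory.isZero_of_isLE A (-1) (i + 1) (by omega)).eq_of_tgt _ _)
    exact ⟨@asIso _ _ _ _ ((DerivedCategory.homologyFunctor X.Modules i).map g) (isIso_of_mono_of_epi _)⟩
  suffices H : ∀ i : ℕ, IsZero (DCoh.HD B i) by
    intro i hi
    obtain ⟨j, rfl⟩ := Int.eq_ofNat_of_zero_le (by omega : 0 ≤ i)
    obtain ⟨e⟩ := hTB j (by omega)
    exact (H j).of_iso e
  intro i
  induction i using Nat.strong_induction_on with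
  | _ i IH =>
    haveI : B.IsGE (i : ℤ) := (DerivedCategory.isGE_iff _ _).2 fun j hj => by
      by_cases h0 : j < 0
      · exact DerivedCategory.isZero_of_isGE B 0 j h0
      · obtain ⟨l, rfl⟩ := Int.eq_ofNat_of_zero_le (by omega : 0 ≤ j)
        exact IH l (by omega)
    haveI : DerivedCategory.TStructure.t.IsGE (B⟦(i : ℤ)⟧) 0 :=
      DerivedCategory.TStructure.t.isGE_shift B i i 0 (by omega)
    haveI : (B⟦(i : ℤ)⟧).IsGE 0 := ‹_›
    obtain ⟨N, ⟨eN⟩, hN⟩ := exists_zero_cohom (B⟦(i : ℤ)⟧)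
    let eN' : DCoh.HD B (i : ℤ) ≅ N :=
      (((DerivedCategory.homologyFunctor X.Modules 0).shiftIso (i : ℤ) 0 i (by omega)).app B).symm ≪≫ eN
    refine IsZero.of_iso ?_ eN'
    have hNq : Coh.IsQCoh N := by
      obtain ⟨e⟩ := hTB (i : ℤ) (by omega)
      exact KFlatLib.isQCoh_of_iso (e ≪≫ eN') (hTq _)
    refine CurveCohLib.isZero_of_subsingleton_stalks fun x => ?_
    obtain ⟨U, hU, hxU, hfin, hdisc⟩ := VarBase.DimOne.exists_affine_cofinite hdim x
    obtain ⟨L, s, -, hL, hs, -⟩ := VarBase.DimOne.exists_two_sections hU hfin hdisc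
      fun y _ => ⟨inferInstance, VarBase.DimOne.ringKrullDim_stalk_le hdim y⟩
    obtain ⟨D, hD, ⟨e⟩⟩ := H23.PicInv.exists_inverse hL
    obtain ⟨c⟩ := H23.PicMul.comm D L
    obtain ⟨q₀, hq⟩ := exists_forall_twistIter_h0 k hdim hX hL hD (c ≪≫ e) s (hs ▸ hU)
      (hs ▸ mem_closure_of_finite_compl k hequi hfin)
    refine subsingleton_stalk_of_twists k hL hNq s (hs ▸ hU) q₀ (fun n hn => ?_) (hs ▸ hxU)
    let Dn := twistIter D (Coh.structureModule X) n
    have hDn : PicF.IsInvertible Dn := by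
      obtain ⟨u⟩ := cl_eq_iff.1 ((cl_tensorPow D n).trans (cl_twistIter D n).symm)
      exact H23.PicMul.isInvertible_of_iso u (H23.PicMul.isInvertible_tensorPow hD n)
    have hLn := H23.PicMul.isInvertible_tensorPow hL n
    obtain ⟨en⟩ : Nonempty (CohB1.tensorMod (CohB1.tensorPow L n) Dn ≅ Coh.structureModule X) := by
      refine cl_eq_iff.1 ?_
      have h1 : PicF.cl L * PicF.cl D = 1 := by rw [← cl_tensor, H23.PicMul.one_def]; exact cl_eq_iff.2 ⟨e⟩
      rw [cl_tensor, cl_tensorPow, cl_twistIter, ← mul_pow, h1, one_pow]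
      rfl
    haveI : Subsingleton (DCoh.inD X Dn ⟶ B⟦(i : ℤ)⟧) := by
      refine subsingleton_of_forall_eq 0 fun φ => ?_
      let E := (shiftFunctor (DCoh.D X) (-(i : ℤ)))
      let G := E.obj (DCoh.inD X Dn)
      let uB : (B⟦(i : ℤ)⟧)⟦-(i : ℤ)⟧ ≅ B :=
        (shiftFunctorCompIsoId (DCoh.D X) (i : ℤ) (-(i : ℤ)) (by omega)).app B
      let φ' : G ⟶ B := E.map φ ≫ uB.hom
      have hGq : DCoh.IsQCohD G := isQCohD_shift (AmpleVan.isCoh_invertible hDn).1 (-(i : ℤ))
      have hGO : Subsingleton (OX X ⟶ G) := subsingleton_OX_hom (k := k) i (hq n hn)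
      haveI hGT : Subsingleton (G ⟶ TX k h OY) := by
        haveI : Subsingleton (Module.Dual k (OX X ⟶ G)) := ⟨fun a b => LinearMap.ext fun v => by
          rw [Subsingleton.elim v 0, map_zero, map_zero]⟩
        exact (τ.bijective_pair hGq).1.subsingleton
      haveI hob : Subsingleton (G ⟶ A⟦(1 : ℤ)⟧) := by
        let v : (A⟦(1 : ℤ)⟧)⟦(i : ℤ)⟧ ≅ sh M (i + 2) :=
          (shiftFunctor (DCoh.D X) (i : ℤ)).mapIso ((shiftFunctor (DCoh.D X) (1 : ℤ)).mapIso eA.symm) ≪≫
            ((shiftFunctorAdd' (DCoh.D X) (1 : ℤ) (i : ℤ) (1 + i) rfl).app (sh M 1)).symm ≪≫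
            ((shiftFunctorAdd' (DCoh.D X) ((1 : ℕ) : ℤ) (1 + (i : ℤ)) ((i + 2 : ℕ) : ℤ) (by omega)).app
              (DCoh.inD X M)).symm
        refine subsingleton_shift_neg (i : ℤ) ?_
        exact @Equiv.subsingleton _ _ ((Iso.refl (DCoh.inD X Dn)).homCongr v)
          (subsingleton_hom_invertible hDn en M (i + 2)
            (hv _ (KFlatLib.isQCoh_tensor hMq (AmpleVan.isCoh_invertible hLn).1) (i + 2) (by omega)))
      obtain ⟨a, ha⟩ : ∃ a : G ⟶ TX k h OY, φ' = a ≫ g :=
        Triangle.coyoneda_exact₃ _ hT φ' (@Subsingleton.elim _ hob _ _)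
      apply E.map_injective
      rw [← cancel_mono uB.hom, Functor.map_zero, zero_comp]
      exact ha.trans (by rw [Subsingleton.elim a 0, zero_comp])
    have hhom : Subsingleton (Dn ⟶ N) :=
      subsingleton_of_forall_eq 0 (hN Dn fun φ => Subsingleton.elim φ 0)
    haveI : EnoughInjectives X.Modules := inferInstance
    haveI : Subsingleton (Ext Dn N 0) := Ext.homEquiv₀.subsingleton
    obtain ⟨ee⟩ := nonempty_ext_invertible hDn en N 0
    haveI : Subsingleton (Coh.HH X (CohB1.tensorMod N (CohB1.tensorPow L n)) 0) := ee.symm.toEquiv.subsingleton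
    intro T
    apply (Sheaf.H.equiv₀ (Coh.toAb (CohB1.tensorMod N (CohB1.tensorPow L n))) isTerminalTop).symm.injective
    exact Subsingleton.elim _ _

variable {k} in
/-- `ω[1]` is the dualizing complex of a Cohen–Macaulay curve. -/
theorem exists_omega_iso (τ : Trace k h OY)
    (hequi : ∀ Z ∈ irreducibleComponents (X : Type u), topologicalKrullDim Z = 1) (hX : Unmixed X) :
    Nonempty (sh (omega k h OY 1) 1 ≅ TX k h OY) := by
  obtain ⟨ι, -, -, hι⟩ := exists_omega_map τ 1 (subsingleton_HH_curve' k 1 (dim_le_one_of_equidim hequi))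
  exact ⟨@asIso _ _ _ _ ι (hι (isZero_HD_dualizingCx τ hequi hX))⟩

variable {k} in
/-- The cohomology of the dualizing module of a Cohen–Macaulay curve. -/
theorem finrank_HH_omega (hOY : Nonempty (OY.obj ≅ DCoh.inD (pt k) (Coh.structureModule (pt k))))
    (hequi : ∀ Z ∈ irreducibleComponents (X : Type u), topologicalKrullDim Z = 1) (hX : Unmixed X) :
    Module.finrank k (Coh.HH X (omega k h OY 1) 1) = Module.finrank k (Coh.HH X (Coh.structureModule X) 0) ∧
      Module.finrank k (Coh.HH X (omega k h OY 1) 0) = Module.finrank k (Coh.HH X (Coh.structureModule X) 1) := by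
  obtain ⟨τ⟩ := nonempty_trace k h OY hOY
  obtain ⟨e⟩ := exists_omega_iso τ hequi hX
  haveI := isNoetherian_of_proper' k (X := X)
  haveI : IsLocallyNoetherian X := inferInstance
  let z : ∀ M : X.Modules, DCoh.inD X M ≅ sh M 0 := fun M => ((shiftFunctorZero (DCoh.D X) ℤ).app _).symm
  have hO : ∀ n, DCoh.IsQCohD (sh (Coh.structureModule X) n) :=
    fun n => isQCohD_sh QCoh.isCoh_structureModule'.1 n
  haveI hfin := fun n => CurveCohLib.finite_HH (k := k) (QCoh.isCoh_structureModule' (X := X)) n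
  constructor
  · let a : (OX X ⟶ sh (omega k h OY 1) 1) ≃ₗ[k] (sh (Coh.structureModule X) 0 ⟶ TX k h OY) :=
      Linear.homCongr k (z _) e
    exact ((hhEquiv k _ 1).symm.trans (a.trans ((LinearEquiv.ofBijective _ (τ.bijective_pair (hO 0))).trans
      ((Linear.homCongr k (Iso.refl (OX X)) (Iso.refl _)).trans (hhEquiv k _ 0)).dualMap.symm))).finrank_eq.trans
        Subspace.dual_finrank_eq
  · let S := shiftFunctor (DCoh.D X) ((1 : ℕ) : ℤ)
    let a : (OX X ⟶ sh (omega k h OY 1) 0) ≃ₗ[k] (OX X ⟶ DCoh.inD X (omega k h OY 1)) :=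
      Linear.homCongr k (Iso.refl _) (z _).symm
    let b : (OX X ⟶ DCoh.inD X (omega k h OY 1)) ≃ₗ[k]
        (sh (Coh.structureModule X) 1 ⟶ sh (omega k h OY 1) 1) :=
      LinearEquiv.ofBijective (S.mapLinearMap k) ⟨S.map_injective, S.map_surjective⟩
    exact ((hhEquiv k _ 0).symm.trans (a.trans (b.trans ((Linear.homCongr k (Iso.refl _) e).trans
      ((LinearEquiv.ofBijective _ (τ.bijective_pair (hO 1))).trans
        (hhEquiv k (Coh.structureModule X) 1).dualMap.symm))))).finrank_eq.trans Subspace.dual_finrank_eq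

variable {k} in
/-- `χ(O) = -χ(ω)` on a Cohen–Macaulay curve. -/
theorem euler_eq_neg_euler_omega (hOY : Nonempty (OY.obj ≅ DCoh.inD (pt k) (Coh.structureModule (pt k))))
    (hequi : ∀ Z ∈ irreducibleComponents (X : Type u), topologicalKrullDim Z = 1) (hX : Unmixed X) :
    Curv2.euler k X (Coh.structureModule X) = - Curv2.euler k X (omega k h OY 1) := by
  have hv := subsingleton_HH_curve' k (X := X) 1 (dim_le_one_of_equidim hequi)
  haveI := isNoetherian_of_proper' k (X := X)
  obtain ⟨h1, h2⟩ := finrank_HH_omega (h := h) hOY hequi hX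
  rw [CurveCohLib.euler_eq_sum (k := k) (N := 2) fun i hi => hv _ QCoh.isCoh_structureModule'.1 i (by omega),
    CurveCohLib.euler_eq_sum (k := k) (N := 2) fun i hi => hv _ (isQCoh_omega 1) i (by omega)]
  simp [Finset.sum_range_succ, h1, h2]

end Groth.Agent.CurveDual15
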