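import Groth.Agent.CurveDual15.GGVanish
import Groth.Agent.VarBase.DimOne.Ample
import Groth.Agent.AmpleX.Extend
import Groth.Agent.KFlatLib.Scheme.PullTensor

/-!
# Negative twists on curves without embedded points, and twist tests for quasi-coherent modules
-/

set_option linter.style.haveILetI false
set_option linter.unusedSectionVars false
set_option backward.isDefEq.respectTransparency false
set_option backward.isDefEq.respectTransparency.types false

universe u

open CategoryTheory CategoryTheory.Limits AlgebraicGeometry TopologicalSpace Opposite MonoidalCategory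
open Groth.Agent.PnCoh.Finite (mapLin)
open Groth.Agent.H23.PicMul (cl_tensor cl_tensorPow cl_eq_iff)

attribute [local instance] HasDerivedCategory.standard

noncomputable section

namespace Groth.Agent.CurveDual15

variable {X : Scheme.{u}}

/-- Every closed point has a regular element in its maximal ideal. -/
def Unmixed (X : Scheme.{u}) : Prop :=
  ∀ x : X, IsClosed ({x} : Set X) →
    ∃ r ∈ IsLocalRing.maximalIdeal (X.presheaf.stalk x), IsSMulRegular (X.presheaf.stalk x) r

theorem germ_eq_zero_of_specializes' (M : X.Modules) {U : X.Opens} {x y : X} (h : y ⤳ x) (hx : x ∈ U)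
    (s : Γ(M, U)) (h0 : M.presheaf.germ U x hx s = 0) :
    M.presheaf.germ U y (h.mem_open U.2 hx) s = 0 := by
  obtain ⟨W, hxW, i, j, he⟩ := M.presheaf.germ_eq x hx hx s 0 (h0.trans (map_zero _).symm)
  rw [← M.presheaf.germ_res_apply i y (h.mem_open W.2 hxW) s, he, map_zero, map_zero]

theorem eq_zero_of_germs_eq_zero (M : X.Modules) {U : X.Opens} (s : Γ(M, U))
    (h : ∀ x (hx : x ∈ U), M.presheaf.germ U x hx s = 0) : s = 0 :=
  TopCat.Presheaf.section_ext (⟨M.presheaf, M.isSheaf⟩ : TopCat.Sheaf Ab X.toTopCat) U _ _ fun x hx =>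
    (h x hx).trans (map_zero _).symm

/-- A section of an invertible module vanishing at all non-closed points vanishes. -/
theorem eq_zero_of_nonclosed [IsNoetherian X] (hX : Unmixed X) {G : X.Modules} (hG : PicF.IsInvertible G)
    {W : X.Opens} (t : Γ(G, W))
    (h : ∀ η (hη : η ∈ W), ¬ IsClosed ({η} : Set X) → G.presheaf.germ W η hη t = 0) : t = 0 := by
  refine eq_zero_of_germs_eq_zero G t fun x hxW => ?_
  by_cases hx : IsClosed ({x} : Set X)
  swap
  · exact h x hxW hx
  obtain ⟨U, hxU, e, he⟩ := InvX.exists_frame hG x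
  let W₁ := W ⊓ U
  obtain ⟨g, hg⟩ := he.exists_coord (inf_le_right : W₁ ≤ U) (AModX.res G (inf_le_left : W₁ ≤ W) t)
  -- the bad points
  let B : Set X := {y | ∃ hy : y ∈ W, G.presheaf.germ W y hy t ≠ 0}
  have hBcl : ∀ y ∈ B, IsClosed ({y} : Set X) := fun y ⟨hy, hne⟩ => by
    by_contra hc
    exact hne (h y hy hc)
  obtain ⟨r, hr, hreg⟩ := hX x hx
  obtain ⟨V₀, hxV₀, f₀, hf₀⟩ := X.presheaf.exists_germ_eq (x := x) r
  -- shrink so that `x` is the only bad point
  obtain ⟨S, hScl, hS⟩ : ∃ S : Set X, IsClosed S ∧ (x ∉ S ∧ B \ {x} ⊆ S) := by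
    have hc : IsClosed (closure B) := isClosed_closure
    have hsubcl : ∀ y ∈ closure B, y ∈ W → y ∈ B := fun y hy hyW => ⟨hyW, fun h0 => by
      obtain ⟨O, hyO, i, j, he⟩ := G.presheaf.germ_eq y hyW hyW t 0 (h0.trans (map_zero _).symm)
      obtain ⟨z, hzO, hzW, hz⟩ := mem_closure_iff.1 hy O O.2 hyO
      refine hz ?_
      rw [← G.presheaf.germ_res_apply i z hzO t, he, map_zero, map_zero]⟩
    obtain ⟨Fs, hFs, hcl, hirr, hU'⟩ :=
      NoetherianSpace.exists_finite_set_isClosed_irreducible (α := X) hc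
    refine ⟨⋃₀ {s ∈ Fs | x ∉ s}, ?_, fun ⟨s, hs, hxs⟩ => hs.2 hxs, fun y ⟨hyB, hyx⟩ => ?_⟩
    · rw [Set.sUnion_eq_biUnion]
      exact (hFs.subset (Set.sep_subset _ _)).isClosed_biUnion fun s hs => hcl s hs.1
    · obtain ⟨s, hs, hys⟩ : y ∈ ⋃₀ Fs := hU' ▸ subset_closure hyB
      refine ⟨s, ⟨hs, fun hxs => hyx ?_⟩, hys⟩
      obtain ⟨γ, hγ⟩ := QuasiSober.sober (hirr s hs) (hcl s hs)
      have hγB : γ ∈ B := hsubcl γ (hU'.ge ⟨s, hs, hγ.mem⟩)
        ((hγ.specializes hxs).mem_open W.2 hxW)
      have := hBcl γ hγB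
      have hγx : x = γ := (hγ.specializes hxs).mem_closed this rfl
      have hγy : y = γ := (hγ.specializes hys).mem_closed this rfl
      exact hγy.trans hγx.symm
  obtain ⟨_, ⟨V, hV, rfl⟩, hxV, hle⟩ := X.isBasis_affineOpens.exists_subset_of_mem_open
    (show x ∈ (W₁ ⊓ V₀ ⊓ ⟨Sᶜ, hScl.isOpen_compl⟩ : X.Opens) from ⟨⟨⟨hxW, hxU⟩, hxV₀⟩, hS.1⟩)
    (W₁ ⊓ V₀ ⊓ ⟨Sᶜ, hScl.isOpen_compl⟩ : X.Opens).2
  replace hle : V ≤ W₁ ⊓ V₀ ⊓ ⟨Sᶜ, hScl.isOpen_compl⟩ := hle
  have hVW : V ≤ W₁ := hle.trans (inf_le_left.trans inf_le_left)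
  let f := AModX.resR (hle.trans (inf_le_left.trans inf_le_right) : V ≤ V₀) f₀
  have hf : X.presheaf.germ V x hxV f = r := (InvX.germ_resR' _ hxV f₀).trans hf₀
  let t' := AModX.res G (hVW.trans inf_le_left : V ≤ W) t
  have ht0 : G.presheaf.map (homOfLE (X.basicOpen_le f)).op t' = 0 := by
    refine eq_zero_of_germs_eq_zero G _ fun z hz => ?_
    rw [G.presheaf.germ_res_apply, InvX.germ_res']
    by_contra hne
    have hzx : z ≠ x := fun hzx => by
      subst hzx
      have := (X.mem_basicOpen f z hxV).1 hz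
      rw [hf] at this
      exact hr this
    exact ((hle (X.basicOpen_le f hz)).2) (hS.2 ⟨⟨_, hne⟩, hzx⟩)
  obtain ⟨n, hn⟩ := QCoh.exists_pow_smul_eq_zero_of_isCompact (AmpleVan.isCoh_invertible hG).1
    hV.isCompact f t' ht0
  have h1 := congrArg (G.presheaf.germ V x hxV) hn
  rw [QCoh.germ_smul', map_zero, map_pow, hf, InvX.germ_res'] at h1
  have hb := he.germ_bijective hxU
  obtain ⟨c, hc⟩ := hb.2 (G.presheaf.germ W x hxW t)
  rw [← hc, smul_smul] at h1
  have h2 : r ^ n * c = 0 := hb.1 (h1.trans (zero_smul (X.presheaf.stalk x) _).symm)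
  have h3 : c = 0 := (IsSMulRegular.pow n hreg) (by simpa using h2)
  rw [← hc, h3]
  exact zero_smul _ _

theorem stalk_secMul_mem {L : X.Modules} (s : Coh.structureModule X ⟶ L) (F : X.Modules) {x : X}
    (hx : vanishAt x s) (a : (DerSch.stalkFunctor X x).obj F) :
    (DerSch.stalkFunctor X x).map ((secMul s).app F) a ∈ IsLocalRing.maximalIdeal (X.presheaf.stalk x) •
      (⊤ : Submodule (X.presheaf.stalk x) ((DerSch.stalkFunctor X x).obj ((AmpleVan.tw L).obj F))) := by
  let m := IsLocalRing.maximalIdeal (X.presheaf.stalk x)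
  let M := (DerSch.stalkFunctor X x).obj F
  let N := (DerSch.stalkFunctor X x).obj L
  let e := stArrowIso s F x
  have hcomm := e.inv.w
  have h1 : (DerSch.stalkFunctor X x).map ((secMul s).app F) a =
      e.inv.right ((tensorLeft M).map (stMap x s) (e.hom.left a)) := by
    have h2 := ConcreteCategory.congr_hom hcomm (e.hom.left a)
    refine Eq.trans ?_ h2
    show _ = (DerSch.stalkFunctor X x).map ((secMul s).app F) (e.inv.left (e.hom.left a))
    have h5 : e.inv.left (e.hom.left a) = a := by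
      show (e.hom.left ≫ e.inv.left) a = a
      rw [← Arrow.comp_left, e.hom_inv_id]
      rfl
    exact congrArg _ h5.symm
  rw [h1]
  have h3 : (tensorLeft M).map (stMap x s) (e.hom.left a) ∈
      m • (⊤ : Submodule (X.presheaf.stalk x) (TensorProduct (X.presheaf.stalk x) M N)) := by
    generalize e.hom.left a = z
    refine TensorProduct.induction_on z (by rw [map_zero]; exact zero_mem _) (fun b c => ?_)
      (fun b c hb hc => by rw [map_add]; exact add_mem hb hc)
    show (b ⊗ₜ[X.presheaf.stalk x] stMap x s c : TensorProduct (X.presheaf.stalk x) M N) ∈ _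
    refine Submodule.smul_induction_on (p := fun w =>
      b ⊗ₜ[X.presheaf.stalk x] w ∈ m • (⊤ : Submodule (X.presheaf.stalk x) (TensorProduct (X.presheaf.stalk x) M N)))
      (hx c) (fun r hr w _ => ?_) (fun v w hv hw => ?_)
    · rw [TensorProduct.tmul_smul]
      exact Submodule.smul_mem_smul hr Submodule.mem_top
    · rw [TensorProduct.tmul_add]
      exact add_mem hv hw
  have h4 := Submodule.mem_map_of_mem (f := e.inv.right.hom) h3
  rw [Submodule.map_smul''] at h4
  exact Submodule.smul_mono le_rfl le_top h4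

theorem map_mem_pow {R : Type*} [CommRing R] {M N : Type*} [AddCommGroup M] [Module R M] [AddCommGroup N]
    [Module R N] (m : Ideal R) (φ : M →ₗ[R] N) (hφ : ∀ a, φ a ∈ m • (⊤ : Submodule R N)) {j : ℕ} {a : M}
    (ha : a ∈ m ^ j • (⊤ : Submodule R M)) : φ a ∈ m ^ (j + 1) • (⊤ : Submodule R N) := by
  have h1 := Submodule.mem_map_of_mem (f := φ) ha
  rw [Submodule.map_smul''] at h1
  rw [pow_succ, Submodule.mul_smul]
  exact Submodule.smul_mono le_rfl (by rintro _ ⟨b, -, rfl⟩; exact hφ b) h1

/-- One step down a sequence of negative twists. -/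
def stepDown {L D : X.Modules} (e : CohB1.tensorMod D L ≅ Coh.structureModule X)
    (s : Coh.structureModule X ⟶ L) (F : X.Modules) (q : ℕ) :
    twistIter D F (q + 1) ⟶ twistIter D F q :=
  (secMul s).app (twistIter D F (q + 1)) ≫
    ((AmpleVan.twComp D L).app (twistIter D F q) ≪≫
      ((DCoh.tensorBi (X := X)).flip.mapIso e).app (twistIter D F q) ≪≫
      AmpleVan.twUnit.app (twistIter D F q)).hom

theorem mono_stepDown {L D : X.Modules} (e : CohB1.tensorMod D L ≅ Coh.structureModule X)
    (s : Coh.structureModule X ⟶ L) (F : X.Modules) (q : ℕ)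
    [Mono ((secMul s).app (twistIter D F (q + 1)))] : Mono (stepDown e s F q) :=
  mono_comp _ _

theorem stalk_stepDown_mem {L D : X.Modules} (e : CohB1.tensorMod D L ≅ Coh.structureModule X)
    (s : Coh.structureModule X ⟶ L) (F : X.Modules) (q : ℕ) {x : X} (hx : vanishAt x s)
    (a : (DerSch.stalkFunctor X x).obj (twistIter D F (q + 1))) :
    (DerSch.stalkFunctor X x).map (stepDown e s F q) a ∈ IsLocalRing.maximalIdeal (X.presheaf.stalk x) •
      (⊤ : Submodule (X.presheaf.stalk x) ((DerSch.stalkFunctor X x).obj (twistIter D F q))) := by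
  simp only [stepDown, Functor.map_comp, ModuleCat.hom_comp, LinearMap.comp_apply]
  have h4 := Submodule.mem_map_of_mem
    (f := ((DerSch.stalkFunctor X x).map ((AmpleVan.twComp D L).app (twistIter D F q) ≪≫
      ((DCoh.tensorBi (X := X)).flip.mapIso e).app (twistIter D F q) ≪≫
      AmpleVan.twUnit.app (twistIter D F q)).hom).hom)
    (stalk_secMul_mem s (twistIter D F (q + 1)) hx a)
  rw [Submodule.map_smul''] at h4
  exact Submodule.smul_mono le_rfl le_top h4

theorem injective_mapLin_zero (k : Type u) [Field k] [X.Over (Spec (CommRingCat.of k))] {A B : X.Modules}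
    (f : A ⟶ B) [Mono f] : Function.Injective (mapLin k f 0) := fun x y hxy => by
  apply (Sheaf.H.equiv₀ (Coh.toAb A) isTerminalTop).injective
  refine QCoh.app_injective f ⊤ ?_
  have hx := Sheaf.H.equiv₀_naturality isTerminalTop ((QCoh.toAbFunctor X).map f) x
  have hy := Sheaf.H.equiv₀_naturality isTerminalTop ((QCoh.toAbFunctor X).map f) y
  exact hx.trans ((congrArg (Sheaf.H.equiv₀ (Coh.toAb B) isTerminalTop) hxy).trans hy.symm)

variable (k : Type u) [Field k] [X.Over (Spec (CommRingCat.of k))]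
  [IsProper (X ↘ Spec (CommRingCat.of k))]

include k in
/-- A closed integral subspace inside an affine open is a point. -/
theorem isClosed_singleton_of_closure_subset {η : X} {U : X.Opens} (hU : IsAffineOpen U)
    (h : closure ({η} : Set X) ⊆ U) : IsClosed ({η} : Set X) := by
  let J := Scheme.IdealSheafData.vanishingIdeal (Closeds.closure ({η} : Set X))
  haveI : IsIntegral J.subscheme := QCoh.isIntegral_closure_point η
  let i := J.subschemeι
  have hr : Set.range i.base = closure {η} := H23.RedSub.range_vanishingIdeal _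
  have haff : IsAffineOpen (⊤ : J.subscheme.Opens) := by
    have := hU.preimage i
    rwa [show i ⁻¹ᵁ U = ⊤ from eq_top_iff.2 fun z _ => h (hr ▸ ⟨z, rfl⟩)] at this
  haveI : IsAffine J.subscheme := by
    haveI : IsAffine (⊤ : J.subscheme.Opens) := haff
    exact .of_isIso (Scheme.topIso J.subscheme).inv
  let q := i ≫ (X ↘ Spec (CommRingCat.of k))
  haveI : IsFinite q := IsFinite.iff_isProper_and_isAffineHom.2 ⟨inferInstance, inferInstance⟩
  letI := ((Scheme.ΓSpecIso (CommRingCat.of k)).inv ≫ q.appTop).hom.toAlgebra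
  haveI : Module.Finite k Γ(J.subscheme, ⊤) := RingHom.finite_algebraMap.1 (by
    show ((Scheme.ΓSpecIso (CommRingCat.of k)).inv ≫ q.appTop).hom.Finite
    exact ((Scheme.Hom.finite_appTop q).comp
      (RingHom.Finite.of_surjective _
        (ConcreteCategory.bijective_of_isIso (Scheme.ΓSpecIso (CommRingCat.of k)).inv).2)))
  haveI : IsArtinianRing Γ(J.subscheme, ⊤) := IsArtinianRing.of_finite k _
  haveI : Subsingleton (Spec Γ(J.subscheme, ⊤)) := by
    letI := (IsArtinianRing.isField_of_isDomain Γ(J.subscheme, ⊤)).toField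
    exact inferInstanceAs (Subsingleton (PrimeSpectrum Γ(J.subscheme, ⊤)))
  haveI : Subsingleton J.subscheme := J.subscheme.isoSpec.hom.homeomorph.toEquiv.subsingleton
  refine isClosed_of_closure_subset fun y hy => ?_
  obtain ⟨z, rfl⟩ : y ∈ Set.range i.base := hr ▸ hy
  obtain ⟨w, hw⟩ : η ∈ Set.range i.base := hr ▸ subset_closure rfl
  exact (congrArg _ (Subsingleton.elim z w)).trans hw

set_option maxHeartbeats 400000 in
include k in
/-- Negative twists by a divisor with dense affine complement have eventually no sections. -/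
theorem exists_forall_twistIter_h0 (hdim : topologicalKrullDim X ≤ 1) (hX : Unmixed X)
    {L D : X.Modules} (hL : PicF.IsInvertible L) (hD : PicF.IsInvertible D)
    (e : CohB1.tensorMod D L ≅ Coh.structureModule X) (s : Coh.structureModule X ⟶ L)
    (haff : IsAffineOpen (CohB1.genLocus L s)) (hdense : ∀ y : X, y ∈ closure (CohB1.genLocus L s : Set X)) :
    ∃ q₀ : ℕ, ∀ q, q₀ ≤ q →
      Subsingleton (Coh.HH X (twistIter D (Coh.structureModule X) q) 0) := by
  haveI := isNoetherian_of_proper' k (X := X)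
  let G := twistIter D (Coh.structureModule X)
  have hG : ∀ q, PicF.IsInvertible (G q) := fun q => by
    induction q with
    | zero => exact InvX.isInvertible_structureModule
    | succ q ih => exact InvX.isInvertible_tensorMod ih hD
  have hGc : ∀ q, Coh.IsCoh (G q) := fun q => AmpleVan.isCoh_invertible (hG q)
  haveI := fun q => CurveCohLib.finite_HH (k := k) (hGc q) 0
  have hnc : ∀ η : X, ¬ IsClosed ({η} : Set X) → η ∈ CohB1.genLocus L s := fun η hη => by
    obtain ⟨u, hu, hs⟩ := exists_specializes_of_mem_closure (CohB1.genLocus L s) (hdense η)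
    by_cases hne : u = η
    · exact hne ▸ hu
    · exact absurd (eq_or_isClosed_of_specializes hdim hs hne) hη
  let nx : ∀ q, G (q + 1) ⟶ G q := stepDown e s (Coh.structureModule X)
  have hmono : ∀ q, Mono ((secMul s).app (G (q + 1))) := fun q => by
    refine InvEnd.mono_of_app_injective _ fun W => ?_
    rw [injective_iff_map_eq_zero]
    intro t ht
    refine eq_zero_of_nonclosed hX (hG (q + 1)) t fun η hη hηc => ?_
    haveI := isIso_stalk_secMul hL s (G (q + 1)) (hnc η hηc)
    apply ((ConcreteCategory.isIso_iff_bijective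
      ((DerSch.stalkFunctor X η).map ((secMul s).app (G (q + 1))))).1 inferInstance).1
    refine (DerSch.stalkFunctor_map_germ η _ W hη t).trans ?_
    erw [ht, map_zero, map_zero]
  have hnxm : ∀ q, Mono (nx q) := fun q => by haveI := hmono q; exact mono_stepDown e s _ q
  have hinj : ∀ q, Function.Injective (mapLin k (nx q) 0) := fun q => by
    haveI := hnxm q
    exact injective_mapLin_zero k (nx q)
  let d : ℕ → ℕ := fun q => Module.finrank k (Coh.HH X (G q) 0)
  have hd : ∀ q, d (q + 1) ≤ d q := fun q => LinearMap.finrank_le_finrank_of_injective (hinj q)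
  obtain ⟨q₀, hq₀⟩ : ∃ q₀, ∀ q, q₀ ≤ q → d q = d q₀ := by
    obtain ⟨q₀, hmin⟩ : ∃ q₀, ∀ q, d q₀ ≤ d q := ⟨Function.argmin d, fun q => Function.argmin_le d q⟩
    exact ⟨q₀, fun q hq => le_antisymm (antitone_nat_of_succ_le hd hq) (hmin q)⟩
  have hsurj : ∀ q, q₀ ≤ q → Function.Surjective (mapLin k (nx q) 0) := fun q hq =>
    (LinearMap.injective_iff_surjective_of_finrank_eq_finrank
      ((hq₀ (q + 1) (by omega)).trans (hq₀ q hq).symm)).1 (hinj q)
  refine ⟨q₀, fun q hq => subsingleton_of_forall_eq 0 fun v => ?_⟩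
  let sec : ∀ q, Coh.HH X (G q) 0 → Γ(G q, ⊤) := fun q v =>
    Sheaf.H.equiv₀ (Coh.toAb (G q)) isTerminalTop v
  have hpow : ∀ (j q : ℕ), q₀ ≤ q → ∀ (v : Coh.HH X (G q) 0) (x : X), x ∉ CohB1.genLocus L s →
      (G q).presheaf.germ ⊤ x trivial (sec q v) ∈ IsLocalRing.maximalIdeal (X.presheaf.stalk x) ^ j •
        (⊤ : Submodule (X.presheaf.stalk x) ((DerSch.stalkFunctor X x).obj (G q))) := by
    intro j
    induction j with
    | zero => intro q _ v x _; rw [pow_zero, one_smul]; exact Submodule.mem_top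
    | succ j ih =>
      intro q hq v x hx
      obtain ⟨w, rfl⟩ := hsurj q hq v
      have hsec : sec q (mapLin k (nx q) 0 w) = (nx q).app ⊤ (sec (q + 1) w) :=
        (Sheaf.H.equiv₀_naturality isTerminalTop ((QCoh.toAbFunctor X).map (nx q)) w).symm
      rw [hsec, ← DerSch.stalkFunctor_map_germ x (nx q) ⊤ trivial (sec (q + 1) w)]
      refine map_mem_pow _ ((DerSch.stalkFunctor X x).map (nx q)).hom (fun a => ?_) (ih (q + 1) (by omega) w x hx)
      have hv : vanishAt x s := not_not.1 fun h => hx ((mem_genLocus_iff hL s x).2 h)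
      exact stalk_stepDown_mem e s _ q hv a
  apply (Sheaf.H.equiv₀ (Coh.toAb (G q)) isTerminalTop).injective
  rw [map_zero]
  refine eq_zero_of_nonclosed hX (hG q) (sec q v) fun η _ hηc => ?_
  obtain ⟨x, hxcl, hxU⟩ : ∃ x ∈ closure ({η} : Set X), x ∉ CohB1.genLocus L s := by
    by_contra hne
    push Not at hne
    exact hηc (isClosed_singleton_of_closure_subset k haff hne)
  haveI := QCoh.finite_stalk_of_isFT (hGc q).1 (hGc q).2 x
  have hbot : (⨅ j : ℕ, IsLocalRing.maximalIdeal (X.presheaf.stalk x) ^ j •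
      (⊤ : Submodule (X.presheaf.stalk x) ((G q).presheaf.stalk x))) = ⊥ :=
    Ideal.iInf_pow_smul_eq_bot_of_isLocalRing _ (IsLocalRing.maximalIdeal.isMaximal _).ne_top
  have hx0 : (G q).presheaf.germ ⊤ x trivial (sec q v) = 0 :=
    (Submodule.mem_bot _).1 (hbot.le (Submodule.mem_iInf _ |>.2 fun j => hpow j q hq v x hxU))
  exact germ_eq_zero_of_specializes' (G q) (U := ⊤) (specializes_iff_mem_closure.2 hxcl) trivial _ hx0

/-- Tensoring with a frame is injective. -/
theorem eq_zero_of_tmul_eq_zero {M L : X.Modules} {U : X.Opens} {e : Γ(L, U)} (he : InvX.IsFrame e)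
    (t : Γ(M, U)) (h : InvX.tmul t e = 0) : t = 0 := by
  refine eq_zero_of_germs_eq_zero M t fun x hx => ?_
  have hb := he.germ_bijective hx
  let R := X.presheaf.stalk x
  let c : R →ₗ[R] (DerSch.stalkFunctor X x).obj L := LinearMap.toSpanSingleton R _ (L.presheaf.germ U x hx e)
  let ce := LinearEquiv.ofBijective c hb
  have h1 : (KFlatLib.stalkTensorIso x M L).hom
      (KFlatLib.gm M U hx t ⊗ₜ[R] KFlatLib.gm L U hx e) = 0 := by
    rw [KFlatLib.stalkTensorIso_gm]
    exact (congrArg ((CohB1.tensorMod M L).presheaf.germ U x hx) h).trans (map_zero _)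
  have h2 : (KFlatLib.gm M U hx t ⊗ₜ[R] KFlatLib.gm L U hx e :
      TensorProduct R ((DerSch.stalkFunctor X x).obj M) ((DerSch.stalkFunctor X x).obj L)) = 0 :=
    (KFlatLib.stalkTensorIso x M L).toLinearEquiv.injective (h1.trans (map_zero _).symm)
  have h3 := congrArg ((TensorProduct.rid R _).toLinearMap ∘ₗ LinearMap.lTensor _ ce.symm.toLinearMap) h2
  rw [map_zero] at h3
  have h4 : ce.symm (KFlatLib.gm L U hx e) = 1 :=
    ce.symm_apply_eq.2 (one_smul R (L.presheaf.germ U x hx e)).symm
  simp only [LinearMap.comp_apply, LinearMap.lTensor_tmul, LinearEquiv.coe_coe, TensorProduct.rid_tmul,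
    h4, one_smul] at h3
  exact h3

include k in
/-- A quasi-coherent module with no sections in large twists vanishes on the generating locus. -/
theorem subsingleton_stalk_of_twists {L M : X.Modules} (hL : PicF.IsInvertible L) (hM : Coh.IsQCoh M)
    (s : Coh.structureModule X ⟶ L) (haff : IsAffineOpen (CohB1.genLocus L s)) (n₀ : ℕ)
    (h : ∀ n, n₀ ≤ n → ∀ T : Γ(CohB1.tensorMod M (CohB1.tensorPow L n), ⊤), T = 0)
    {x : X} (hx : x ∈ CohB1.genLocus L s) : Subsingleton (M.presheaf.stalk x) := by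
  haveI := isNoetherian_of_proper' k (X := X)
  haveI : X.IsSeparated :=
    ⟨by rw [← terminal.comp_from (X ↘ Spec (CommRingCat.of k))]; infer_instance⟩
  have hsec : ∀ t : Γ(M, CohB1.genLocus L s), t = 0 := fun t => by
    obtain ⟨m, hm⟩ := AmpleX.exists_extend hM hL s t
    obtain ⟨T, hT⟩ := hm (max m n₀) (le_max_left _ _)
    have hfr : InvX.IsFrame (AModX.res L (le_top : CohB1.genLocus L s ≤ ⊤) (InvX.one s)) := by
      refine InvX.isFrame_of_germ fun y hy => ?_
      obtain ⟨V, hyV, hV⟩ := InvX.mem_genLocus hy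
      have := hV.germ_bijective hyV
      rw [InvX.germ_res'] at this ⊢
      exact this
    refine eq_zero_of_tmul_eq_zero (AmpleX.isFrame_powElt hfr (max m n₀)) t ?_
    rw [← hT, h _ (le_max_right _ _) T, map_zero]
  refine subsingleton_of_forall_eq 0 fun y => ?_
  letI := QCoh.stalkModule M hx
  haveI := QCoh.isLocalizedModule_germLin hM haff hx
  obtain ⟨⟨t, a⟩, hta⟩ := IsLocalizedModule.surj (haff.primeIdealOf ⟨x, hx⟩).asIdeal.primeCompl
    (QCoh.germLin M hx) y
  rw [hsec t, map_zero] at hta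
  exact ((Module.End.isUnit_iff _).1 (IsLocalizedModule.map_units (QCoh.germLin M hx) a)).1
    (hta.trans (map_zero _).symm)

end Groth.Agent.CurveDual15
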