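import Groth.Agent.CurveDual15.Pencil
import Groth.Agent.CurveDual15.CMDual

/-!
# Coherence of the dualizing module of a curve without embedded points
-/

set_option linter.style.haveILetI false
set_option linter.unusedSectionVars false
set_option backward.isDefEq.respectTransparency false
set_option backward.isDefEq.respectTransparency.types false

universe u

open CategoryTheory CategoryTheory.Limits AlgebraicGeometry TopologicalSpace Opposite MonoidalCategory Abelian
open Groth.Agent.PnCoh.Finite (mapLin)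
open Groth.Agent.H23.PicMul (cl_tensor cl_tensorPow cl_eq_iff)
open scoped Groth.Agent.H23.PicMul

attribute [local instance] HasDerivedCategory.standard
attribute [local instance] Groth.Agent.QCoh.hasFiniteBiproducts

noncomputable section

namespace Groth.Agent.CurveDual15

open Groth.Agent

variable (k : Type u) [Field k] {X : Scheme.{u}} [X.Over (Spec (CommRingCat.of k))]
  [IsProper (X ↘ Spec (CommRingCat.of k))]

include k in
/-- A pencil through any point: a section with affine dense generating locus and one covering the rest,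
with eventually no sections of the negative powers. -/
theorem exists_pencil (hequi : ∀ Z ∈ irreducibleComponents (X : Type u), topologicalKrullDim Z = 1)
    (hX : Unmixed X) (x : X) :
    ∃ (L D : X.Modules) (s t : Coh.structureModule X ⟶ L), PicF.IsInvertible L ∧ PicF.IsInvertible D ∧
      Nonempty (CohB1.tensorMod D L ≅ Coh.structureModule X) ∧
      x ∈ CohB1.genLocus L s ∧ IsAffineOpen (CohB1.genLocus L s) ∧
      (∀ y, y ∈ CohB1.genLocus L s ∨ y ∈ CohB1.genLocus L t) ∧
      ∃ q₀ : ℕ, ∀ q, q₀ ≤ q → Subsingleton (Coh.HH X (twistIter D (Coh.structureModule X) q) 0) := by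
  haveI := isNoetherian_of_proper' k (X := X)
  haveI : X.IsSeparated :=
    ⟨by rw [← terminal.comp_from (X ↘ Spec (CommRingCat.of k))]; infer_instance⟩
  have hdim := dim_le_one_of_equidim hequi
  obtain ⟨U, hU, hxU, hfin, hdisc⟩ := VarBase.DimOne.exists_affine_cofinite hdim x
  obtain ⟨L, s, t, hL, hs, ht⟩ := VarBase.DimOne.exists_two_sections hU hfin hdisc
    fun y _ => ⟨inferInstance, VarBase.DimOne.ringKrullDim_stalk_le hdim y⟩
  obtain ⟨D, hD, ⟨e⟩⟩ := H23.PicInv.exists_inverse hL
  obtain ⟨c⟩ := H23.PicMul.comm D L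
  refine ⟨L, D, s, t, hL, hD, ⟨c ≪≫ e⟩, hs ▸ hxU, hs ▸ hU, fun y => ?_,
    exists_forall_twistIter_h0 k hdim hX hL hD (c ≪≫ e) s (hs ▸ hU)
      (hs ▸ mem_closure_of_finite_compl k hequi hfin)⟩
  by_cases hy : y ∈ U
  · exact Or.inl (hs ▸ hy)
  · exact Or.inr (ht y hy)

variable [DCoh.HasRpush (str k X)] {h : DCoh.RpushPreservesQCoh (str k X)}
  [DCoh.HasShriek (str k X) h] {OY : DCoh.DQCoh (pt k)}

variable {k} in
/-- `H¹(ω ⊗ M) = 0` when the inverse of `M` has no sections. -/
theorem subsingleton_HH_one_omega_tensor (τ : Trace k h OY) (e : sh (omega k h OY 1) 1 ≅ TX k h OY)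
    {M P : X.Modules} (hP : PicF.IsInvertible P) (eP : CohB1.tensorMod M P ≅ Coh.structureModule X)
    (h0 : Subsingleton (Coh.HH X P 0)) :
    Subsingleton (Coh.HH X (CohB1.tensorMod (omega k h OY 1) M) 1) := by
  haveI := isNoetherian_of_proper' k (X := X)
  obtain ⟨ee⟩ := nonempty_ext_invertible hP eP (omega k h OY 1) 1
  haveI h2 : Subsingleton (OX X ⟶ sh P 0) := @Equiv.subsingleton _ _ (hhEquiv k P 0).toEquiv h0
  haveI : Subsingleton (Module.Dual k (OX X ⟶ sh P 0)) := ⟨fun a b => LinearMap.ext fun v => by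
    rw [Subsingleton.elim v 0, map_zero, map_zero]⟩
  haveI h3 : Subsingleton (sh P 0 ⟶ TX k h OY) :=
    (τ.bijective_pair (isQCohD_sh (AmpleVan.isCoh_invertible hP).1 0)).1.subsingleton
  have h4 : Subsingleton (DCoh.inD X P ⟶ sh (omega k h OY 1) 1) :=
    @Equiv.subsingleton _ _
      (Iso.homCongr ((shiftFunctorZero (DCoh.D X) ℤ).app (DCoh.inD X P)).symm e) h3
  haveI : Subsingleton (Ext P (omega k h OY 1) 1) :=
    @Equiv.subsingleton _ _ (Ext.homEquiv (X := P) (Y := omega k h OY 1) (n := 1)) h4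
  exact ee.symm.toEquiv.subsingleton

variable {k} in
set_option maxHeartbeats 800000 in
/-- The dualizing module of a curve without embedded points is coherent. -/
theorem isCoh_omega (hOY : Nonempty (OY.obj ≅ DCoh.inD (pt k) (Coh.structureModule (pt k))))
    (hequi : ∀ Z ∈ irreducibleComponents (X : Type u), topologicalKrullDim Z = 1) (hX : Unmixed X) :
    Coh.IsCoh (omega k h OY 1) := by
  haveI := isNoetherian_of_proper' k (X := X)
  have hdim := dim_le_one_of_equidim hequi
  obtain ⟨τ⟩ := nonempty_trace k h OY hOY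
  obtain ⟨eT⟩ := exists_omega_iso τ hequi hX
  obtain ⟨tr, htr⟩ := nonempty_homEquivDual (h := h) hOY 1 hdim
  let ω := omega k h OY 1
  choose L D s t hL hD eLD hx haff hcov q₀ hq₀ using exists_pencil k hequi hX
  have hcoverU : TopologicalSpace.IsOpenCover fun x : X => CohB1.genLocus (L x) (s x) :=
    top_unique fun y _ => Opens.mem_iSup.2 ⟨y, hx y⟩
  refine ⟨isQCoh_omega 1, QCoh.isFT_of_finite (isQCoh_omega 1) _ hcoverU haff fun x => ?_⟩
  have hL' := hL x
  let P : ℕ → X.Modules := twistIter (D x) (Coh.structureModule X)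
  have hP : ∀ n, PicF.IsInvertible (P n) := fun n => by
    obtain ⟨u⟩ := cl_eq_iff.1 ((cl_tensorPow (D x) n).trans (cl_twistIter (D x) n).symm)
    exact H23.PicMul.isInvertible_of_iso u (H23.PicMul.isInvertible_tensorPow (hD x) n)
  have eP : ∀ n, Nonempty (CohB1.tensorMod (CohB1.tensorPow (L x) n) (P n) ≅ Coh.structureModule X) := fun n => by
    refine cl_eq_iff.1 ?_
    have h1 : PicF.cl (L x) * PicF.cl (D x) = 1 := by
      rw [mul_comm, ← cl_tensor, H23.PicMul.one_def]; exact cl_eq_iff.2 (eLD x)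
    rw [cl_tensor, cl_tensorPow, cl_twistIter, ← mul_pow, h1, one_pow]
    rfl
  have h1 : ∀ n, q₀ x ≤ n → Subsingleton (Coh.HH X ((AmpleVan.itw (L x) n).obj ω) 1) := fun n hn => by
    obtain ⟨θ, -⟩ := AmpleVan.exists_itwIso (L x) ω n
    exact @Equiv.subsingleton _ _
      ((Sheaf.functorH _ 1).mapIso ((QCoh.toAbFunctor X).mapIso θ)).addCommGroupIsoToAddEquiv.toEquiv
      (subsingleton_HH_one_omega_tensor τ eT (hP n) (eP n).some (hq₀ x n hn))
  refine finite_sections_of_pencil (s x) (t x) k (isQCoh_omega 1) hL' (hcov x) (haff x) (q₀ x) h1 ?_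
  let m := q₀ x + 1
  let F := AmpleVan.itw (L x) m
  haveI : F.IsEquivalence := AmpleVan.isEquivalence_itw hL' m
  haveI : F.Additive := Functor.additive_of_preserves_binary_products _
  obtain ⟨θ₀, -⟩ := AmpleVan.exists_itwIso (L x) (P m) m
  obtain ⟨cc⟩ := H23.PicMul.comm (P m) (CohB1.tensorPow (L x) m)
  let e₀ : F.obj (P m) ≅ Coh.structureModule X := θ₀ ≪≫ cc ≪≫ (eP m).some
  have hA : Coh.IsCoh (F.obj (P m)) :=
    ⟨(QCoh.isQCoh_iff_iso e₀).2 QCoh.isCoh_structureModule'.1,
      (QCoh.isCoh_of_epi e₀.inv QCoh.isCoh_structureModule' ((QCoh.isQCoh_iff_iso e₀).2 QCoh.isCoh_structureModule'.1)).2⟩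
  haveI := CurveCohLib.finite_HH (k := k) (AmpleVan.isCoh_invertible (hP m)) 1
  haveI : Module.Finite k (P m ⟶ ω) :=
    Module.Finite.equiv (LinearEquiv.ofBijective _ (htr (P m) (AmpleVan.isCoh_invertible (hP m)).1)).symm
  obtain ⟨r, b, hb⟩ := Module.Finite.exists_fin (R := k) (M := (P m ⟶ ω))
  let T : ULift.{u} (Fin r) → X.Modules := fun _ => F.obj (P m)
  refine ⟨⨁ T, biproduct.desc fun i => F.map (b i.down), QCoh.isCoh_biproduct T fun _ => hA,
    fun {N} φ hφ u => ?_⟩
  have hbi : ∀ i, F.map (b i) ≫ φ = 0 := fun i => by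
    have := biproduct.ι T ⟨i⟩ ≫= hφ
    rwa [comp_zero, biproduct.ι_desc_assoc] at this
  have hall : ∀ g : P m ⟶ ω, F.map g ≫ φ = 0 := fun g => by
    have hg : g ∈ Submodule.span k (Set.range b) := hb ▸ Submodule.mem_top
    induction hg using Submodule.span_induction with
    | mem _ h => obtain ⟨i, rfl⟩ := h; exact hbi i
    | zero => rw [F.map_zero, zero_comp]
    | add a c _ _ ha hc => rw [F.map_add, Preadditive.add_comp, ha, hc, add_zero]
    | smul a g _ hg =>
      rw [show a • g = (a • 𝟙 (P m)) ≫ g by rw [Linear.smul_comp, Category.id_comp], F.map_comp,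
        Category.assoc, hg, comp_zero]
  obtain ⟨g, hg⟩ := F.map_surjective (e₀.hom ≫ QCoh.homOfTop u)
  have h2 : QCoh.homOfTop u ≫ φ = 0 := by
    rw [← cancel_epi e₀.hom, comp_zero, ← Category.assoc, ← hg]
    exact hall g
  have h3 := congrArg (fun ψ => Scheme.Modules.Hom.app ψ ⊤ (1 : Γ(X, ⊤))) h2
  have h4 : (QCoh.homOfTop u).app ⊤ (1 : Γ(X, ⊤)) = u := by
    rw [QCoh.homOfTop_app, one_smul]
    exact ConcreteCategory.congr_hom (((AmpleVan.itw (L x) (q₀ x + 1)).obj ω).presheaf.map_id _) _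
  rw [← h4]
  exact h3

end Groth.Agent.CurveDual15
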