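import Groth.Agent.CurveDual15.SingleHom
import Groth.Prelude.Def_DCoh2
import Groth.Prelude.Def_Formal
import Groth.Prelude.Def_KLin
import Mathlib.RingTheory.SimpleModule.InjectiveProjective
import Mathlib.Algebra.Category.ModuleCat.Projective
import Mathlib.Algebra.Category.ModuleCat.EnoughInjectives

/-!
# Duality on the spectrum of a field
-/

set_option linter.style.haveILetI false
set_option linter.unusedSectionVars false
set_option backward.isDefEq.respectTransparency false
set_option backward.isDefEq.respectTransparency.types false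

universe u

open CategoryTheory CategoryTheory.Limits AlgebraicGeometry Opposite TopologicalSpace

attribute [local instance] HasDerivedCategory.standard

noncomputable section

namespace Groth.Agent.CurveDual15

variable (k : Type u) [Field k]

/-- The point. -/
abbrev pt : Scheme.{u} := Spec (CommRingCat.of k)

/-- The point over itself. -/
abbrev ptOver : (pt k).Over (Spec (CommRingCat.of k)) := ⟨𝟙 _⟩

theorem eq_bot_or_top_opens (U : (pt k).Opens) : U = ⊥ ∨ U = ⊤ := by
  haveI : Subsingleton (pt k) := inferInstanceAs (Subsingleton (PrimeSpectrum k))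
  rcases (U : Set (pt k)).eq_empty_or_nonempty with h | ⟨x, hx⟩
  · exact Or.inl (Opens.ext (by simpa using h))
  · exact Or.inr (Opens.ext (Set.eq_univ_of_forall fun y => Subsingleton.elim x y ▸ hx))

/-- Every module on a scheme with one point is quasi-coherent. -/
theorem isIso_fromTildeΓ_of_subsingleton {R : CommRingCat.{u}} [Subsingleton (PrimeSpectrum R)]
    [Nontrivial R] (M : (Spec R).Modules) : IsIso M.fromTildeΓ := by
  rw [← isIso_iff_of_reflects_iso _ (modulesSpecToSheaf (R := R))]
  have htop : IsIso ((modulesSpecToSheaf.map M.fromTildeΓ).1.app (op ⊤)) := by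
    rw [← isIso_comp_left_iff (tilde.toOpen ((modulesSpecToSheaf.obj M).presheaf.obj (op ⊤)) ⊤),
      Scheme.Modules.toOpen_fromTildeΓ_app]
    simpa using IsIso.id _
  haveI : ∀ U, IsIso ((modulesSpecToSheaf.map M.fromTildeΓ).1.app U) := fun U => by
    haveI : Subsingleton (Spec R) := inferInstanceAs (Subsingleton (PrimeSpectrum R))
    rcases (U.unop : Set (Spec R)).eq_empty_or_nonempty with h | ⟨x, hx⟩
    · have hU : U = op ⊥ := by rw [← op_unop U]; exact congrArg op (Opens.ext (by simpa using h))
      subst hU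
      exact isIso_of_isTerminal (TopCat.Sheaf.isTerminalOfEmpty _) (TopCat.Sheaf.isTerminalOfEmpty _) _
    · have hU : U = op ⊤ := by
        rw [← op_unop U]
        exact congrArg op (Opens.ext (Set.eq_univ_of_forall fun y => Subsingleton.elim x y ▸ hx))
      subst hU
      exact htop
  haveI : IsIso (modulesSpecToSheaf.map M.fromTildeΓ).1 := NatIso.isIso_of_isIso_app _
  exact (isIso_iff_of_reflects_iso _ (TopCat.Sheaf.forget (ModuleCat R) (Spec R))).1 ‹_›

theorem isIso_fromTildeΓ_pt (M : (pt k).Modules) :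
    IsIso (Scheme.Modules.fromTildeΓ (R := CommRingCat.of k) M) :=
  @isIso_fromTildeΓ_of_subsingleton (CommRingCat.of k) (inferInstanceAs (Subsingleton (PrimeSpectrum k)))
    (inferInstanceAs (Nontrivial k)) M

instance full_tilde_pt : (tilde.functor (CommRingCat.of k)).Full :=
  (tilde.fullyFaithfulFunctor (R := CommRingCat.of k)).full

instance faithful_tilde_pt : (tilde.functor (CommRingCat.of k)).Faithful :=
  (tilde.fullyFaithfulFunctor (R := CommRingCat.of k)).faithful

instance additive_tilde_pt : (tilde.functor (CommRingCat.of k)).Additive :=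
  haveI : PreservesBinaryBiproducts (tilde.functor (CommRingCat.of k)) :=
    haveI := (tilde.adjunction (R := CommRingCat.of k)).isLeftAdjoint
    preservesBinaryBiproducts_of_preservesBinaryCoproducts _
  Functor.additive_of_preservesBinaryBiproducts _

instance essSurj_tilde_pt : (tilde.functor (CommRingCat.of k)).EssSurj :=
  ⟨fun M => (isIso_fromTildeΓ_iff (R := CommRingCat.of k) (M := M)).1 (isIso_fromTildeΓ_pt k M)⟩

instance isEquivalence_tilde_pt : (tilde.functor (CommRingCat.of k)).IsEquivalence where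

/-- The structure sheaf of the point. -/
abbrev OPt : (pt k).Modules := Coh.structureModule (pt k)

/-- It is the module associated with `k`. -/
def tildeK : (tilde.functor (CommRingCat.of k)).obj (ModuleCat.of k k) ≅ OPt k := tildeSelf

instance injective_OPt : Injective (OPt k) := by
  haveI : Module.Injective k k := Module.injective_of_isSemisimpleRing k k
  haveI : Injective (ModuleCat.of k k) := Module.injective_object_of_injective_module k k
  exact Injective.of_iso (tildeK k) <|
    ((tilde.functor (CommRingCat.of k)).asEquivalence.map_injective_iff (ModuleCat.of k k)).2 ‹_›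

instance projective_OPt : Projective (OPt k) := by
  haveI : Projective (ModuleCat.of k k) := (IsProjective.iff_projective (R := k) k).1 inferInstance
  exact Projective.of_iso (tildeK k) <|
    ((tilde.functor (CommRingCat.of k)).asEquivalence.map_projective_iff (ModuleCat.of k k)).2 ‹_›

/-- A pairing is perfect when functionals on `Hom(O, V)` are maps `V ⟶ O`. -/
def IsPerfectPairing {C : Type*} [Category C] [Preadditive C] (O V : C) : Prop :=
  ∀ F : (O ⟶ V) →+ (O ⟶ O), (∀ (e : O ⟶ O) (u : O ⟶ V), F (e ≫ u) = e ≫ F u) →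
    ∃! ψ : V ⟶ O, ∀ u, u ≫ ψ = F u

theorem isPerfectPairing_of_iso {C : Type*} [Category C] [Preadditive C] {O O' V V' : C}
    (eO : O ≅ O') (eV : V ≅ V') (h : IsPerfectPairing O V) : IsPerfectPairing O' V' := by
  intro F hF
  let F' : (O ⟶ V) →+ (O ⟶ O) := AddMonoidHom.mk'
    (fun u => eO.hom ≫ F (eO.inv ≫ u ≫ eV.hom) ≫ eO.inv) fun a b => by simp
  obtain ⟨ψ, hψ, huniq⟩ := h F' fun e u => by
    show eO.hom ≫ F (eO.inv ≫ (e ≫ u) ≫ eV.hom) ≫ eO.inv = e ≫ eO.hom ≫ F (eO.inv ≫ u ≫ eV.hom) ≫ eO.inv
    have := hF (eO.inv ≫ e ≫ eO.hom) (eO.inv ≫ u ≫ eV.hom)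
    simp only [Category.assoc, Iso.hom_inv_id_assoc] at this ⊢
    rw [this]
    simp
  refine ⟨eV.inv ≫ ψ ≫ eO.hom, fun u => ?_, fun χ hχ => ?_⟩
  · have := hψ (eO.hom ≫ u ≫ eV.inv)
    simp only [F', AddMonoidHom.mk'_apply, Category.assoc, Iso.inv_hom_id_assoc,
      Iso.inv_hom_id, Category.comp_id] at this
    rw [← cancel_epi eO.hom, ← cancel_mono eO.inv]
    simpa using this
  · have := huniq (eV.hom ≫ χ ≫ eO.inv) fun u => by
      show _ = eO.hom ≫ F (eO.inv ≫ u ≫ eV.hom) ≫ eO.inv
      rw [← hχ]
      simp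
    rw [← this]
    simp

theorem isPerfectPairing_map {C D : Type*} [Category C] [Preadditive C] [Category D] [Preadditive D]
    (G : C ⥤ D) [G.Additive] [G.Full] [G.Faithful] {O V : C} (h : IsPerfectPairing O V) :
    IsPerfectPairing (G.obj O) (G.obj V) := by
  intro F hF
  let F' : (O ⟶ V) →+ (O ⟶ O) := AddMonoidHom.mk' (fun u => G.preimage (F (G.map u))) fun a b => by
    apply G.map_injective
    simp
  obtain ⟨ψ, hψ, huniq⟩ := h F' fun e u => by
    apply G.map_injective
    simp [F', hF]
  refine ⟨G.map ψ, fun u => ?_, fun χ hχ => ?_⟩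
  · obtain ⟨u, rfl⟩ := G.map_surjective u
    rw [← G.map_comp, hψ]
    simp [F']
  · obtain ⟨χ, rfl⟩ := G.map_surjective χ
    rw [huniq χ fun u => by apply G.map_injective; simp [F', hχ]]

theorem isPerfectPairing_moduleCat (V : ModuleCat.{u} k) : IsPerfectPairing (ModuleCat.of k k) V := by
  intro F hF
  let su : V → (ModuleCat.of k k ⟶ V) := fun v => ModuleCat.ofHom (LinearMap.toSpanSingleton k V v)
  let ψ : V →ₗ[k] k :=
    { toFun := fun v => (F (su v)).hom (1 : k)
      map_add' := fun a b => by
        have : su (a + b) = su a + su b := by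
          ext
          simp [su]
        rw [this, map_add]
        rfl
      map_smul' := fun c a => by
        let e : ModuleCat.of k k ⟶ ModuleCat.of k k := ModuleCat.ofHom (c • LinearMap.id)
        have : su (c • a) = e ≫ su a := by
          ext
          simp [su, e]
        rw [this, hF]
        show (F (su a)).hom (c • (1 : k)) = _
        rw [map_smul]
        rfl }
  refine ⟨ModuleCat.ofHom ψ, fun u => ?_, fun χ hχ => ?_⟩
  · ext
    have : su (u.hom (1 : k)) = u := by
      ext
      simp [su]
    show (F (su (u.hom (1 : k)))).hom (1 : k) = _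
    rw [this]
  · refine ModuleCat.hom_ext (LinearMap.ext fun v => ?_)
    show χ.hom v = (F (su v)).hom (1 : k)
    rw [← hχ (su v)]
    show χ.hom v = χ.hom ((1 : k) • v)
    rw [one_smul]

/-- Modules on a point are dual to their sections. -/
theorem isPerfectPairing_pt (V : (pt k).Modules) : IsPerfectPairing (OPt k) V := by
  let e := (tilde.functor (CommRingCat.of k)).objObjPreimageIso V
  exact isPerfectPairing_of_iso (tildeK k) e
    (isPerfectPairing_map _ (isPerfectPairing_moduleCat k _))

/-- Complexes on a point are dual to their degree `0` cohomology. -/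
theorem existsUnique_pairing (K : DCoh.D (pt k))
    (F : (DCoh.inD (pt k) (OPt k) ⟶ K) →+ (DCoh.inD (pt k) (OPt k) ⟶ DCoh.inD (pt k) (OPt k)))
    (hF : ∀ (e : OPt k ⟶ OPt k) (u : DCoh.inD (pt k) (OPt k) ⟶ K),
      F ((DerivedCategory.singleFunctor _ 0).map e ≫ u) = (DerivedCategory.singleFunctor _ 0).map e ≫ F u) :
    ∃! ψ : K ⟶ DCoh.inD (pt k) (OPt k), ∀ u, u ≫ ψ = F u := by
  let V := (DerivedCategory.homologyFunctor (pt k).Modules 0).obj K
  have bP := bijective_fromP (OPt k) K
  have bI := bijective_toI (OPt k) K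
  let eP : (DCoh.inD (pt k) (OPt k) ⟶ K) ≃+ (OPt k ⟶ V) := AddEquiv.ofBijective
    (AddMonoidHom.mk' (fromP (OPt k) K) fun a b => by simp [fromP]) bP
  let rd : (DCoh.inD (pt k) (OPt k) ⟶ DCoh.inD (pt k) (OPt k)) → (OPt k ⟶ OPt k) := fun s =>
    fromP (OPt k) _ s ≫ (h0 (OPt k)).hom
  have hrd : Function.Injective rd := fun s t h =>
    (bijective_fromP_single (OPt k) (OPt k)).1 ((cancel_mono (h0 (OPt k)).hom).1 h)
  let F' : (OPt k ⟶ V) →+ (OPt k ⟶ OPt k) := AddMonoidHom.mk' (fun v => rd (F (eP.symm v))) fun a b => by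
    simp [rd, fromP]
  obtain ⟨ψ, hψ, huniq⟩ := isPerfectPairing_pt k V F' fun e v => by
    have : eP.symm (e ≫ v) = (DerivedCategory.singleFunctor _ 0).map e ≫ eP.symm v :=
      eP.injective (by
        rw [AddEquiv.apply_symm_apply]
        show _ = fromP (OPt k) K _
        rw [fromP_precomp]
        exact congrArg (e ≫ ·) (eP.apply_symm_apply v).symm)
    show rd (F (eP.symm (e ≫ v))) = e ≫ rd (F (eP.symm v))
    rw [this, hF]
    simp only [rd, fromP_precomp, Category.assoc]
  have key : ∀ (χ : K ⟶ DCoh.inD (pt k) (OPt k)) u,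
      rd (u ≫ χ) = eP u ≫ toI (OPt k) K χ := fun χ u => by
    show fromP (OPt k) _ (u ≫ χ) ≫ (h0 (OPt k)).hom = fromP (OPt k) K u ≫ _
    rw [fromP_comp, Category.assoc]
    rfl
  obtain ⟨χ, hχ⟩ := bI.2 ψ
  refine ⟨χ, fun u => hrd ?_, fun χ' hχ' => bI.1 ?_⟩
  · rw [key, hχ, hψ]
    show rd (F (eP.symm (eP u))) = _
    rw [eP.symm_apply_apply]
  · rw [hχ]
    refine huniq _ fun v => ?_
    show _ = rd (F (eP.symm v))
    rw [← hχ', key, eP.apply_symm_apply]

/-- Scalars as endomorphisms of the structure sheaf. -/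
def scalarHom (a : k) : OPt k ⟶ OPt k :=
  letI := ptOver k
  Formal.smulMod k (OPt k) a

theorem bijective_scalarHom : Function.Bijective (scalarHom k) := by
  let ev : (OPt k ⟶ OPt k) → Γ(pt k, ⊤) := fun φ => φ.app ⊤ (1 : Γ(pt k, ⊤))
  have hev : Function.Injective ev := fun φ ψ h => by
    refine (OPt k).unitHomEquiv.injective (Subtype.ext (funext fun U => ?_))
    rcases eq_bot_or_top_opens k U.unop with hU | hU
    · have : U = op ⊥ := by rw [← op_unop U, hU]
      subst this
      haveI : Subsingleton Γ(pt k, ⊥) := inferInstance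
      exact Subsingleton.elim (α := Γ(pt k, ⊥)) _ _
    · have : U = op ⊤ := by rw [← op_unop U, hU]
      subst this
      exact h
  have hs : ∀ a : k, ev (scalarHom k a) = (Scheme.ΓSpecIso (CommRingCat.of k)).inv a := fun a => by
    letI := ptOver k
    show (Formal.smulModΓ (OPt k) _).app ⊤ (1 : Γ(pt k, ⊤)) = _
    rw [KLin.smulModΓ_app_apply]
    show (pt k).presheaf.map _ _ * (1 : Γ(pt k, ⊤)) = _
    rw [mul_one]
    simp [Coh.toGlobal]
    rfl
  have hb : Function.Bijective (Scheme.ΓSpecIso (CommRingCat.of k)).inv :=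
    ConcreteCategory.bijective_of_isIso (Scheme.ΓSpecIso (CommRingCat.of k)).inv
  refine ⟨fun a b h => hb.1 ?_, fun φ => ?_⟩
  · rw [← hs, ← hs, h]
  · obtain ⟨a, ha⟩ := hb.2 (ev φ)
    exact ⟨a, hev ((hs a).trans ha)⟩

end Groth.Agent.CurveDual15
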