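import Groth.Agent.CurveDual15.Curve
import Groth.Agent.Lib.CurveSpecial
import Groth.Agent.S0047
import Groth.Prelude.Def_Curv2

/-!
# Global sections generating a punctual quotient of an extension of the dualizing module
-/

set_option linter.style.haveILetI false
set_option linter.unusedSectionVars false
set_option backward.isDefEq.respectTransparency false
set_option backward.isDefEq.respectTransparency.types false

universe u

open CategoryTheory CategoryTheory.Limits AlgebraicGeometry TopologicalSpace Opposite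
open Groth.Agent.PnCoh.Finite (mapLin)

attribute [local instance] HasDerivedCategory.standard

noncomputable section

namespace Groth.Agent.CurveDual15

variable {X : Scheme.{u}}

/-- A free module is quasi-coherent. -/
theorem isQCoh_free' (ι : Type u) : Coh.IsQCoh (SheafOfModules.free ι : X.Modules) :=
  QCoh.isQCoh_colimit _ fun _ => QCoh.isQCoh_structureModule

/-- The points of a closed set of dimension zero are closed. -/
theorem isClosed_singleton_of_support {M : X.Modules} (hM : Coh.IsCoh M)
    (h0 : topologicalKrullDim (CohB1.support M) ≤ 0) : ∀ x ∈ CohB1.support M, IsClosed ({x} : Set X) := by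
  intro x hx
  refine isClosed_of_closure_subset fun y hy => ?_
  have hc := QCoh.isClosed_support_of_isFT hM.1 hM.2
  have hyS : y ∈ CohB1.support M := hc.closure_subset_iff.2 (Set.singleton_subset_iff.2 hx) hy
  unfold topologicalKrullDim at h0
  have hmin := Order.krullDim_nonpos_iff_forall_isMin.1 h0
    (⟨closure {⟨x, hx⟩}, isIrreducible_singleton.closure, isClosed_closure⟩ :
      IrreducibleCloseds (CohB1.support M))
  have h2 : (⟨x, hx⟩ : CohB1.support M) ⤳ ⟨y, hyS⟩ :=
    (Topology.IsInducing.subtypeVal.specializes_iff).1 (specializes_iff_mem_closure.2 hy)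
  have h3 := hmin (b := ⟨closure {⟨y, hyS⟩}, isIrreducible_singleton.closure, isClosed_closure⟩)
    (specializes_iff_closure_subset.1 h2)
  exact congrArg Subtype.val ((specializes_iff_closure_subset.2 h3).antisymm h2).eq

theorem exists_kills_sections {F : X.Modules} : ∃ (ι : Type u) (p : (SheafOfModules.free ι : X.Modules) ⟶ F),
    ∀ {N : X.Modules} (φ : F ⟶ N), p ≫ φ = 0 → ∀ t : Γ(F, ⊤), φ.app ⊤ t = 0 := by
  let c : Cofan fun _ : (Coh.structureModule X ⟶ F) => Coh.structureModule X :=
    Cofan.mk (SheafOfModules.free (Coh.structureModule X ⟶ F) : X.Modules)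
      fun i => (SheafOfModules.ιFree i : Coh.structureModule X ⟶ _)
  have hc : IsColimit c := SheafOfModules.isColimitFreeCofan _
  refine ⟨_, Cofan.IsColimit.desc hc fun s => s, fun {N} φ hφ t => ?_⟩
  have h1 : QCoh.homOfTop t ≫ φ = 0 := by
    have := congrArg (fun e => c.inj (QCoh.homOfTop t) ≫ e) hφ
    simp only [Cofan.IsColimit.fac_assoc, comp_zero] at this
    exact this
  have h2 := congrArg (fun ψ => Scheme.Modules.Hom.app ψ ⊤ (1 : Γ(X, ⊤))) h1
  have h3 : (QCoh.homOfTop t).app ⊤ (1 : Γ(X, ⊤)) = t := by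
    rw [QCoh.homOfTop_app, one_smul]
    exact ConcreteCategory.congr_hom (F.presheaf.map_id _) _
  rw [← h3]
  exact h2

/-- The pullback of a kernel is a kernel of the composite. -/
def isKernelPullbackFst {A B C : X.Modules} (g : A ⟶ B) (π : B ⟶ C)
    (hw : pullback.fst g (kernel.ι π) ≫ g ≫ π = 0) :
    IsLimit (KernelFork.ofι (pullback.fst g (kernel.ι π)) hw) :=
  KernelFork.IsLimit.ofι' _ hw fun {T} a ha =>
    ⟨pullback.lift a (kernel.lift π (a ≫ g) (by rw [Category.assoc]; exact ha)) (kernel.lift_ι _ _ _).symm,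
      pullback.lift_fst _ _ _⟩

theorem isQCoh_pullback_fst {A B C : X.Modules} (g : A ⟶ B) (π : B ⟶ C)
    (hw : pullback.fst g (kernel.ι π) ≫ g ≫ π = 0) (hA : Coh.IsQCoh A) (hC : Coh.IsQCoh C) :
    Coh.IsQCoh (pullback g (kernel.ι π)) := by
  let e : kernel (g ≫ π) ≅ pullback g (kernel.ι π) :=
    IsLimit.conePointUniqueUpToIso (kernelIsKernel (g ≫ π)) (isKernelPullbackFst g π hw)
  exact (QCoh.isQCoh_iff_iso e).1 (QCoh.isQCoh_kernel hA hC (g ≫ π))

variable (k : Type u) [Field k] [X.Over (Spec (CommRingCat.of k))]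

theorem mapLin_zero_eq_zero {F N : X.Modules} (φ : F ⟶ N) (h : ∀ t : Γ(F, ⊤), φ.app ⊤ t = 0) :
    mapLin k φ 0 = 0 := LinearMap.ext fun x => by
  refine (Sheaf.H.equiv₀ (Coh.toAb N) isTerminalTop).injective ?_
  rw [LinearMap.zero_apply, map_zero]
  exact (Sheaf.H.equiv₀_naturality isTerminalTop ((QCoh.toAbFunctor X).map φ) x).symm.trans
    (h (Sheaf.H.equiv₀ (Coh.toAb F) isTerminalTop x : Γ(F, ⊤)))

variable [IsProper (X ↘ Spec (CommRingCat.of k))]
variable {k} [DCoh.HasRpush (str k X)] {h : DCoh.RpushPreservesQCoh (str k X)}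
  [DCoh.HasShriek (str k X) h] {OY : DCoh.DQCoh (pt k)}

theorem exists_generators (hOY : Nonempty (OY.obj ≅ DCoh.inD (pt k) (Coh.structureModule (pt k))))
    (hdim : topologicalKrullDim X = 1)
    (h0 : Module.finrank k (Coh.HH X (Coh.structureModule X) 0) = 1)
    {F Q : X.Modules} (hF : Coh.IsCoh F) (hQ : Coh.IsCoh Q)
    (f : omega k h OY 1 ⟶ F) (g : F ⟶ Q) [Epi g] (w : f ≫ g = 0) (hex : (ShortComplex.mk f g w).Exact)
    (hQc : ∀ x ∈ CohB1.support Q, IsClosed ({x} : Set X))
    (hQ2 : 2 ≤ Module.finrank k (Coh.HH X Q 0))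
    (hno : ∀ (Q' : X.Modules) (i : Q' ⟶ F), Mono i → Mono (i ≫ g) → IsZero Q') :
    ∃ (ι : Type u) (p : (SheafOfModules.free ι : X.Modules) ⟶ F), Epi (p ≫ g) := by
  haveI := isNoetherian_of_proper' k (X := X)
  have hd : topologicalKrullDim X ≤ ((1 : ℕ) : WithBot ℕ∞) := hdim.le
  have hω : Coh.IsQCoh (omega k h OY 1) := isQCoh_omega 1
  obtain ⟨ι, p, hp⟩ := exists_kills_sections (F := F)
  refine ⟨ι, p, by_contra fun hnot => ?_⟩
  obtain ⟨C, π, hπe, hpπ, hepiC, hCq⟩ : ∃ (C : X.Modules) (π : Q ⟶ C),
      Epi π ∧ (p ≫ g) ≫ π = 0 ∧ (IsZero C → Epi (p ≫ g)) ∧ Coh.IsQCoh C :=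
    ⟨cokernel (p ≫ g), cokernel.π (p ≫ g), inferInstance, cokernel.condition (p ≫ g),
      Preadditive.epi_of_isZero_cokernel (p ≫ g), QCoh.isQCoh_cokernel (isQCoh_free' ι) hQ.1 (p ≫ g)⟩
  haveI := hπe
  let j : kernel π ⟶ Q := kernel.ι π
  have hCc : Coh.IsCoh C := QCoh.isCoh_of_epi π hQ hCq
  have hQ1q : Coh.IsQCoh (kernel π) := QCoh.isQCoh_kernel hQ.1 hCq π
  have hQ1c : Coh.IsCoh (kernel π) := QCoh.isCoh_of_mono j hQ hQ1q
  have hQ1cl : ∀ x ∈ CohB1.support (kernel π), IsClosed ({x} : Set X) := fun x hx =>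
    hQc x (QCoh.mem_support_of_mono hQ1q hQ.1 j hx)
  have hsupC : CohB1.support C ⊆ CohB1.support Q := fun x hx hQx => hx <| by
    haveI : Subsingleton ((DerSch.stalkFunctor X x).obj Q) := hQx
    exact (show Function.Surjective ((DerSch.stalkFunctor X x).map π) from
      (ModuleCat.epi_iff_surjective _).1 inferInstance).subsingleton
  let F1 := pullback g j
  let f1 : omega k h OY 1 ⟶ F1 := pullback.lift f 0 (by rw [w, zero_comp])
  have hw : pullback.fst g j ≫ g ≫ π = 0 := by
    rw [pullback.condition_assoc, kernel.condition, comp_zero]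
  let hlim : IsLimit (KernelFork.ofι (pullback.fst g j) hw) := isKernelPullbackFst g π hw
  have hF1q : Coh.IsQCoh F1 := isQCoh_pullback_fst g π hw hF.1 hCq
  haveI : Epi (g ≫ π) := epi_comp _ _
  have hS : (ShortComplex.mk (pullback.fst g j) (g ≫ π) hw).ShortExact :=
    { exact := ShortComplex.exact_of_f_is_kernel _ hlim }
  have hex1 : (ShortComplex.mk f1 (pullback.snd g j) (pullback.lift_snd _ _ _)).Exact := by
    rw [ShortComplex.exact_iff_exact_up_to_refinements]
    intro T a ha
    obtain ⟨T', q, hq, b, hb⟩ := hex.exact_up_to_refinements (a ≫ pullback.fst g j) (by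
      dsimp only at ha ⊢
      rw [Category.assoc, pullback.condition, reassoc_of% ha, zero_comp])
    refine ⟨T', q, hq, b, ?_⟩
    dsimp only at ha hb ⊢
    apply pullback.hom_ext
    · rw [Category.assoc, Category.assoc, pullback.lift_fst]
      exact hb
    · rw [Category.assoc, Category.assoc, pullback.lift_snd, ha, comp_zero, comp_zero]
  obtain ⟨y, hy⟩ : ∃ y, mapLin k f1 1 y ≠ 0 := by
    by_contra hzero
    push Not at hzero
    haveI : Subsingleton (Coh.HH X F1 1) := subsingleton_of_forall_eq 0 fun x => by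
      haveI : Subsingleton (Coh.HH X (kernel π) 1) := S0047.result X _ hQ1c hQ1cl 1 one_pos
      obtain ⟨z, rfl⟩ := exists_preimage_top (k := k) 1 hd f1 (pullback.snd g j) (pullback.lift_snd _ _ _)
        hex1 hω hF1q hQ1q x (Subsingleton.elim _ _)
      exact hzero z
    refine hnot ?_
    have hC0 : IsZero C := by
      refine CurveCohLib.isZero_of_closedSupport hCc (fun x hx => hQc x (hsupC hx)) fun s => ?_
      obtain ⟨t, ht⟩ := QCoh.app_top_surjective_of_HH_one hS ‹_› s
      rw [← ht]
      exact hp (g ≫ π) ((Category.assoc _ _ _).symm.trans hpπ) t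
    exact hepiC hC0
  obtain ⟨r, hr⟩ := exists_retraction hOY 1 le_rfl hd h0 hF1q f1 y hy
  haveI : Mono (pullback.fst g j) := inferInstance
  have hmono : Mono ((kernel.ι r ≫ pullback.fst g j) ≫ g) := by
    refine Preadditive.mono_of_cancel_zero _ fun {T} a ha => ?_
    obtain ⟨T', q, hq, b, hb⟩ := hex.exact_up_to_refinements (a ≫ kernel.ι r ≫ pullback.fst g j)
      (by simpa only [Category.assoc] using ha)
    dsimp only at hb
    have h1 : q ≫ a ≫ kernel.ι r = b ≫ f1 := by
      apply pullback.hom_ext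
      · rw [Category.assoc, Category.assoc, Category.assoc, pullback.lift_fst]
        exact hb
      · rw [Category.assoc, Category.assoc, Category.assoc, pullback.lift_snd, comp_zero]
        have : a ≫ kernel.ι r ≫ pullback.snd g j = 0 := by
          rw [← cancel_mono j, zero_comp, Category.assoc, Category.assoc, ← pullback.condition]
          simpa only [Category.assoc] using ha
        rw [this, comp_zero]
    have h2 : b = 0 := by
      have := congrArg (· ≫ r) h1
      simp only [Category.assoc, kernel.condition, comp_zero, hr, Category.comp_id] at this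
      exact this.symm
    rw [h2, zero_comp] at h1
    rwa [← cancel_mono (kernel.ι r), zero_comp, ← cancel_epi q, comp_zero]
  have hker := hno _ (kernel.ι r ≫ pullback.fst g j) inferInstance hmono
  haveI : Mono r := Preadditive.mono_of_isZero_kernel _ hker
  have hfac : f1 ≫ pullback.snd g j = 0 := pullback.lift_snd _ _ _
  have hsnd : pullback.snd g j = 0 := by
    have hrf : r ≫ f1 = 𝟙 _ := by rw [← cancel_mono r, Category.assoc, hr, Category.comp_id, Category.id_comp]
    rw [← Category.id_comp (pullback.snd g j), ← hrf, Category.assoc, hfac, comp_zero]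
  have hj : j = 0 := by rw [← cancel_epi (pullback.snd g j), comp_zero, hsnd, zero_comp]
  have hpg : p ≫ g = 0 := by
    have : p ≫ g = kernel.lift π (p ≫ g) hpπ ≫ j := (kernel.lift_ι _ _ _).symm
    rw [this, hj, comp_zero]
  -- all sections of `F` die in `Q`, so `H⁰(Q)` embeds in `H¹` of a quotient of `ω`
  let S2 : ShortComplex X.Modules := ShortComplex.mk (kernel.ι g) g (kernel.condition g)
  have hS2 : S2.ShortExact := { exact := ShortComplex.exact_of_f_is_kernel _ (kernelIsKernel g) }
  have hinj : Function.Injective (PnCoh.Finite.deltaLin k hS2 0) := by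
    rw [← LinearMap.ker_eq_bot, CurveCohLib.ker_deltaLin k hS2 0, mapLin_zero_eq_zero k g (hp g hpg)]
    exact LinearMap.range_zero
  haveI : Epi (kernel.lift g f w) := hex.epi_kernelLift
  have hK : Coh.IsQCoh (kernel g) := QCoh.isQCoh_kernel hF.1 hQ.1 g
  haveI := CurveCohLib.finite_HH (k := k) (QCoh.isCoh_of_mono (kernel.ι g) hF hK) 1
  obtain ⟨hfin, hle⟩ := finrank_HH_omega_le (h := h) hOY 1 le_rfl hd
  haveI := hfin
  have h1 := (LinearMap.finrank_le_finrank_of_injective hinj).trans
    (LinearMap.finrank_le_finrank_of_surjective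
      (surjective_mapLin_top (k := k) 1 hd (kernel.lift g f w) hω hK))
  change Module.finrank k (Coh.HH X Q 0) ≤ _ at h1
  omega

end Groth.Agent.CurveDual15
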