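import Groth.Agent.CurveDual15.TorsionFree
import Groth.Agent.CurveDual15.Generate

/-!
# Torsion-free extensions of a punctual module by the dualizing module are globally generated
-/

set_option linter.style.haveILetI false
set_option linter.unusedSectionVars false
set_option backward.isDefEq.respectTransparency false
set_option backward.isDefEq.respectTransparency.types false

universe u

open CategoryTheory CategoryTheory.Limits AlgebraicGeometry TopologicalSpace Opposite
open Groth.Agent.PnCoh.Finite (mapLin)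
open Groth.Agent.CurveBundle (rk)

attribute [local instance] HasDerivedCategory.standard

noncomputable section

namespace Groth.Agent.CurveDual15

variable {X : Scheme.{u}} [IsIntegral X] [IsLocallyNoetherian X]

theorem exists_smul_eq_zero {M : X.Modules} (hq : Coh.IsQCoh M)
    (h : Subsingleton (M.presheaf.stalk (genericPoint X))) (x : X) (m : M.presheaf.stalk x) :
    ∃ a : X.presheaf.stalk x, a ≠ 0 ∧ a • m = 0 := by
  obtain ⟨W, hxW, t, rfl⟩ := TopCat.Presheaf.exists_germ_eq M.presheaf m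
  obtain ⟨_, ⟨V, hV, rfl⟩, hxV, hle⟩ :=
    X.isBasis_affineOpens.exists_subset_of_mem_open (show x ∈ W from hxW) W.2
  replace hle : V ≤ W := hle
  have hη : genericPoint X ∈ V :=
    ((genericPoint_spec X).specializes (Set.mem_univ x)).mem_open V.2 hxV
  have hg : M.presheaf.germ V _ hη (M.presheaf.map (homOfLE hle).op t) = 0 := h.elim _ _
  obtain ⟨f, hf, hft⟩ := (QCoh.germ_eq_zero_iff hq hV hη _).1 hg
  refine ⟨X.presheaf.germ V x hxV f, fun h0 => ?_, ?_⟩
  · have h2 : f = 0 := (map_eq_zero_iff _ (germ_injective_of_isIntegral X x hxV)).1 h0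
    subst h2
    simp at hf
  · rw [← M.presheaf.germ_res_apply (homOfLE hle) x hxV t, ← QCoh.germ_smul' M hxV, hft, map_zero]

theorem isZero_of_mono_torsion {F Q Q' : X.Modules} (hF : IsTFree F) (hQ : Coh.IsQCoh Q)
    (hη : Subsingleton (Q.presheaf.stalk (genericPoint X))) (i : Q' ⟶ F) [Mono i] (g : F ⟶ Q)
    [Mono (i ≫ g)] : IsZero Q' := by
  refine CurveCohLib.isZero_of_subsingleton_stalks fun x => subsingleton_of_forall_eq 0 fun m => ?_
  obtain ⟨a, ha, ham⟩ := exists_smul_eq_zero hQ hη x (Algz.stalkMapₗ (i ≫ g) x m)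
  have h1 : a • m = 0 := CurveBundle.stalkMap_injective (i ≫ g) x (by rw [map_smul, ham, map_zero])
  exact ((hF.of_mono i) x a m h1).resolve_left ha

theorem eq_zero_of_dual {K : Type*} [Field K] {M : Type*} [AddCommGroup M] [Module K M] {v : M}
    (h : ∀ g : Module.Dual K M, g v = 0) : v = 0 :=
  (Module.forall_dual_apply_eq_zero_iff K v).1 h

theorem comp_eq_zero_of_sections {M N : X.Modules} (π : M ⟶ N) (h : ∀ t : Γ(M, ⊤), π.app ⊤ t = 0)
    (u : Coh.structureModule X ⟶ M) : u ≫ π = 0 :=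
  CurveRR.hom_ext_one ((h (u.app ⊤ (H23.Frame.one ⊤))).trans rfl)

variable {k : Type u} [Field k] [X.Over (Spec (CommRingCat.of k))]
  [IsProper (X ↘ Spec (CommRingCat.of k))]

include k in
theorem closed_support_of_rk_eq_zero (hdim : topologicalKrullDim X = 1) {Q : X.Modules}
    (hQ : Coh.IsCoh Q) (h : rk Q = 0) : ∀ x ∈ CohB1.support Q, IsClosed ({x} : Set X) := fun x hx => by
  haveI := CurveCohLib.isNoetherian_of_proper (k := k) (X := X)
  by_contra hxc
  obtain rfl := CurveCohLib.eq_genericPoint_of_not_isClosed hdim hxc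
  letI := (CurveBundle.isField_stalk_generic (X := X)).toField
  haveI := CurveBundle.finite_stalk_of_coh hQ (genericPoint X)
  exact hx (Module.finrank_zero_iff.1 h)

variable [DCoh.HasRpush (str k X)] {h : DCoh.RpushPreservesQCoh (str k X)}
  [DCoh.HasShriek (str k X) h] {OY : DCoh.DQCoh (pt k)}

set_option maxHeartbeats 1600000 in
theorem isGloballyGenerated_of_ext (hOY : Nonempty (OY.obj ≅ DCoh.inD (pt k) (Coh.structureModule (pt k))))
    (hdim : topologicalKrullDim X = 1)
    (h0 : Module.finrank k (Coh.HH X (Coh.structureModule X) 0) = 1)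
    {F Q : X.Modules} (hF : Coh.IsCoh F) (hQ : Coh.IsCoh Q)
    (f : omega k h OY 1 ⟶ F) (g : F ⟶ Q) (w : f ≫ g = 0) (hex : (ShortComplex.mk f g w).ShortExact)
    (htf : IsTFree F) (hQc : ∀ x ∈ CohB1.support Q, IsClosed ({x} : Set X))
    (hQη : Subsingleton (Q.presheaf.stalk (genericPoint X)))
    (hQ2 : 2 ≤ Module.finrank k (Coh.HH X Q 0)) : Curv2.IsGloballyGenerated F := by
  haveI := CurveCohLib.isNoetherian_of_proper (k := k) (X := X)
  have hd : topologicalKrullDim X ≤ ((1 : ℕ) : WithBot ℕ∞) := hdim.le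
  haveI : Mono f := hex.mono_f
  haveI : Epi g := hex.epi_g
  have hω : Coh.IsCoh (omega k h OY 1) := QCoh.isCoh_of_mono f hF (isQCoh_omega 1)
  obtain ⟨ι, p, hpg⟩ := exists_generators hOY hdim h0 hF hQ f g w hex.exact hQc hQ2
    fun Q' i hi hig => by
      haveI := hi; haveI := hig
      exact isZero_of_mono_torsion htf hQ.1 hQη i g
  -- all sections
  obtain ⟨ι', q, hq⟩ := exists_kills_sections (F := F)
  refine ⟨ι', q, ?_⟩
  obtain ⟨C, π, hπe, hqπ, hC0, hCq, hfac⟩ : ∃ (C : X.Modules) (π : F ⟶ C), Epi π ∧ q ≫ π = 0 ∧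
      (IsZero C → Epi q) ∧ Coh.IsQCoh C ∧ ∃ q0 : (SheafOfModules.free ι' : X.Modules) ⟶ kernel π,
        Epi q0 ∧ q0 ≫ kernel.ι π = q :=
    ⟨cokernel q, cokernel.π q, inferInstance, cokernel.condition q, Preadditive.epi_of_isZero_cokernel q,
      QCoh.isQCoh_cokernel (isQCoh_free' ι') hF.1 q, Abelian.factorThruImage q,
      inferInstance, Abelian.image.fac q⟩
  obtain ⟨q0, hq0, hq0fac⟩ := hfac
  haveI := hq0; haveI := hπe
  apply hC0
  by_contra hCne
  have hsec := hq π hqπ
  have hu := comp_eq_zero_of_sections π hsec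
  have hpπ : p ≫ π = 0 := by
    let c : Cofan fun _ : ι => Coh.structureModule X :=
      Cofan.mk (SheafOfModules.free ι : X.Modules) fun i => (SheafOfModules.ιFree i : Coh.structureModule X ⟶ _)
    have hc : IsColimit c := SheafOfModules.isColimitFreeCofan ι
    refine hc.hom_ext fun ⟨i⟩ => ?_
    rw [comp_zero, ← Category.assoc]
    exact hu _
  haveI hepi : Epi (f ≫ π) := Preadditive.epi_of_cancel_zero _ fun {N} ψ hψ => by
    haveI := hpg
    have hψ' : f ≫ π ≫ ψ = 0 := by rw [← Category.assoc]; exact hψ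
    let χ := hex.exact.desc (π ≫ ψ) hψ'
    have hχ : g ≫ χ = π ≫ ψ := hex.exact.g_desc _ _
    have : χ = 0 := by
      rw [← cancel_epi (p ≫ g), comp_zero, Category.assoc, hχ, reassoc_of% hpπ, zero_comp]
    rw [this, comp_zero] at hχ
    exact (cancel_epi π).1 (hχ.symm.trans comp_zero.symm)
  have hCc : Coh.IsCoh C := QCoh.isCoh_of_epi π hF hCq
  have hF0c : Coh.IsCoh (kernel π) := QCoh.isCoh_kernel hF hCc π
  have hω'c : Coh.IsCoh (kernel (f ≫ π)) := QCoh.isCoh_kernel hω hCc (f ≫ π)
  have hωtf : IsTFree (omega k h OY 1) := htf.of_mono f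
  -- ranks
  letI := (CurveBundle.isField_stalk_generic (X := X)).toField
  have hrQ : rk Q = 0 := Module.finrank_zero_of_subsingleton
  have hrω := rk_omega hOY hdim hω hωtf
  have hr1 := CurveSlope.rk_add_coh k f g w hex hF
  have hr2 := CurveSlope.rk_add_coh k _ _ _ (CurveSlope.shortExact_kernel_of_epi π) hF
  have hr3 := CurveSlope.rk_add_coh k _ _ _ (CurveSlope.shortExact_kernel_of_epi (f ≫ π)) hω
  have hF00 : rk (kernel π) ≠ 0 := fun hh => by
    have hz := (htf.of_mono (kernel.ι π)).isZero_of_rk_eq_zero hF0c hh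
    have hp0 : p = 0 := by
      rw [← kernel.lift_ι π p hpπ, hz.eq_of_tgt (kernel.lift π p hpπ) 0, zero_comp]
    haveI := hpg
    have hz' : IsZero Q := by
      rw [IsZero.iff_id_eq_zero, ← cancel_epi (p ≫ g), hp0, zero_comp, zero_comp, zero_comp]
    haveI : Subsingleton (Coh.HH X Q 0) := subsingleton_of_forall_eq 0 fun x => by
      apply (Sheaf.H.equiv₀ (Coh.toAb Q) isTerminalTop).injective
      rw [map_zero]
      have := congrArg (fun φ => Scheme.Modules.Hom.app φ ⊤
        (Sheaf.H.equiv₀ (Coh.toAb Q) isTerminalTop x : Γ(Q, ⊤))) ((IsZero.iff_id_eq_zero _).1 hz')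
      exact this
    rw [Module.finrank_zero_of_subsingleton] at hQ2
    omega
  have hrC : rk C = 0 := by omega
  have hCcl := closed_support_of_rk_eq_zero (k := k) hdim hCc hrC
  -- a non-zero map to `ω`
  obtain ⟨t, ht⟩ := nonempty_homEquivDual (h := h) hOY 1 hd
  obtain ⟨φ, hφ⟩ : ∃ φ : kernel π ⟶ omega k h OY 1, φ ≠ 0 := by
    by_contra hne
    push Not at hne
    haveI : Subsingleton (Coh.HH X (kernel π) 1) := subsingleton_of_forall_eq 0 fun v =>
      eq_zero_of_dual fun l : Module.Dual k _ => by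
        obtain ⟨φ, rfl⟩ := (ht _ hF0c.1).2 l
        rw [hne φ, map_zero]
        rfl
    refine hCne (CurveCohLib.isZero_of_closedSupport hCc hCcl fun s => ?_)
    obtain ⟨v, hv⟩ := QCoh.app_top_surjective_of_HH_one
      (CurveSlope.shortExact_kernel_of_epi π) ‹_› s
    exact hv.symm.trans (hsec v)
  have hφf : φ ≫ f ≫ π = 0 := by
    rw [← cancel_epi q0, comp_zero]
    let c : Cofan fun _ : ι' => Coh.structureModule X :=
      Cofan.mk (SheafOfModules.free ι' : X.Modules) fun i => (SheafOfModules.ιFree i : Coh.structureModule X ⟶ _)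
    have hc : IsColimit c := SheafOfModules.isColimitFreeCofan ι'
    refine hc.hom_ext fun ⟨i⟩ => ?_
    rw [comp_zero]
    have := hu (c.inj i ≫ q0 ≫ φ ≫ f)
    simp only [Category.assoc] at this
    exact this
  haveI hφm : Mono φ := by
    refine Preadditive.mono_of_isZero_kernel φ
      (((htf.of_mono (kernel.ι π)).of_mono (kernel.ι φ)).isZero_of_rk_eq_zero
        (QCoh.isCoh_kernel hF0c hω φ) ?_)
    obtain ⟨I, e, j, hj, hej, -, hIc, he, w', hSI⟩ := CurveSlope.exists_factor hF0c hω φ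
    have h1 := CurveSlope.rk_add_coh k _ _ _ hSI hF0c
    haveI := hj
    have hI0 : rk I ≠ 0 := fun hh => hφ (by
      rw [← hej, ((htf.of_mono f).of_mono j).isZero_of_rk_eq_zero hIc hh |>.eq_of_tgt e 0, zero_comp])
    omega
  let φ' : kernel π ⟶ kernel (f ≫ π) := kernel.lift (f ≫ π) φ hφf
  haveI : Mono φ' := mono_of_mono_fac (kernel.lift_ι (f ≫ π) φ hφf)
  have hQ'c : Coh.IsCoh (cokernel φ') := QCoh.isCoh_cokernel hF0c.1 hω'c φ'
  have hr4 := CurveSlope.rk_add_coh k _ _ _ (CurveSlope.shortExact_cokernel_of_mono φ') hω'c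
  have e1 := CurveBundle.euler_add' k f g w hex hω hF hQ
  have e2 := CurveBundle.euler_add' k _ _ _ (CurveSlope.shortExact_kernel_of_epi π) hF0c hF hCc
  have e3 := CurveBundle.euler_add' k _ _ _ (CurveSlope.shortExact_kernel_of_epi (f ≫ π)) hω'c hω hCc
  have e4 := CurveBundle.euler_add' k _ _ _ (CurveSlope.shortExact_cokernel_of_mono φ') hF0c hω'c hQ'c
  rw [CurveCohLib.euler_eq_finrank_zero (k := k) hQ hQc] at e1
  rw [CurveCohLib.euler_eq_finrank_zero (k := k) hQ'c
    (closed_support_of_rk_eq_zero (k := k) hdim hQ'c (by omega))] at e4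
  omega

end Groth.Agent.CurveDual15
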