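import Groth.Agent.AmpleVan.Tw
import Groth.Agent.InvX.GenLocus
import Groth.Agent.InvX.Tensor
import Groth.Agent.Lib.CurveTensor
import Groth.Prelude.Def_Curv2

/-!
# Multiplication by a section of an invertible module
-/

set_option linter.style.haveILetI false
set_option linter.unusedSectionVars false
set_option backward.isDefEq.respectTransparency false
set_option backward.isDefEq.respectTransparency.types false

universe u

open CategoryTheory CategoryTheory.Limits AlgebraicGeometry TopologicalSpace Opposite MonoidalCategory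

noncomputable section

namespace Groth.Agent.CurveDual15

variable {X : Scheme.{u}} {L : X.Modules}

/-- Multiplication by a section, as a natural transformation. -/
def secMul (s : Coh.structureModule X ⟶ L) : 𝟭 X.Modules ⟶ AmpleVan.tw L :=
  AmpleVan.twUnit.inv ≫ (DCoh.tensorBi (X := X)).flip.map s

theorem secMul_app (s : Coh.structureModule X ⟶ L) (F : X.Modules) :
    (secMul s).app F = AmpleVan.twUnit.inv.app F ≫ (DCoh.tensorBi.obj F).map s := rfl

theorem exists_map_comp_ne_zero (hgg : Curv2.IsGloballyGenerated L) {A : Type*} [Category A]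
    [Preadditive A] (Φ : X.Modules ⥤ A) [∀ J : Type u, PreservesColimitsOfShape (Discrete J) Φ] [Φ.PreservesEpimorphisms] {W : A} (θ : Φ.obj L ⟶ W) (hθ : θ ≠ 0) :
    ∃ s : Coh.structureModule X ⟶ L, Φ.map s ≫ θ ≠ 0 := by
  obtain ⟨ι, p, hp⟩ := hgg
  by_contra hne
  push Not at hne
  apply hθ
  haveI := hp
  rw [← cancel_epi (Φ.map p), comp_zero]
  let c : Cofan fun _ : ι => Coh.structureModule X :=
    Cofan.mk (SheafOfModules.free ι : X.Modules) fun i => (SheafOfModules.ιFree i : Coh.structureModule X ⟶ _)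
  have hc : IsColimit c := SheafOfModules.isColimitFreeCofan ι
  refine (isColimitOfPreserves Φ hc).hom_ext fun ⟨i⟩ => ?_
  rw [comp_zero, ← Category.assoc]
  show (Φ.map (c.inj i) ≫ Φ.map p) ≫ θ = 0
  rw [← Φ.map_comp]
  exact hne _

section Stalk

/-- The stalk of a section. -/
abbrev stMap (x : X) (s : Coh.structureModule X ⟶ L) :=
  (DerSch.stalkFunctor X x).map s

theorem germ_smul_one (x : X) (a : (DerSch.stalkFunctor X x).obj (Coh.structureModule X)) :
    ∃ c : X.presheaf.stalk x,
      a = c • (Coh.structureModule X).presheaf.germ ⊤ x trivial (1 : Γ(X, ⊤)) := by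
  obtain ⟨U, hx, r, hr⟩ := (Coh.structureModule X).presheaf.germ_exist a
  revert r
  intro (r : Γ(X, U)) hr
  refine ⟨X.presheaf.germ U x hx r, hr.symm.trans ?_⟩
  have h1 : (show Γ(Coh.structureModule X, U) from r) =
      r • (show Γ(Coh.structureModule X, U) from (1 : Γ(X, U))) := (mul_one r).symm
  refine (congrArg _ h1).trans ((QCoh.germ_smul' (Coh.structureModule X) hx _ _).trans (congrArg _ ?_))
  refine Eq.trans ?_ ((Coh.structureModule X).presheaf.germ_res_apply (homOfLE (le_top : U ≤ ⊤)) x hx _)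
  exact congrArg _ (map_one (X.presheaf.map (homOfLE (le_top : U ≤ ⊤)).op).hom).symm

theorem stMap_germ_one (x : X) (s : Coh.structureModule X ⟶ L) :
    stMap x s ((Coh.structureModule X).presheaf.germ ⊤ x trivial (1 : Γ(X, ⊤))) =
      L.presheaf.germ ⊤ x trivial (InvX.one s) :=
  DerSch.stalkFunctor_map_germ x s ⊤ trivial _

/-- The sections whose value at a point is in the maximal ideal. -/
def vanishAt (x : X) (s : Coh.structureModule X ⟶ L) : Prop :=
  ∀ a, stMap x s a ∈ IsLocalRing.maximalIdeal (X.presheaf.stalk x) •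
    (⊤ : Submodule (X.presheaf.stalk x) ((DerSch.stalkFunctor X x).obj L))

theorem vanishAt_iff (x : X) (s : Coh.structureModule X ⟶ L) :
    vanishAt x s ↔ L.presheaf.germ ⊤ x trivial (InvX.one s) ∈
      IsLocalRing.maximalIdeal (X.presheaf.stalk x) •
        (⊤ : Submodule (X.presheaf.stalk x) ((DerSch.stalkFunctor X x).obj L)) := by
  refine ⟨fun h => stMap_germ_one x s ▸ h _, fun h a => ?_⟩
  obtain ⟨c, rfl⟩ := germ_smul_one x a
  have h2 : stMap x s (c • ((Coh.structureModule X).presheaf.germ ⊤ x trivial (1 : Γ(X, ⊤)) :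
      (DerSch.stalkFunctor X x).obj (Coh.structureModule X))) = c • stMap x s _ := map_smul _ _ _
  refine h2 ▸ ?_
  rw [stMap_germ_one]
  exact Submodule.smul_mem _ c h

theorem mem_genLocus_iff (hL : PicF.IsInvertible L) (s : Coh.structureModule X ⟶ L) (x : X) :
    x ∈ CohB1.genLocus L s ↔ ¬ vanishAt x s := by
  obtain ⟨U, hx, e, he⟩ := InvX.exists_frame hL x
  obtain ⟨g, hg⟩ := he.exists_coord le_rfl (AModX.res L (le_top : U ≤ ⊤) (InvX.one s))
  rw [AModX.res_self] at hg
  have h1 : x ∈ CohB1.genLocus L s ↔ IsUnit (X.presheaf.germ U x hx g) := by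
    rw [← X.mem_basicOpen g x hx, ← InvX.genLocus_inf s he hg]
    exact ⟨fun h => ⟨h, hx⟩, fun h => h.1⟩
  have h2 : L.presheaf.germ ⊤ x trivial (InvX.one s) =
      X.presheaf.germ U x hx g • L.presheaf.germ U x hx e := by
    rw [← QCoh.germ_smul' L hx, ← hg]
    exact (L.presheaf.germ_res_apply (homOfLE le_top) x hx (InvX.one s)).symm
  have hb := he.germ_bijective hx
  rw [h1, vanishAt_iff, h2]
  constructor
  · intro hu hmem
    have htop : (⊤ : Submodule (X.presheaf.stalk x) ((DerSch.stalkFunctor X x).obj L)) ≤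
        IsLocalRing.maximalIdeal (X.presheaf.stalk x) •
          Submodule.span (X.presheaf.stalk x) {L.presheaf.germ U x hx e} := by
      intro y _
      have hspan : Submodule.span (X.presheaf.stalk x)
          {(L.presheaf.germ U x hx e : (DerSch.stalkFunctor X x).obj L)} = ⊤ :=
        eq_top_iff.2 fun z _ => Submodule.mem_span_singleton.2 (hb.2 z)
      rw [hspan]
      obtain ⟨c, rfl⟩ := hb.2 y
      obtain ⟨v, hv⟩ := hu
      have : c • (L.presheaf.germ U x hx e : (DerSch.stalkFunctor X x).obj L) =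
          (c * ↑v⁻¹) • (X.presheaf.germ U x hx g • L.presheaf.germ U x hx e) := by
        rw [smul_smul, mul_assoc, ← hv, Units.inv_mul, mul_one]
      show c • (L.presheaf.germ U x hx e : (DerSch.stalkFunctor X x).obj L) ∈ _
      rw [this]
      exact Submodule.smul_mem _ _ hmem
    obtain ⟨c, hc, hce⟩ := Submodule.mem_smul_span_singleton.1
      (htop (Submodule.mem_top (x := (L.presheaf.germ U x hx e : (DerSch.stalkFunctor X x).obj L))))
    have : c = 1 := hb.1 (hce.trans (one_smul _ _).symm)
    subst this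
    exact (IsLocalRing.maximalIdeal.isMaximal _).ne_top ((Ideal.eq_top_iff_one _).2 hc)
  · intro h
    by_contra hu
    exact h (Submodule.smul_mem_smul hu Submodule.mem_top)

theorem isIso_stMap (hL : PicF.IsInvertible L) (s : Coh.structureModule X ⟶ L) {x : X}
    (hx : x ∈ CohB1.genLocus L s) : IsIso (stMap x s) := by
  obtain ⟨U, hxU, hU⟩ := InvX.mem_genLocus hx
  have hb := hU.germ_bijective hxU
  rw [InvX.germ_res'] at hb
  refine (ConcreteCategory.isIso_iff_bijective _).2 ⟨fun a b hab => ?_, fun y => ?_⟩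
  · obtain ⟨c, rfl⟩ := germ_smul_one x a
    obtain ⟨d, rfl⟩ := germ_smul_one x b
    have key : ∀ c : X.presheaf.stalk x, stMap x s
        (c • ((Coh.structureModule X).presheaf.germ ⊤ x trivial (1 : Γ(X, ⊤)) :
          (DerSch.stalkFunctor X x).obj (Coh.structureModule X))) =
        c • (L.presheaf.germ ⊤ x trivial (InvX.one s) : (DerSch.stalkFunctor X x).obj L) :=
      fun c => (map_smul _ _ _).trans (congrArg _ (stMap_germ_one x s))
    exact congrArg (· • _) (hb.1 ((key c).symm.trans (hab.trans (key d))))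
  · obtain ⟨c, rfl⟩ := hb.2 y
    exact ⟨c • _, (map_smul _ _ _).trans (congrArg _ (stMap_germ_one x s))⟩

theorem nonempty_iso_of_genLocus_eq_top (hL : PicF.IsInvertible L) (s : Coh.structureModule X ⟶ L)
    (h : ∀ x, x ∈ CohB1.genLocus L s) : Nonempty (L ≅ Coh.structureModule X) := by
  haveI : IsIso s := KFlatLib.isIso_of_stalk _ fun x => isIso_stMap hL s (h x)
  exact ⟨(asIso s).symm⟩

/-- The stalk of a multiplication map. -/
def stArrowIso (s : Coh.structureModule X ⟶ L) (F : X.Modules) (x : X) :
    Arrow.mk ((DerSch.stalkFunctor X x).map ((secMul s).app F)) ≅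
      Arrow.mk ((tensorLeft ((DerSch.stalkFunctor X x).obj F)).map (stMap x s)) :=
  Arrow.isoMk ((DerSch.stalkFunctor X x).mapIso ((AmpleVan.twUnit (X := X)).app F).symm ≪≫
      (KFlatLib.stalkTensorLeftIso F x).app (Coh.structureModule X))
    ((KFlatLib.stalkTensorLeftIso F x).app L) (by
      have hn := (KFlatLib.stalkTensorLeftIso F x).hom.naturality s
      simp only [Arrow.mk_hom, Functor.id_map, secMul_app, Functor.map_comp, Iso.trans_hom,
        Functor.mapIso_hom, Iso.symm_hom, Iso.app_inv, Iso.app_hom, Category.assoc]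
      exact congrArg _ hn.symm)

/-- Isomorphic stalks give isomorphic multiplication maps. -/
def stArrowCongr (s : Coh.structureModule X ⟶ L) (x : X) {F G : X.Modules}
    (e : (DerSch.stalkFunctor X x).obj F ≅ (DerSch.stalkFunctor X x).obj G) :
    Arrow.mk ((DerSch.stalkFunctor X x).map ((secMul s).app F)) ≅
      Arrow.mk ((DerSch.stalkFunctor X x).map ((secMul s).app G)) :=
  stArrowIso s F x ≪≫
    Arrow.isoMk (f := Arrow.mk ((tensorLeft ((DerSch.stalkFunctor X x).obj F)).map (stMap x s)))
      (g := Arrow.mk ((tensorLeft ((DerSch.stalkFunctor X x).obj G)).map (stMap x s)))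
      (((tensoringLeft (ModuleCat.{u} (X.presheaf.stalk x))).mapIso e).app _)
      (((tensoringLeft (ModuleCat.{u} (X.presheaf.stalk x))).mapIso e).app _)
      (((tensoringLeft (ModuleCat.{u} (X.presheaf.stalk x))).mapIso e).hom.naturality (stMap x s)).symm ≪≫ (stArrowIso s G x).symm

theorem isIso_stalk_secMul (hL : PicF.IsInvertible L) (s : Coh.structureModule X ⟶ L) (F : X.Modules)
    {x : X} (hx : x ∈ CohB1.genLocus L s) :
    IsIso ((DerSch.stalkFunctor X x).map ((secMul s).app F)) := by
  haveI := isIso_stMap hL s hx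
  exact ((MorphismProperty.isomorphisms _).arrow_mk_iso_iff (stArrowIso s F x)).2
    (show IsIso _ by infer_instance)

/-- Tensoring with an invertible module does not change stalks. -/
theorem nonempty_stalk_tw {P : X.Modules} (hP : PicF.IsInvertible P) (F : X.Modules) (x : X) :
    Nonempty ((DerSch.stalkFunctor X x).obj ((AmpleVan.tw P).obj F) ≅ (DerSch.stalkFunctor X x).obj F) := by
  obtain ⟨b⟩ := CurveTensor.exists_basis_stalk (InvEnd.isFinLocFreeOfRank_one hP) x
  let e : (DerSch.stalkFunctor X x).obj P ≅ 𝟙_ (ModuleCat.{u} (X.presheaf.stalk x)) :=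
    (b.equivFun.trans (LinearEquiv.funUnique (Fin 1) (X.presheaf.stalk x) (X.presheaf.stalk x))).toModuleIso
  exact ⟨(KFlatLib.stalkTensorIso x F P).symm ≪≫ whiskerLeftIso _ e ≪≫ ρ_ _⟩

theorem not_epi_stalk_secMul (hL : PicF.IsInvertible L) (s : Coh.structureModule X ⟶ L)
    {F : X.Modules} {x : X} (hx : x ∉ CohB1.genLocus L s)
    (hF : Module.Finite (X.presheaf.stalk x) ((DerSch.stalkFunctor X x).obj F))
    (hne : Nontrivial ((DerSch.stalkFunctor X x).obj F)) :
    ¬ Epi ((DerSch.stalkFunctor X x).map ((secMul s).app F)) := by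
  intro hepi
  have h1 : Epi ((tensorLeft ((DerSch.stalkFunctor X x).obj F)).map (stMap x s)) :=
    ((MorphismProperty.epimorphisms _).arrow_mk_iso_iff (stArrowIso s F x)).1 hepi
  rw [mem_genLocus_iff hL, not_not] at hx
  let M := (DerSch.stalkFunctor X x).obj F
  let N := (DerSch.stalkFunctor X x).obj L
  let m := IsLocalRing.maximalIdeal (X.presheaf.stalk x)
  obtain ⟨b⟩ := CurveTensor.exists_basis_stalk (InvEnd.isFinLocFreeOfRank_one hL) x
  haveI : Module.Finite (X.presheaf.stalk x) N := Module.Finite.of_basis b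
  haveI := hF
  have hsub : Subsingleton (TensorProduct (X.presheaf.stalk x) M N) := by
    have hle : (⊤ : Submodule (X.presheaf.stalk x) (TensorProduct (X.presheaf.stalk x) M N)) ≤
        m • ⊤ := by
      intro y _
      obtain ⟨z, rfl⟩ := (ModuleCat.epi_iff_surjective _).1 h1 y
      refine TensorProduct.induction_on z (by rw [map_zero]; exact zero_mem _) (fun a c => ?_)
        (fun a c ha hc => by rw [map_add]; exact add_mem ha hc)
      show (a ⊗ₜ[X.presheaf.stalk x] stMap x s c : TensorProduct (X.presheaf.stalk x) M N) ∈ _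
      refine Submodule.smul_induction_on (p := fun w =>
        a ⊗ₜ[X.presheaf.stalk x] w ∈ m • (⊤ : Submodule (X.presheaf.stalk x) (TensorProduct (X.presheaf.stalk x) M N)))
        (hx c) (fun r hr w _ => ?_) (fun v w hv hw => ?_)
      · rw [TensorProduct.tmul_smul]
        exact Submodule.smul_mem_smul hr Submodule.mem_top
      · rw [TensorProduct.tmul_add]
        exact add_mem hv hw
    have hbot := Submodule.eq_bot_of_le_smul_of_le_jacobson_bot m
      (⊤ : Submodule (X.presheaf.stalk x) (TensorProduct (X.presheaf.stalk x) M N))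
      Module.Finite.fg_top hle (IsLocalRing.maximalIdeal_le_jacobson _)
    exact (Submodule.subsingleton_iff (X.presheaf.stalk x)).1 (subsingleton_iff_bot_eq_top.1 hbot.symm)
  obtain ⟨e⟩ := nonempty_stalk_tw hL F x
  haveI : Subsingleton ((DerSch.stalkFunctor X x).obj ((AmpleVan.tw L).obj F)) :=
    (KFlatLib.stalkTensorIso x F L).symm.toLinearEquiv.toEquiv.subsingleton
  haveI := e.symm.toLinearEquiv.toEquiv.subsingleton
  exact not_subsingleton _ this

end Stalk

section Push

variable {Z : Scheme.{u}} (i : Z ⟶ X) [IsIntegral Z]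

/-- Sections of the push forward of an integral scheme are detected at the image of any point. -/
theorem eq_zero_of_germ_push {z : Z} {U : X.Opens} (t : Γ((Coh.push i).obj (Coh.structureModule Z), U))
    (hU : i.base z ∈ U)
    (h : ((Coh.push i).obj (Coh.structureModule Z)).presheaf.germ U (i.base z) hU t = 0) : t = 0 := by
  obtain ⟨W, hzW, a, b, he⟩ := ((Coh.push i).obj (Coh.structureModule Z)).presheaf.germ_eq
    (i.base z) hU hU t 0 (h.trans (map_zero _).symm)
  rw [map_zero] at he
  haveI : Nonempty (i ⁻¹ᵁ W : Z.Opens) := ⟨⟨z, hzW⟩⟩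
  exact map_injective_of_isIntegral (X := Z)
    (homOfLE (i.preimage_mono (leOfHom a))) (he.trans (map_zero (Z.presheaf.map _).hom).symm)

theorem nontrivial_stalk_push {x : X} (hx : x ∈ Set.range i.base) :
    Nontrivial ((DerSch.stalkFunctor X x).obj ((Coh.push i).obj (Coh.structureModule Z))) := by
  obtain ⟨z, rfl⟩ := hx
  refine ⟨⟨((Coh.push i).obj (Coh.structureModule Z)).presheaf.germ ⊤ (i.base z) trivial
    (1 : Γ(Z, i ⁻¹ᵁ ⊤)), 0, fun h => ?_⟩⟩
  haveI : Nonempty (i ⁻¹ᵁ (⊤ : X.Opens) : Z.Opens) := ⟨⟨z, trivial⟩⟩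
  exact one_ne_zero (α := Γ(Z, i ⁻¹ᵁ ⊤)) (eq_zero_of_germ_push i _ trivial h)

theorem mono_secMul_push (hL : PicF.IsInvertible L) (s : Coh.structureModule X ⟶ L) {η : Z}
    (hη : ∀ z, η ⤳ z) (hs : i.base η ∈ CohB1.genLocus L s) :
    Mono ((secMul s).app ((Coh.push i).obj (Coh.structureModule Z))) := by
  refine InvEnd.mono_of_app_injective _ fun U => ?_
  rw [injective_iff_map_eq_zero]
  intro t ht
  by_cases hU : i.base η ∈ U
  · refine eq_zero_of_germ_push i t hU ?_
    haveI := isIso_stalk_secMul hL s ((Coh.push i).obj (Coh.structureModule Z)) hs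
    apply ((ConcreteCategory.isIso_iff_bijective
      ((DerSch.stalkFunctor X (i.base η)).map
        ((secMul s).app ((Coh.push i).obj (Coh.structureModule Z))))).1 inferInstance).1
    refine (DerSch.stalkFunctor_map_germ _ _ U hU t).trans ?_
    erw [ht, map_zero, map_zero]
  · have hempty : (i ⁻¹ᵁ U : Z.Opens) = ⊥ := by
      ext z
      exact ⟨fun hz => absurd (((hη z).map i.base.hom.continuous).mem_open U.2 hz) hU,
        fun hz => hz.elim⟩
    haveI : Subsingleton Γ(Z, i ⁻¹ᵁ U) := by
      rw [hempty]; exact CommRingCat.subsingleton_of_isTerminal Z.sheaf.isTerminalOfEmpty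
    exact (show Subsingleton Γ((Coh.push i).obj (Coh.structureModule Z), U) from ‹_›).elim _ _

end Push

end Groth.Agent.CurveDual15
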