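import Groth.Agent.CurveDual15.Curve
import Groth.Agent.CurveDual15.SectionMul
import Groth.Agent.CurveBC.Geometry
import Groth.Agent.CurveCohLib.Rank

/-!
# `H¹(ω ⊗ L) = 0` for a non-trivial globally generated invertible module
-/

set_option linter.style.haveILetI false
set_option linter.unusedSectionVars false
set_option backward.isDefEq.respectTransparency false
set_option backward.isDefEq.respectTransparency.types false

universe u

open CategoryTheory CategoryTheory.Limits AlgebraicGeometry TopologicalSpace Opposite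
open Groth.Agent.PnCoh.Finite (mapLin)

attribute [local instance] HasDerivedCategory.standard

noncomputable section

namespace Groth.Agent.CurveDual15

variable {X : Scheme.{u}}

theorem eq_zero_of_forall_dual {K : Type*} [Field K] {M : Type*} [AddCommGroup M] [Module K M] {v : M}
    (h : ∀ g : Module.Dual K M, g v = 0) : v = 0 :=
  (Module.forall_dual_apply_eq_zero_iff K v).1 h

/-- A point in the closure of an open of a Noetherian scheme specializes from a point of the open. -/
theorem exists_specializes_of_mem_closure [IsNoetherian X] (U : X.Opens) {x : X}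
    (hx : x ∈ closure (U : Set X)) : ∃ u ∈ U, u ⤳ x := by
  obtain ⟨Fs, hFs, hcl, hirr, hU⟩ :=
    NoetherianSpace.exists_finite_set_isClosed_irreducible (α := X) (isClosed_closure (s := (U : Set X)))
  -- pass to the maximal members
  by_contra hne
  push Not at hne
  let S : Set X := ⋃₀ {t ∈ Fs | x ∉ t}
  have hS : IsClosed S := by
    show IsClosed (⋃₀ {t ∈ Fs | x ∉ t})
    rw [Set.sUnion_eq_biUnion]
    exact (hFs.subset (Set.sep_subset _ _)).isClosed_biUnion fun t ht => hcl t ht.1
  have hxS : x ∉ S := fun ⟨t, ht, hxt⟩ => ht.2 hxt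
  have hUS : (U : Set X) ⊆ S := fun y hy => by
    obtain ⟨t, ht, hyt⟩ : y ∈ ⋃₀ Fs := hU ▸ subset_closure hy
    obtain ⟨g, hg⟩ := QuasiSober.sober (hirr t ht) (hcl t ht)
    have hgU : g ∈ U := (hg.specializes hyt).mem_open U.2 hy
    exact ⟨t, ⟨ht, fun hxt => hne g hgU (hg.specializes hxt)⟩, hyt⟩
  exact hxS (closure_minimal hUS hS hx)

theorem eq_or_isClosed_of_specializes (hdim : topologicalKrullDim X ≤ 1) {u x : X} (h : u ⤳ x)
    (hne : u ≠ x) : IsClosed ({x} : Set X) := by
  refine isClosed_of_closure_subset fun y hy => ?_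
  by_contra hyx
  have hxy : x ⤳ y := specializes_iff_mem_closure.2 hy
  let S : LTSeries (IrreducibleCloseds X) := RelSeries.fromListIsChain
    [⟨closure {y}, isIrreducible_singleton.closure, isClosed_closure⟩,
      ⟨closure {x}, isIrreducible_singleton.closure, isClosed_closure⟩,
      ⟨closure {u}, isIrreducible_singleton.closure, isClosed_closure⟩] (by simp) (by
      have key : ∀ a b : X, a ⤳ b → a ≠ b →
          (⟨closure {b}, isIrreducible_singleton.closure, isClosed_closure⟩ : IrreducibleCloseds X) <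
            ⟨closure {a}, isIrreducible_singleton.closure, isClosed_closure⟩ := fun a b hab hab' => by
        refine lt_of_le_of_ne (specializes_iff_closure_subset.1 hab) fun heq => hab' ?_
        have : closure ({b} : Set X) = closure {a} := congrArg (fun t : IrreducibleCloseds X => (t : Set X)) heq
        exact (inseparable_iff_closure_eq.2 this.symm).eq
      exact List.IsChain.cons_cons (key x y hxy fun e => hyx e.symm)
        (List.IsChain.cons_cons (key u x h hne) (List.IsChain.singleton _)))
  have : ((2 : ℕ) : WithBot ℕ∞) ≤ 1 := (Order.LTSeries.length_le_krullDim S).trans hdim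
  exact absurd (by exact_mod_cast this : (2 : ℕ) ≤ 1) (by norm_num)

variable (k : Type u) [Field k] [X.Over (Spec (CommRingCat.of k))]
  [IsProper (X ↘ Spec (CommRingCat.of k))]

/-- The Euler characteristic of a module on a curve. -/
theorem euler_eq_h0_sub_h1 (hdim : topologicalKrullDim X = 1) {F : X.Modules} (hF : Coh.IsQCoh F) :
    Curv2.euler k X F = (Module.finrank k (Coh.HH X F 0) : ℤ) - Module.finrank k (Coh.HH X F 1) := by
  rw [CurveCohLib.euler_eq_sum (k := k) (N := 2) fun i hi =>
    subsingleton_HH_curve' k 1 (by rw [hdim]; rfl) F hF i hi]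
  simp [Finset.sum_range_succ]
  ring

/-- A short exact sequence with injective first cohomology and non-zero punctual cokernel. -/
theorem h0_lt_of_injective (hdim : topologicalKrullDim X = 1) {S : ShortComplex X.Modules}
    (hS : S.ShortExact) (h₁ : Coh.IsCoh S.X₁) (h₂ : Coh.IsCoh S.X₂) (h₃ : Coh.IsCoh S.X₃)
    (hinj : Function.Injective (mapLin k S.f 1))
    (hsupp : ∀ x ∈ CohB1.support S.X₃, IsClosed ({x} : Set X)) (hne : ¬ IsZero S.X₃) :
    Module.finrank k (Coh.HH X S.X₁ 0) < Module.finrank k (Coh.HH X S.X₂ 0) := by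
  have h := CurveCohLib.euler_additive (k := k) hS h₁ h₂ h₃
  have h3 : Curv2.euler k X S.X₃ ≠ 0 := fun h0 =>
    hne (CurveCohLib.isZero_of_euler_eq_zero h₃ hsupp h0)
  rw [CurveCohLib.euler_eq_finrank_zero (k := k) h₃ hsupp] at h h3
  rw [euler_eq_h0_sub_h1 k hdim h₁.1, euler_eq_h0_sub_h1 k hdim h₂.1] at h
  haveI := CurveCohLib.finite_HH (k := k) h₂ 1
  have h1 := LinearMap.finrank_le_finrank_of_injective hinj
  omega

/-- Iterated twists. -/
def twistIter (D F : X.Modules) : ℕ → X.Modules
  | 0 => F
  | n + 1 => (AmpleVan.tw D).obj (twistIter D F n)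

set_option maxHeartbeats 800000 in
/-- Multiplication by a section which is injective on first cohomology has empty zero locus, unless
it has empty generating locus. -/
theorem genLocus_eq_top_of_injective (hdim : topologicalKrullDim X = 1)
    [ConnectedSpace X] {L : X.Modules} (hL : PicF.IsInvertible L) (s : Coh.structureModule X ⟶ L)
    (hinj : ∀ F : X.Modules, Coh.IsQCoh F → Function.Injective (mapLin k ((secMul s).app F) 1))
    {x₀ : X} (hx₀ : x₀ ∈ CohB1.genLocus L s) : ∀ x, x ∈ CohB1.genLocus L s := by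
  haveI := isNoetherian_of_proper' k (X := X)
  set U := CohB1.genLocus L s
  by_contra hne
  push Not at hne
  obtain ⟨y, hy⟩ := hne
  obtain ⟨x, hxcl, hxU⟩ : ∃ x, x ∈ closure (U : Set X) ∧ x ∉ U := by
    by_contra hh
    push Not at hh
    have hclopen : IsClopen (U : Set X) := ⟨isClosed_of_closure_subset hh, U.2⟩
    rcases isClopen_iff.1 hclopen with h0 | h1
    · exact (h0.le hx₀ : x₀ ∈ (∅ : Set X))
    · exact hy (h1.ge trivial)
  obtain ⟨u, huU, hux⟩ := exists_specializes_of_mem_closure U hxcl
  let J := Scheme.IdealSheafData.vanishingIdeal (Closeds.closure ({u} : Set X))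
  haveI : IsIntegral J.subscheme := QCoh.isIntegral_closure_point u
  let i := J.subschemeι
  have hr : Set.range i.base = closure {u} := H23.RedSub.range_vanishingIdeal _
  obtain ⟨η, hη⟩ : u ∈ Set.range i.base := hr ▸ subset_closure rfl
  have hgen : ∀ z, η ⤳ z := fun z => by
    rw [i.isClosedEmbedding.isInducing.specializes_iff.symm, hη, specializes_iff_mem_closure]
    exact hr ▸ ⟨z, rfl⟩
  obtain ⟨D, hD, ⟨e⟩⟩ := H23.PicInv.exists_inverse hL
  obtain ⟨c⟩ := H23.PicMul.comm D L
  let G : ℕ → X.Modules := twistIter D ((Coh.push i).obj (Coh.structureModule J.subscheme))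
  have hG : ∀ j, Coh.IsCoh (G j) := fun j => by
    induction j with
    | zero => exact QCoh.isCoh_push_structure i
    | succ j ih => exact AmpleVan.isCoh_tensor ih (AmpleVan.isCoh_invertible hD)
  have hst : ∀ j z, Nonempty ((DerSch.stalkFunctor X z).obj (G j) ≅ (DerSch.stalkFunctor X z).obj (G 0)) :=
    fun j z => by
      induction j with
      | zero => exact ⟨Iso.refl _⟩
      | succ j ih =>
        obtain ⟨e1⟩ := ih
        obtain ⟨e2⟩ := nonempty_stalk_tw hD (G j) z
        exact ⟨e2 ≪≫ e1⟩
  haveI hm0 : Mono ((secMul s).app (G 0)) := mono_secMul_push i hL s hgen (hη.symm ▸ huU)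
  have hstep : ∀ j, Module.finrank k (Coh.HH X (G (j + 1)) 0) < Module.finrank k (Coh.HH X (G j) 0) := by
    intro j
    let f := (secMul s).app (G (j + 1))
    let ej : (AmpleVan.tw L).obj (G (j + 1)) ≅ G j :=
      ((AmpleVan.twComp D L).app (G j) ≪≫
        ((DCoh.tensorBi (X := X)).flip.mapIso (c ≪≫ e)).app (G j) ≪≫ AmpleVan.twUnit.app (G j))
    have hmono : Mono f := by
      refine Preadditive.mono_of_isZero_kernel _ (KFlatLib.isZero_of_stalk _ fun z => ?_)
      obtain ⟨ez⟩ := hst (j + 1) z
      haveI : Mono ((DerSch.stalkFunctor X z).map f) :=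
        ((MorphismProperty.monomorphisms _).arrow_mk_iso_iff (stArrowCongr s z ez)).2
          (show Mono ((DerSch.stalkFunctor X z).map ((secMul s).app (G 0))) from inferInstance)
      exact (isZero_kernel_of_mono ((DerSch.stalkFunctor X z).map f)).of_iso
        (PreservesKernel.iso (DerSch.stalkFunctor X z) f)
    have hcT : Coh.IsCoh ((AmpleVan.tw L).obj (G (j + 1))) :=
      AmpleVan.isCoh_tensor (hG (j + 1)) (AmpleVan.isCoh_invertible hL)
    haveI := hmono
    let S : ShortComplex X.Modules := ShortComplex.mk f (cokernel.π f) (cokernel.condition f)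
    have hS : S.ShortExact := { exact := ShortComplex.exact_of_g_is_cokernel _ (cokernelIsCokernel f) }
    have hcQ : Coh.IsCoh S.X₃ := QCoh.isCoh_of_epi (cokernel.π f) hcT (QCoh.isQCoh_cokernel (hG (j + 1)).1 hcT.1 f)
    have hepi : ∀ z ∉ CohB1.support S.X₃, Epi ((DerSch.stalkFunctor X z).map f) := fun z hz => by
      refine (ShortComplex.Exact.epi_f ((hS.exact).map (DerSch.stalkFunctor X z)) ?_)
      haveI hs' : Subsingleton ((DerSch.stalkFunctor X z).obj S.X₃) := not_not.1 hz
      exact (ModuleCat.isZero_of_subsingleton ((DerSch.stalkFunctor X z).obj S.X₃)).eq_of_tgt _ _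
    have hsub : ∀ z ∈ CohB1.support S.X₃, z ∉ U ∧ u ⤳ z := fun z hz => by
      have hQz : Nontrivial ((DerSch.stalkFunctor X z).obj S.X₃) := not_subsingleton_iff_nontrivial.1 hz
      have hπ : Function.Surjective ((DerSch.stalkFunctor X z).map (cokernel.π f)) :=
        (ModuleCat.epi_iff_surjective _).1 inferInstance
      refine ⟨fun hzU => ?_, ?_⟩
      · haveI := isIso_stalk_secMul hL s (G (j + 1)) hzU
        obtain ⟨q, hq⟩ := exists_ne (0 : (DerSch.stalkFunctor X z).obj S.X₃)
        obtain ⟨b, rfl⟩ := hπ q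
        obtain ⟨a, rfl⟩ := ((ConcreteCategory.isIso_iff_bijective
          ((DerSch.stalkFunctor X z).map f)).1 inferInstance).2 b
        apply hq
        rw [← ConcreteCategory.comp_apply, ← Functor.map_comp, cokernel.condition, Functor.map_zero]
        rfl
      · by_contra hzu
        obtain ⟨e1⟩ := nonempty_stalk_tw hL (G (j + 1)) z
        obtain ⟨e2⟩ := hst (j + 1) z
        haveI : Subsingleton ((DerSch.stalkFunctor X z).obj (G 0)) := by
          refine not_not.1 fun h => hzu ?_
          have := QCoh.support_push_subset i QCoh.isQCoh_structureModule h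
          rw [hr] at this
          exact specializes_iff_mem_closure.2 this
        haveI : Subsingleton ((DerSch.stalkFunctor X z).obj ((AmpleVan.tw L).obj (G (j + 1)))) :=
          (e1 ≪≫ e2).toLinearEquiv.toEquiv.subsingleton
        haveI := hπ.subsingleton
        exact not_subsingleton ((DerSch.stalkFunctor X z).obj S.X₃) ‹_›
    have hclosed : ∀ z ∈ CohB1.support S.X₃, IsClosed ({z} : Set X) := fun z hz => by
      obtain ⟨hzU, hzu⟩ := hsub z hz
      exact eq_or_isClosed_of_specializes hdim.le hzu fun heq => hzU (heq ▸ huU)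
    have hne0 : ¬ IsZero S.X₃ := fun hz0 => by
      obtain ⟨ex⟩ := hst (j + 1) x
      haveI : Nontrivial ((DerSch.stalkFunctor X x).obj (G 0)) := nontrivial_stalk_push i (x := x) (hr.symm ▸ specializes_iff_mem_closure.1 hux)
      haveI : Nontrivial ((DerSch.stalkFunctor X x).obj (G (j + 1))) :=
        ex.toLinearEquiv.toEquiv.nontrivial
      refine not_epi_stalk_secMul hL s hxU (QCoh.finite_stalk_of_isFT (hG (j + 1)).1 (hG (j + 1)).2 x) ‹_›
        (hepi x fun h => h ?_)
      exact ModuleCat.subsingleton_of_isZero ((DerSch.stalkFunctor X x).map_isZero hz0)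
    have h1 := h0_lt_of_injective k hdim hS (hG (j + 1)) hcT hcQ (hinj _ (hG (j + 1)).1) hclosed hne0
    exact h1.trans_eq (CurveCohLib.hhEquiv (k := k) ej 0).finrank_eq
  have hdesc : ∀ j, Module.finrank k (Coh.HH X (G j) 0) + j ≤ Module.finrank k (Coh.HH X (G 0) 0) := by
    intro j
    induction j with
    | zero => exact le_rfl
    | succ j ih => have := hstep j; omega
  have := hdesc (Module.finrank k (Coh.HH X (G 0) 0) + 1)
  omega

variable {k} [DCoh.HasRpush (str k X)] {h : DCoh.RpushPreservesQCoh (str k X)}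
  [DCoh.HasShriek (str k X) h] {OY : DCoh.DQCoh (pt k)}

set_option maxHeartbeats 1600000 in
theorem subsingleton_h1_omega_tensor (hOY : Nonempty (OY.obj ≅ DCoh.inD (pt k) (Coh.structureModule (pt k))))
    (hdim : topologicalKrullDim X = 1)
    (h0 : Module.finrank k (Coh.HH X (Coh.structureModule X) 0) = 1) {L : X.Modules}
    (hL : PicF.IsInvertible L) (hgg : Curv2.IsGloballyGenerated L)
    (hnt : IsEmpty (L ≅ Coh.structureModule X)) :
    Subsingleton (Coh.HH X ((AmpleVan.tw L).obj (omega k h OY 1)) 1) := by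
  haveI := isNoetherian_of_proper' k (X := X)
  haveI := CurveBC.connectedSpace_of_h0 k X h0
  have hd : topologicalKrullDim X ≤ ((1 : ℕ) : WithBot ℕ∞) := hdim.le
  have hLq := (AmpleVan.isCoh_invertible hL).1
  have hωL : Coh.IsQCoh ((AmpleVan.tw L).obj (omega k h OY 1)) :=
    KFlatLib.isQCoh_tensor (isQCoh_omega 1) hLq
  obtain ⟨t, ht⟩ := nonempty_homEquivDual (h := h) hOY 1 hd
  by_contra hne
  obtain ⟨φ, hφ⟩ : ∃ φ : (AmpleVan.tw L).obj (omega k h OY 1) ⟶ omega k h OY 1, φ ≠ 0 := by
    haveI : Nontrivial (Coh.HH X ((AmpleVan.tw L).obj (omega k h OY 1)) 1) :=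
      not_subsingleton_iff_nontrivial.1 hne
    obtain ⟨v, hv⟩ := exists_ne (0 : Coh.HH X ((AmpleVan.tw L).obj (omega k h OY 1)) 1)
    obtain ⟨g, hg⟩ : ∃ g : Module.Dual k (Coh.HH X ((AmpleVan.tw L).obj (omega k h OY 1)) 1), g v ≠ 0 := by
      by_contra hh
      push Not at hh
      exact hv (eq_zero_of_forall_dual hh)
    obtain ⟨φ, rfl⟩ := (ht _ hωL).2 g
    exact ⟨φ, fun h0' => hg (by rw [h0', map_zero]; rfl)⟩
  obtain ⟨x₀⟩ := (inferInstance : Nonempty X)
  let Φ := DCoh.tensorBi.obj (omega k h OY 1)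
  let A : Set (Coh.structureModule X ⟶ L) := {s | Φ.map s ≫ φ = 0}
  let B : Set (Coh.structureModule X ⟶ L) := {s | vanishAt x₀ s}
  obtain ⟨s₁, hs₁⟩ : ∃ s, s ∉ A := exists_map_comp_ne_zero hgg Φ φ hφ
  obtain ⟨s₂, hs₂⟩ : ∃ s, s ∉ B := by
    let N := (DerSch.stalkFunctor X x₀).obj L
    let mN : Submodule (X.presheaf.stalk x₀) N := IsLocalRing.maximalIdeal (X.presheaf.stalk x₀) • ⊤
    have hθ : ModuleCat.ofHom mN.mkQ ≠ 0 := fun h0' => by
      obtain ⟨U, hxU, e, he⟩ := InvX.exists_frame hL x₀
      have htop : mN = ⊤ := by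
        rw [← Submodule.ker_mkQ mN]
        exact LinearMap.ker_eq_top.2 (congrArg ModuleCat.Hom.hom h0')
      obtain ⟨b⟩ := CurveTensor.exists_basis_stalk (InvEnd.isFinLocFreeOfRank_one hL) x₀
      haveI : Module.Finite (X.presheaf.stalk x₀) N := Module.Finite.of_basis b
      have hbot := Submodule.eq_bot_of_le_smul_of_le_jacobson_bot (IsLocalRing.maximalIdeal (X.presheaf.stalk x₀))
        (⊤ : Submodule (X.presheaf.stalk x₀) N) Module.Finite.fg_top htop.ge
        (IsLocalRing.maximalIdeal_le_jacobson _)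
      exact b.ne_zero 0 ((Submodule.eq_bot_iff _).1 hbot _ trivial)
    obtain ⟨s, hs⟩ := exists_map_comp_ne_zero hgg (DerSch.stalkFunctor X x₀) _ hθ
    refine ⟨s, fun hB => hs ?_⟩
    ext a
    exact (Submodule.Quotient.mk_eq_zero _).2 (hB a)
  obtain ⟨s, hsA, hsB⟩ : ∃ s, s ∉ A ∧ s ∉ B := by
    by_cases h1 : s₁ ∈ B
    · by_cases h2 : s₂ ∈ A
      · refine ⟨s₁ + s₂, fun hh => hs₁ ?_, fun hh => hs₂ ?_⟩
        · show Φ.map s₁ ≫ φ = 0
          have := hh
          simp only [A, Set.mem_ofPred_eq, Functor.map_add, Preadditive.add_comp] at this h2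
          rw [h2, add_zero] at this
          exact this
        · intro a
          have h3 : stMap x₀ (s₁ + s₂) a = stMap x₀ s₁ a + stMap x₀ s₂ a := by
            show (DerSch.stalkFunctor X x₀).map (s₁ + s₂) a = _
            rw [Functor.map_add]
            rfl
          have := hh a
          rw [h3] at this
          exact (add_mem_cancel_left (h1 a)).1 this
      · exact ⟨s₂, h2, hs₂⟩
    · exact ⟨s₁, hs₁, h1⟩
  obtain ⟨c, hc⟩ := exists_smul_of_hom_omega hOY 1 le_rfl hd h0
    ((secMul s).app (omega k h OY 1) ≫ φ)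
  have hc0 : c ≠ 0 := fun h0' => hsA (by
    rw [h0', zero_smul, secMul_app, Category.assoc] at hc
    exact (cancel_epi (AmpleVan.twUnit.inv.app (omega k h OY 1))).1 (hc.trans comp_zero.symm))
  let r := c⁻¹ • φ
  have hr : (secMul s).app (omega k h OY 1) ≫ r = 𝟙 _ := by
    rw [Linear.comp_smul, hc, smul_smul, inv_mul_cancel₀ hc0, one_smul]
    rfl
  have hinj : ∀ F : X.Modules, Coh.IsQCoh F → Function.Injective (mapLin k ((secMul s).app F) 1) := by
    intro F hF
    rw [← LinearMap.ker_eq_bot, LinearMap.ker_eq_bot']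
    intro v hv
    refine eq_zero_of_forall_dual (K := k) fun g => ?_
    obtain ⟨χ, rfl⟩ := (ht F hF).2 g
    have hχ : (secMul s).app F ≫ (AmpleVan.tw L).map χ ≫ r = χ := by
      rw [← Category.assoc, ← (secMul s).naturality χ, Functor.id_map, Category.assoc, hr, Category.comp_id]
    show t (mapLin k χ 1 v) = 0
    rw [← hχ, ← FFun.mapLin_comp]
    erw [hv]
    rw [map_zero, map_zero]
  have hx₀ : x₀ ∈ CohB1.genLocus L s := (mem_genLocus_iff hL s x₀).2 hsB
  obtain ⟨eiso⟩ := nonempty_iso_of_genLocus_eq_top hL s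
    (genLocus_eq_top_of_injective k hdim hL s hinj hx₀)
  exact hnt.elim eiso

end Groth.Agent.CurveDual15
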