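import Groth.Agent.CurveDual15.FieldBase
import Groth.Agent.KFlatLib.Scheme.Adjoint
import Groth.Agent.KFlatLib.Scheme.RGammaPush
import Groth.Agent.Algz7.PullbackFormal
import Groth.Agent.PicClLib.Basic
import Groth.Prelude.Def_DDual2
import Groth.Prelude.Def_KLin

/-!
# The trace pairing of the dualizing complex over a field
-/

set_option linter.style.haveILetI false
set_option linter.unusedSectionVars false
set_option backward.isDefEq.respectTransparency false
set_option backward.isDefEq.respectTransparency.types false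

universe u

open CategoryTheory CategoryTheory.Limits AlgebraicGeometry Opposite

attribute [local instance] HasDerivedCategory.standard

noncomputable section

namespace Groth.Agent.CurveDual15

variable (k : Type u) [Field k] {X : Scheme.{u}} [X.Over (Spec (CommRingCat.of k))]

/-- The structure morphism. -/
abbrev str (X : Scheme.{u}) [X.Over (Spec (CommRingCat.of k))] : X ⟶ pt k :=
  X ↘ Spec (CommRingCat.of k)

variable (X) in
/-- The structure sheaf in degree `0`. -/
abbrev OX : DCoh.D X := DCoh.inD X (Coh.structureModule X)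

/-- The structure sheaf of the point in degree `0`. -/
abbrev OD : DCoh.D (pt k) := DCoh.inD (pt k) (OPt k)

/-- Scalars as endomorphisms of `O_X[0]`. -/
def sc (X : Scheme.{u}) [X.Over (Spec (CommRingCat.of k))] (a : k) : OX X ⟶ OX X :=
  (DerivedCategory.singleFunctor X.Modules 0).map (Formal.smulMod k (Coh.structureModule X) a)

/-- Scalars as endomorphisms of `O[0]` on the point. -/
def scPt (a : k) : OD k ⟶ OD k :=
  (DerivedCategory.singleFunctor (pt k).Modules 0).map (scalarHom k a)

theorem sc_comp {G : DCoh.D X} (a : k) (ξ : OX X ⟶ G) : sc k X a ≫ ξ = a • ξ := by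
  have : Formal.smulMod k (Coh.structureModule X) a = a • 𝟙 (Coh.structureModule X) :=
    (KLin.smul_id _ a).symm
  rw [sc, this, Functor.map_smul, CategoryTheory.Functor.map_id, Linear.smul_comp, Category.id_comp]

theorem bijective_scPt : Function.Bijective (scPt k) := by
  refine Function.Bijective.comp (f := scalarHom k) ?_ (bijective_scalarHom k)
  exact ⟨(DerivedCategory.singleFunctor (pt k).Modules 0).map_injective,
    (DerivedCategory.singleFunctor (pt k).Modules 0).map_surjective⟩

/-- Scalars, additively. -/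
def scPtHom : k →+ (OD k ⟶ OD k) :=
  AddMonoidHom.mk' (scPt k) fun a b => by
    letI := ptOver k
    show (DerivedCategory.singleFunctor (pt k).Modules 0).map (Formal.smulMod k (OPt k) (a + b)) = _
    have : Formal.smulMod k (OPt k) (a + b) = Formal.smulMod k (OPt k) a + Formal.smulMod k (OPt k) b := by
      simp only [← KLin.smul_id, add_smul]
    rw [this, Functor.map_add]
    rfl

/-- Endomorphisms of `O[0]` on the point are scalars. -/
def scEquiv : (OD k ⟶ OD k) ≃+ k :=
  (AddEquiv.ofBijective (scPtHom k) (bijective_scPt k)).symm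

theorem scEquiv_scPt (a : k) : scEquiv k (scPt k a) = a :=
  (AddEquiv.ofBijective (scPtHom k) (bijective_scPt k)).symm_apply_apply a

theorem scPt_scEquiv (s : OD k ⟶ OD k) : scPt k (scEquiv k s) = s :=
  (AddEquiv.ofBijective (scPtHom k) (bijective_scPt k)).apply_symm_apply s

theorem scEquiv_scPt_comp (a : k) (s : OD k ⟶ OD k) :
    scEquiv k (scPt k a ≫ s) = a * scEquiv k s := by
  letI := ptOver k
  obtain ⟨b, rfl⟩ := (bijective_scPt k).2 s
  have : scPt k a ≫ scPt k b = scPt k (a * b) := by
    simp only [scPt, scalarHom, ← Functor.map_comp]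
    congr 1
    simp only [← KLin.smul_id, Linear.smul_comp, Category.id_comp, smul_smul]
  rw [this, scEquiv_scPt, scEquiv_scPt]

/-- `Lf^*` on modules in degree `0`. -/
def lpullSingle {Y : Scheme.{u}} (f : X ⟶ Y) [DCoh.HasLpull f] :
    DerivedCategory.singleFunctor Y.Modules 0 ⋙ DCoh.Lpull f ⟶
      Scheme.Modules.pullback f ⋙ DerivedCategory.singleFunctor X.Modules 0 :=
  Functor.whiskerRight (((SingleFunctors.evaluation _ _ 0).mapIso
      (DerivedCategory.singleFunctorsPostcompQIso Y.Modules)).hom ≫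
      Functor.whiskerLeft (CochainComplex.singleFunctor Y.Modules 0)
        (DerivedCategory.quotientCompQhIso Y.Modules).inv) (DCoh.Lpull f) ≫
    Functor.whiskerLeft (CochainComplex.singleFunctor Y.Modules 0 ⋙
        HomotopyCategory.quotient Y.Modules (ComplexShape.up ℤ))
      ((DCoh.pullKh f).totalLeftDerivedCounit DerivedCategory.Qh
        (HomotopyCategory.quasiIso Y.Modules (ComplexShape.up ℤ))) ≫
    { app := fun M => DerivedCategory.Qh.map
          (((Scheme.Modules.pullback f).mapHomotopyCategoryFactors (ComplexShape.up ℤ)).hom.app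
            ((CochainComplex.singleFunctor Y.Modules 0).obj M)) ≫
        (DerivedCategory.quotientCompQhIso X.Modules).hom.app _ ≫
        DerivedCategory.Q.map (((Scheme.Modules.pullback f).mapCochainComplexSingleFunctor 0).hom.app M) ≫
        ((SingleFunctors.evaluation _ _ 0).mapIso
          (DerivedCategory.singleFunctorsPostcompQIso X.Modules)).inv.app ((Scheme.Modules.pullback f).obj M)
      naturality := fun M N φ => by
        have n1 := ((Scheme.Modules.pullback f).mapHomotopyCategoryFactors (ComplexShape.up ℤ)).hom.naturality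
          ((CochainComplex.singleFunctor Y.Modules 0).map φ)
        have n2 := (DerivedCategory.quotientCompQhIso X.Modules).hom.naturality
          (((Scheme.Modules.pullback f).mapHomologicalComplex (ComplexShape.up ℤ)).map
            ((CochainComplex.singleFunctor Y.Modules 0).map φ))
        have n3 := ((Scheme.Modules.pullback f).mapCochainComplexSingleFunctor 0).hom.naturality φ
        have n4 := ((SingleFunctors.evaluation _ _ 0).mapIso
          (DerivedCategory.singleFunctorsPostcompQIso X.Modules)).inv.naturality ((Scheme.Modules.pullback f).map φ)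
        simp only [Functor.comp_map, Category.assoc] at n1 n2 n3 n4 ⊢
        rw [← DerivedCategory.Qh.map_comp_assoc]
        erw [n1]
        rw [Functor.map_comp, Category.assoc]
        erw [reassoc_of% n2]
        rw [← DerivedCategory.Q.map_comp_assoc]
        erw [n3]
        rw [Functor.map_comp, Category.assoc]
        erw [n4]
        rfl }

theorem isIso_lpullSingle_unit {Y : Scheme.{u}} (f : X ⟶ Y) [DCoh.HasLpull f] :
    IsIso ((lpullSingle f).app (Coh.structureModule Y)) := by
  haveI := KFlatLib.isIso_Lpull_counit f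
    (KFlatLib.isKFlat_of_isStrictlyLE _ 0 (KFlatLib.isFlat_single 0 (M := Coh.structureModule Y)
      KFlatLib.isFlat_structureModule) :
      DCoh.IsKFlat ((CochainComplex.singleFunctor Y.Modules 0).obj (Coh.structureModule Y)))
  simp only [lpullSingle, NatTrans.comp_app, Functor.whiskerRight_app, Functor.whiskerLeft_app]
  exact IsIso.comp_isIso' inferInstance (IsIso.comp_isIso' ‹_› inferInstance)

theorem exists_lpull_unit [DCoh.HasLpull (str k X)] :
    ∃ e : (DCoh.Lpull (str k X)).obj (OD k) ≅ OX X,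
      ∀ a : k, (DCoh.Lpull (str k X)).map (scPt k a) ≫ e.hom = e.hom ≫ sc k X a := by
  letI := ptOver k
  obtain ⟨u⟩ := PicClLib.nonempty_pullback_structureModule (str k X)
  haveI := isIso_lpullSingle_unit (str k X)
  refine ⟨asIso ((lpullSingle (str k X)).app (OPt k)) ≪≫
    (DerivedCategory.singleFunctor X.Modules 0).mapIso u, fun a => ?_⟩
  have n := (lpullSingle (str k X)).naturality (scalarHom k a)
  simp only [Functor.comp_map] at n
  simp only [scPt, sc, Iso.trans_hom, asIso_hom, Functor.mapIso_hom, Category.assoc]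
  erw [reassoc_of% n]
  congr 1
  rw [← Functor.map_comp, ← Functor.map_comp]
  congr 1
  show (Scheme.Modules.pullback (str k X)).map (Formal.smulMod k (OPt k) a) ≫ u.hom = _
  rw [Algz7.pullback_smulMod (str k X) (Category.comp_id _)]
  exact (KLin.comp_smulModΓ u.hom _).symm

variable [DCoh.HasRpush (str k X)]

/-- `Hom(O_X, G) = Hom(O, Rf_* G)`, compatibly with scalars. -/
theorem exists_homEquiv :
    ∃ Φ : ∀ G : DCoh.D X, (OX X ⟶ G) ≃+ (OD k ⟶ (DCoh.Rpush (str k X)).obj G),
      (∀ G G' (ξ : OX X ⟶ G) (φ : G ⟶ G'), Φ G' (ξ ≫ φ) = Φ G ξ ≫ (DCoh.Rpush (str k X)).map φ) ∧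
        ∀ G a (ξ : OX X ⟶ G), Φ G (sc k X a ≫ ξ) = scPt k a ≫ Φ G ξ := by
  haveI := KFlatLib.hasLpull (str k X)
  obtain ⟨adj⟩ := KFlatLib.nonempty_lpull_rpush_adj (str k X)
  obtain ⟨e, he⟩ := exists_lpull_unit k (X := X)
  haveI : (DCoh.Lpull (str k X)).Additive := by
    haveI := adj.isLeftAdjoint
    haveI := preservesBinaryBiproducts_of_preservesBinaryCoproducts (DCoh.Lpull (str k X))
    exact Functor.additive_of_preservesBinaryBiproducts _
  let pre : ∀ G : DCoh.D X, (OX X ⟶ G) ≃ ((DCoh.Lpull (str k X)).obj (OD k) ⟶ G) := fun G =>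
    ⟨fun ξ => e.hom ≫ ξ, fun η => e.inv ≫ η, fun ξ => by simp, fun η => by simp⟩
  refine ⟨fun G => AddEquiv.mk' ((pre G).trans (adj.homEquiv _ _)) fun a b => ?_,
    fun G G' ξ φ => ?_, fun G a ξ => ?_⟩
  · show adj.homEquiv _ _ (e.hom ≫ (a + b)) = adj.homEquiv _ _ (e.hom ≫ a) + adj.homEquiv _ _ (e.hom ≫ b)
    rw [Preadditive.comp_add]
    exact (adj.homAddEquiv _ _).map_add _ _
  · show adj.homEquiv _ _ (e.hom ≫ ξ ≫ φ) = adj.homEquiv _ _ (e.hom ≫ ξ) ≫ _
    rw [← adj.homEquiv_naturality_right, Category.assoc]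
  · show adj.homEquiv _ _ (e.hom ≫ sc k X a ≫ ξ) = scPt k a ≫ adj.homEquiv _ _ (e.hom ≫ ξ)
    rw [← adj.homEquiv_naturality_left, ← reassoc_of% (he a)]

variable (h : DCoh.RpushPreservesQCoh (str k X)) [DCoh.HasShriek (str k X) h]
  (OY : DCoh.DQCoh (pt k))

/-- The dualizing complex. -/
abbrev TX : DCoh.D X := DCoh.dualizingCx (str k X) h OY

/-- A trace on the dualizing complex: every linear functional on `Hom(O_X, G)` comes from a unique map. -/
structure Trace where
  /-- The functional. -/
  tr : (OX X ⟶ TX k h OY) →ₗ[k] k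
  perfect : ∀ G : DCoh.D X, DCoh.IsQCohD G → ∀ F : (OX X ⟶ G) →ₗ[k] k,
    ∃! φ : G ⟶ TX k h OY, ∀ ξ, tr (ξ ≫ φ) = F ξ

/-- Grothendieck duality over a field. -/
theorem nonempty_trace
    (hOY : Nonempty (OY.obj ≅ DCoh.inD (pt k) (Coh.structureModule (pt k)))) :
    Nonempty (Trace k h OY) := by
  obtain ⟨eY⟩ := hOY
  obtain ⟨Φ, hΦr, hΦl⟩ := exists_homEquiv k (X := X)
  let adj := DCoh.shriekAdj (str k X) h
  let ctr : (DCoh.Rpush (str k X)).obj (TX k h OY) ⟶ OD k := (adj.counit.app OY).hom ≫ eY.hom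
  let τ : (OX X ⟶ TX k h OY) →+ k := AddMonoidHom.mk' (fun ξ => scEquiv k (Φ _ ξ ≫ ctr))
    fun a b => by rw [map_add, Preadditive.add_comp, map_add]
  refine ⟨⟨{ τ with map_smul' := fun a ξ => ?_ }, fun G hG F => ?_⟩⟩
  · show scEquiv k (Φ _ (a • ξ) ≫ ctr) = a * scEquiv k (Φ _ ξ ≫ ctr)
    rw [← sc_comp, hΦl, Category.assoc, scEquiv_scPt_comp]
  · let F' : (OD k ⟶ (DCoh.Rpush (str k X)).obj G) →+ (OD k ⟶ OD k) :=
      (scEquiv k).symm.toAddMonoidHom.comp (F.toAddMonoidHom.comp (Φ G).symm.toAddMonoidHom)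
    obtain ⟨ψ, hψ, huniq⟩ := existsUnique_pairing k ((DCoh.Rpush (str k X)).obj G) F' fun e u => by
      obtain ⟨a, rfl⟩ := (bijective_scalarHom k).2 e
      show (scEquiv k).symm (F ((Φ G).symm (scPt k a ≫ u))) = scPt k a ≫ (scEquiv k).symm (F ((Φ G).symm u))
      apply (scEquiv k).injective
      rw [AddEquiv.apply_symm_apply, scEquiv_scPt_comp, AddEquiv.apply_symm_apply]
      have : (Φ G).symm (scPt k a ≫ u) = a • (Φ G).symm u :=
        (Φ G).injective (by rw [AddEquiv.apply_symm_apply, ← sc_comp, hΦl, AddEquiv.apply_symm_apply])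
      rw [this, map_smul]
      rfl
    let G' : DCoh.DQCoh X := ⟨G, hG⟩
    have hψbij : Function.Bijective fun φ : G ⟶ TX k h OY =>
        (DCoh.Rpush (str k X)).map φ ≫ ctr := by
      refine ⟨fun φ φ' hh => ?_, fun χ => ?_⟩
      · have hh' : (DCoh.RpushQ (str k X) h).map (ObjectProperty.homMk φ : G' ⟶ _) ≫ adj.counit.app OY =
            (DCoh.RpushQ (str k X) h).map (ObjectProperty.homMk φ' : G' ⟶ _) ≫ adj.counit.app OY :=
          ObjectProperty.hom_ext _ ((cancel_mono eY.hom).1 (by simpa [ctr] using hh))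
        exact congrArg (fun t => t.hom) ((adj.homEquiv G' OY).symm.injective
          ((Adjunction.homEquiv_counit adj _ _ _).trans (hh'.trans (Adjunction.homEquiv_counit adj _ _ _).symm)))
      · let χ' : (DCoh.RpushQ (str k X) h).obj G' ⟶ OY := ObjectProperty.homMk (χ ≫ eY.inv)
        refine ⟨(adj.homEquiv G' OY χ').hom, ?_⟩
        have := congrArg (fun t => t.hom ≫ eY.hom)
          ((Adjunction.homEquiv_counit adj _ _ _).symm.trans ((adj.homEquiv G' OY).symm_apply_apply χ'))
        simpa [ctr, χ'] using this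
    have key : ∀ (φ : G ⟶ TX k h OY) ξ,
        τ (ξ ≫ φ) = scEquiv k (Φ G ξ ≫ ((DCoh.Rpush (str k X)).map φ ≫ ctr)) := fun φ ξ => by
      show scEquiv k (Φ _ (ξ ≫ φ) ≫ ctr) = _
      rw [hΦr, Category.assoc]
    obtain ⟨φ, hφ⟩ := hψbij.2 ψ
    refine ⟨φ, fun ξ => ?_, fun φ' hφ' => hψbij.1 ?_⟩
    · show τ (ξ ≫ φ) = F ξ
      rw [key, show (DCoh.Rpush (str k X)).map φ ≫ ctr = ψ from hφ, hψ]
      show scEquiv k ((scEquiv k).symm (F ((Φ G).symm (Φ G ξ)))) = F ξ
      rw [AddEquiv.apply_symm_apply, AddEquiv.symm_apply_apply]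
    · show (DCoh.Rpush (str k X)).map φ' ≫ ctr = (DCoh.Rpush (str k X)).map φ ≫ ctr
      rw [show (DCoh.Rpush (str k X)).map φ ≫ ctr = ψ from hφ]
      refine huniq _ fun u => (scEquiv k).injective ?_
      obtain ⟨ξ, rfl⟩ := (Φ G).surjective u
      rw [← key]
      show τ (ξ ≫ φ') = scEquiv k ((scEquiv k).symm (F ((Φ G).symm (Φ G ξ))))
      rw [AddEquiv.apply_symm_apply, AddEquiv.symm_apply_apply]
      exact hφ' ξ

end Groth.Agent.CurveDual15
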