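import Groth.Agent.CurveDual15.ExtUnit
import Groth.Agent.CurveDual15.Universal
import Groth.Agent.FFun.Basic

/-!
# `H^n(X, M) = Hom(O_X, M[n])` in the derived category, linearly and naturally
-/

set_option linter.style.haveILetI false
set_option linter.unusedSectionVars false
set_option backward.isDefEq.respectTransparency false
set_option backward.isDefEq.respectTransparency.types false

universe u

open CategoryTheory CategoryTheory.Limits AlgebraicGeometry Opposite Abelian
open Groth.Agent.PnCoh.Finite (mapLin)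

attribute [local instance] HasDerivedCategory.standard

noncomputable section

namespace Groth.Agent.CurveDual15

variable (k : Type u) [Field k] {X : Scheme.{u}} [X.Over (Spec (CommRingCat.of k))]

/-- `M[n]`. -/
abbrev sh (M : X.Modules) (n : ℕ) : DCoh.D X := (DCoh.inD X M)⟦(n : ℤ)⟧

/-- The map `φ[n]`. -/
abbrev shMap {M N : X.Modules} (φ : M ⟶ N) (n : ℕ) : sh M n ⟶ sh N n :=
  ((DerivedCategory.singleFunctor X.Modules 0).map φ)⟦(n : ℤ)⟧'

/-- `Hom(O_X, M[n]) → H^n(X, M)`. -/
def toHH (M : X.Modules) (n : ℕ) : (OX X ⟶ sh M n) ≃+ Coh.HH X M n :=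
  (Ext.homAddEquiv (X := Coh.structureModule X) (Y := M) (n := n)).symm.trans (unitExtEquiv M n)

theorem toHH_naturality {M N : X.Modules} (φ : M ⟶ N) (n : ℕ) (ξ : OX X ⟶ sh M n) :
    toHH N n (ξ ≫ shMap φ n) = mapLin k φ n (toHH M n ξ) := by
  let e := Ext.homAddEquiv (X := Coh.structureModule X) (Y := M) (n := n)
  let e' := Ext.homAddEquiv (X := Coh.structureModule X) (Y := N) (n := n)
  have h1 : e'.symm (ξ ≫ shMap φ n) = (e.symm ξ).comp (Ext.mk₀ φ) (add_zero n) := by
    apply e'.injective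
    rw [AddEquiv.apply_symm_apply]
    show _ = ((e.symm ξ).comp (Ext.mk₀ φ) (add_zero n)).hom
    rw [Ext.comp_hom, Ext.mk₀_hom, ShiftedHom.comp_mk₀]
    exact congrArg (· ≫ shMap φ n) (e.apply_symm_apply ξ).symm
  show unitExt N n (e'.symm (ξ ≫ shMap φ n)) = _
  rw [h1, unitExt_naturality]
  rfl

theorem shMap_smulMod (M : X.Modules) (n : ℕ) (a : k) :
    shMap (Formal.smulMod k M a) n = a • 𝟙 (sh M n) := by
  rw [shMap, ← KLin.smul_id, Functor.map_smul, CategoryTheory.Functor.map_id, Functor.map_smul,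
    CategoryTheory.Functor.map_id]

theorem toHH_smul (M : X.Modules) (n : ℕ) (a : k) (ξ : OX X ⟶ sh M n) :
    toHH M n (a • ξ) = a • toHH M n ξ := by
  have : a • ξ = ξ ≫ shMap (Formal.smulMod k M a) n := by
    rw [shMap_smulMod, Linear.comp_smul, Category.comp_id]
  rw [this, toHH_naturality k]
  exact FFun.mapLin_smulMod (A := k) M a n _

/-- `Hom(O_X, M[n]) = H^n(X, M)`, linearly. -/
def hhEquiv (M : X.Modules) (n : ℕ) : (OX X ⟶ sh M n) ≃ₗ[k] Coh.HH X M n :=
  { toHH M n with map_smul' := toHH_smul k M n }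

theorem hhEquiv_naturality {M N : X.Modules} (φ : M ⟶ N) (n : ℕ) (ξ : OX X ⟶ sh M n) :
    hhEquiv k N n (ξ ≫ shMap φ n) = mapLin k φ n (hhEquiv k M n ξ) :=
  toHH_naturality k φ n ξ

theorem hhEquiv_symm_naturality {M N : X.Modules} (φ : M ⟶ N) (n : ℕ) (x : Coh.HH X M n) :
    (hhEquiv k N n).symm (mapLin k φ n x) = (hhEquiv k M n).symm x ≫ shMap φ n := by
  apply (hhEquiv k N n).injective
  rw [LinearEquiv.apply_symm_apply, hhEquiv_naturality, LinearEquiv.apply_symm_apply]

end Groth.Agent.CurveDual15
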