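import Groth.Agent.GorSocle.Basic
import Mathlib.RingTheory.Nakayama
import Mathlib.RingTheory.Artinian.Module
import Mathlib.LinearAlgebra.Dimension.Finite

/-!
# A cyclicity criterion over a ring with simple socle modulo a regular element
-/

universe u

open IsLocalRing
open scoped Pointwise

namespace Groth.Agent.CurveDual15

/-- If `R/(r)` acts faithfully on `M/rM`, has simple socle, and both have the same dimension over `k`,
then `M` is free of rank one. -/
theorem exists_bijective_smul {k R M : Type u} [Field k] [CommRing R] [IsLocalRing R] [IsNoetherianRing R]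
    [Algebra k R] [AddCommGroup M] [Module R M] [Module k M] [IsScalarTower k R M] [Module.Finite R M]
    {r : R} (hr : r ∈ maximalIdeal R) (hregR : IsSMulRegular R r) (hregM : IsSMulRegular M r)
    (hsoc : ∀ a b : R, (∀ c ∈ maximalIdeal R, c * a ∈ Ideal.span {r}) →
      (∀ c ∈ maximalIdeal R, c * b ∈ Ideal.span {r}) → a ∉ Ideal.span {r} → ∃ t, b - t * a ∈ Ideal.span {r})
    {ι : Type*} (m : ι → M)
    (hfaith : ∀ a : R, (∀ i, a • m i ∈ r • (⊤ : Submodule R M)) → a ∈ Ideal.span {r})
    [Module.Finite k (R ⧸ Ideal.span {r})] [Module.Finite k (M ⧸ r • (⊤ : Submodule R M))]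
    (hdim : Module.finrank k (M ⧸ r • (⊤ : Submodule R M)) ≤ Module.finrank k (R ⧸ Ideal.span {r})) :
    ∃ e : M, Function.Bijective fun a : R => a • e := by
  classical
  let Rb := R ⧸ Ideal.span {r}
  haveI : Nontrivial Rb := Ideal.Quotient.nontrivial_iff.mpr (by
    rw [Ne, Ideal.span_singleton_eq_top]; exact hr)
  haveI : IsLocalRing Rb := .of_surjective' (Ideal.Quotient.mk _) Ideal.Quotient.mk_surjective
  haveI : IsArtinianRing Rb := IsArtinianRing.of_finite k _
  obtain ⟨n, hn⟩ : ∃ n, maximalIdeal R ^ n ≤ Ideal.span {r} := by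
    obtain ⟨n, hn⟩ := IsArtinianRing.isNilpotent_jacobson_bot (R := Rb)
    refine ⟨n, fun a ha => Ideal.Quotient.eq_zero_iff_mem.1 ?_⟩
    have h1 : Ideal.Quotient.mk (Ideal.span {r}) a ∈
        (maximalIdeal R).map (Ideal.Quotient.mk (Ideal.span {r})) ^ n := by
      rw [← Ideal.map_pow]; exact Ideal.mem_map_of_mem _ ha
    have hle : (maximalIdeal R).map (Ideal.Quotient.mk (Ideal.span {r})) ≤ (⊥ : Ideal Rb).jacobson := by
      rw [IsLocalRing.jacobson_eq_maximalIdeal ⊥ bot_ne_top]
      refine IsLocalRing.le_maximalIdeal fun h => ?_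
      have := congrArg (Ideal.comap (Ideal.Quotient.mk (Ideal.span {r}))) h
      rw [Ideal.comap_map_of_surjective _ Ideal.Quotient.mk_surjective, ← RingHom.ker_eq_comap_bot,
        Ideal.mk_ker, Ideal.comap_top, sup_eq_left.2 ((Ideal.span_singleton_le_iff_mem _).2 hr)] at this
      exact (maximalIdeal.isMaximal R).ne_top this
    have h2 := Ideal.pow_right_mono hle n h1
    rw [hn] at h2
    exact h2
  -- every element outside `(r)` has a socle multiple outside `(r)`
  have hex : ∀ a : R, a ∉ Ideal.span {r} →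
      ∃ c, c * a ∉ Ideal.span {r} ∧ ∀ d ∈ maximalIdeal R, d * (c * a) ∈ Ideal.span {r} := by
    suffices H : ∀ (j : ℕ) (a : R), a ∉ Ideal.span {r} → (∀ d ∈ maximalIdeal R ^ j, d * a ∈ Ideal.span {r}) →
        ∃ c, c * a ∉ Ideal.span {r} ∧ ∀ d ∈ maximalIdeal R, d * (c * a) ∈ Ideal.span {r} from
      fun a ha => H n a ha fun d hd => Ideal.mul_mem_right _ _ (hn hd)
    intro j
    induction j with
    | zero =>
      intro a ha hd
      exact absurd (by simpa using hd 1 (by simp)) ha
    | succ j ih =>
      intro a ha hd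
      by_cases hj : ∀ d ∈ maximalIdeal R ^ j, d * a ∈ Ideal.span {r}
      · exact ih a ha hj
      · push Not at hj
        obtain ⟨c, hc, hca⟩ := hj
        refine ⟨c, hca, fun d hdm => ?_⟩
        rw [← mul_assoc]
        exact hd _ (by rw [pow_succ']; exact Ideal.mul_mem_mul hdm hc)
  have h1 : (1 : R) ∉ Ideal.span {r} := fun h => by
    rw [Ideal.mem_span_singleton] at h
    exact hr (isUnit_of_dvd_one h)
  obtain ⟨s, hs0, hs⟩ := hex 1 h1
  obtain ⟨i, hi⟩ : ∃ i, (s * 1) • m i ∉ r • (⊤ : Submodule R M) := by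
    by_contra hne
    push Not at hne
    exact hs0 (hfaith _ hne)
  let e := m i
  have hinj : ∀ a : R, a • e ∈ r • (⊤ : Submodule R M) → a ∈ Ideal.span {r} := fun a ha => by
    by_contra hne
    obtain ⟨c, hca, hc⟩ := hex a hne
    obtain ⟨t, ht⟩ := hsoc _ _ hc hs hca
    obtain ⟨q, hq⟩ := Ideal.mem_span_singleton.1 ht
    refine hi ?_
    rw [show s * 1 = t * c * a + r * q by rw [← hq]; ring, add_smul, mul_smul, mul_smul, mul_smul]
    exact add_mem (Submodule.smul_mem _ _ (Submodule.smul_mem _ _ ha))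
      (Submodule.smul_mem_pointwise_smul _ _ _ Submodule.mem_top)
  let φ : Rb →ₗ[R] M ⧸ r • (⊤ : Submodule R M) :=
    Submodule.liftQ _ ((Submodule.mkQ _).comp (LinearMap.toSpanSingleton R M e)) fun a ha => by
      obtain ⟨q, rfl⟩ := Ideal.mem_span_singleton.1 ha
      rw [LinearMap.mem_ker, LinearMap.comp_apply, LinearMap.toSpanSingleton_apply, Submodule.mkQ_apply,
        Submodule.Quotient.mk_eq_zero, mul_smul]
      exact Submodule.smul_mem_pointwise_smul _ _ _ Submodule.mem_top
  have hφi : Function.Injective φ := by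
    rw [← LinearMap.ker_eq_bot, eq_bot_iff]
    intro z hz
    obtain ⟨a, rfl⟩ := Submodule.Quotient.mk_surjective _ z
    have ha : Submodule.Quotient.mk (p := r • (⊤ : Submodule R M)) (a • e) = 0 := hz
    exact (Submodule.mem_bot _).2 ((Submodule.Quotient.mk_eq_zero _).2 (hinj a ((Submodule.Quotient.mk_eq_zero _).1 ha)))
  let φk := φ.restrictScalars k
  have hφs : Function.Surjective φk :=
    (LinearMap.injective_iff_surjective_of_finrank_eq_finrank
      (le_antisymm (LinearMap.finrank_le_finrank_of_injective (f := φk) hφi) hdim)).1 hφi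
  have hspan : (⊤ : Submodule R M) ≤ Submodule.span R {e} := by
    refine Submodule.le_of_le_smul_of_le_jacobson_bot (I := Ideal.span {r}) Module.Finite.fg_top
      (((Ideal.span_singleton_le_iff_mem _).2 hr).trans (maximalIdeal_le_jacobson ⊥)) fun v _ => ?_
    obtain ⟨z, hz⟩ := hφs (Submodule.Quotient.mk v)
    obtain ⟨a, rfl⟩ := Submodule.Quotient.mk_surjective _ z
    have hz' : Submodule.Quotient.mk (p := r • (⊤ : Submodule R M)) (a • e) = Submodule.Quotient.mk v := hz
    obtain ⟨w, -, hw⟩ := (Submodule.mem_smul_pointwise_iff_exists _ _ _).1 ((Submodule.Quotient.eq _).1 hz'.symm)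
    rw [show v = a • e + r • w by rw [hw]; abel]
    exact Submodule.add_mem_sup (Submodule.smul_mem _ _ (Submodule.mem_span_singleton_self e))
      (Submodule.smul_mem_smul (Ideal.mem_span_singleton_self r) Submodule.mem_top)
  refine ⟨e, ?_, fun v => Submodule.mem_span_singleton.1 (hspan Submodule.mem_top)⟩
  let K := LinearMap.ker (LinearMap.toSpanSingleton R M e)
  have hK : K = ⊥ := by
    refine Submodule.eq_bot_of_le_smul_of_le_jacobson_bot (Ideal.span {r}) _ (IsNoetherian.noetherian K)
      (fun a ha => ?_) (((Ideal.span_singleton_le_iff_mem _).2 hr).trans (maximalIdeal_le_jacobson ⊥))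
    have ha0 : a • e = 0 := ha
    obtain ⟨q, rfl⟩ := Ideal.mem_span_singleton.1 (hinj a (by rw [ha0]; exact zero_mem _))
    have hq : q ∈ K := hregM (by
      show r • (q • e) = r • (0 : M)
      rw [smul_smul, ha0, smul_zero])
    exact Submodule.smul_mem_smul (Ideal.mem_span_singleton_self r) hq
  exact LinearMap.ker_eq_bot.1 hK

end Groth.Agent.CurveDual15
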