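import Groth.Agent.CurveDual15.CMTwist
import Groth.Agent.VarBase.DimOne.Extend

/-!
# An invertible module with a section vanishing at one closed point
-/

set_option linter.style.haveILetI false
set_option linter.unusedSectionVars false
set_option backward.isDefEq.respectTransparency false
set_option backward.isDefEq.respectTransparency.types false

universe u

open CategoryTheory CategoryTheory.Limits AlgebraicGeometry TopologicalSpace Opposite MonoidalCategory
open scoped Pointwise

noncomputable section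

namespace Groth.Agent.CurveDual15

open Groth.Agent

variable {X : Scheme.{u}}

/-- A regular element is a unit at the proper generizations of a point of a curve. -/
theorem mem_basicOpen_of_regular (hdim : topologicalKrullDim X ≤ 1) {V : X.Opens}
    (hV : IsAffineOpen V) {x γ : X} (hxV : x ∈ V) (h : γ ⤳ x) (hne : γ ≠ x) (f : Γ(X, V))
    (hreg : IsSMulRegular (X.presheaf.stalk x) (X.presheaf.germ V x hxV f)) : γ ∈ X.basicOpen f := by
  have hγV : γ ∈ V := h.mem_open V.2 hxV
  by_contra hγ
  have hmin : ∀ y, y ⤳ γ → y = γ := fun y hy => by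
    by_contra hne'
    have hcl := eq_or_isClosed_of_specializes hdim hy hne'
    exact hne ((h.mem_closed hcl rfl).symm)
  haveI : Subsingleton (PrimeSpectrum (X.presheaf.stalk γ)) := by
    refine ⟨fun a b => (X.fromSpecStalk γ).isEmbedding.injective ?_⟩
    have ha : (X.fromSpecStalk γ).base a ⤳ γ := by
      have : (X.fromSpecStalk γ).base a ∈ Set.range (X.fromSpecStalk γ).base := ⟨a, rfl⟩
      rwa [Scheme.range_fromSpecStalk] at this
    have hb : (X.fromSpecStalk γ).base b ⤳ γ := by
      have : (X.fromSpecStalk γ).base b ∈ Set.range (X.fromSpecStalk γ).base := ⟨b, rfl⟩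
      rwa [Scheme.range_fromSpecStalk] at this
    exact (hmin _ ha).trans (hmin _ hb).symm
  obtain ⟨n, hn⟩ : IsNilpotent (X.presheaf.germ V γ hγV f) := by
    rw [← mem_nilradical, nilradical_eq_sInf, Ideal.mem_sInf]
    intro P hP
    have : P = IsLocalRing.maximalIdeal (X.presheaf.stalk γ) :=
      congrArg PrimeSpectrum.asIdeal (Subsingleton.elim (⟨P, hP⟩ : PrimeSpectrum _) (IsLocalRing.closedPoint _))
    rw [this]
    exact fun hu => hγ ((X.mem_basicOpen f γ hγV).2 hu)
  rw [← map_pow] at hn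
  letI := (X.presheaf.germ V γ hγV).hom.toAlgebra
  haveI := hV.isLocalization_stalk ⟨γ, hγV⟩
  obtain ⟨g, hg⟩ := (IsLocalization.map_eq_zero_iff (hV.primeIdealOf ⟨γ, hγV⟩).asIdeal.primeCompl
    (X.presheaf.stalk γ) (f ^ n)).1 hn
  have hgu : IsUnit (X.presheaf.germ V γ hγV g.1) := IsLocalization.map_units (X.presheaf.stalk γ) g
  have h0 : X.presheaf.germ V x hxV g.1 = 0 := by
    have h1 := congrArg (X.presheaf.germ V x hxV) hg
    rw [map_mul, map_pow, map_zero] at h1
    exact (IsSMulRegular.pow n hreg) (by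
      show _ * _ = _ * (0 : X.presheaf.stalk x)
      rw [mul_zero, mul_comm]
      exact h1)
  have h2 : X.presheaf.germ V γ hγV g.1 = 0 := by
    rw [← X.presheaf.germ_stalkSpecializes hxV h, CommRingCat.comp_apply, h0, map_zero]
  rw [h2] at hgu
  exact not_isUnit_zero hgu

/-- An invertible module with a section whose generating locus is the complement of a closed point. -/
theorem exists_point_section [IsNoetherian X] (hdim : topologicalKrullDim X ≤ 1) (hX : Unmixed X)
    {x : X} (hx : IsClosed ({x} : Set X)) :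
    ∃ (L : X.Modules) (σ : Coh.structureModule X ⟶ L), PicF.IsInvertible L ∧
      ∀ y, y ∈ CohB1.genLocus L σ ↔ y ≠ x := by
  obtain ⟨r, hr, hreg⟩ := hX x hx
  obtain ⟨V₀, hxV₀, f₀, hf₀⟩ := X.presheaf.exists_germ_eq (x := x) r
  obtain ⟨_, ⟨V, hV, rfl⟩, hxV, hle⟩ := X.isBasis_affineOpens.exists_subset_of_mem_open (show x ∈ V₀ from hxV₀) V₀.2
  replace hle : V ≤ V₀ := hle
  replace hV : IsAffineOpen V := hV
  let f := AModX.resR hle f₀
  have hf : X.presheaf.germ V x hxV f = r := (InvX.germ_resR' _ hxV f₀).trans hf₀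
  let C : Set X := (V : Set X) \ (X.basicOpen f : Set X)
  obtain ⟨Fs, hFs, hcl, hirr, hU'⟩ :=
    NoetherianSpace.exists_finite_set_isClosed_irreducible (α := X) (isClosed_closure (s := C))
  let S : Set X := ⋃₀ {s ∈ Fs | x ∉ s}
  have hScl : IsClosed S := by
    rw [show S = _ from Set.sUnion_eq_biUnion]
    exact (hFs.subset (Set.sep_subset _ _)).isClosed_biUnion fun s hs => hcl s hs.1
  have hxS : x ∉ S := fun ⟨s, hs, hxs⟩ => hs.2 hxs
  have hCS : ∀ y ∈ C, y ≠ x → y ∈ S := fun y hy hne => by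
    obtain ⟨s, hs, hys⟩ : y ∈ ⋃₀ Fs := hU' ▸ subset_closure hy
    refine ⟨s, ⟨hs, fun hxs => hne ?_⟩, hys⟩
    obtain ⟨γ, hγ⟩ := QuasiSober.sober (hirr s hs) (hcl s hs)
    have hγV : γ ∈ V := (hγ.specializes hxs).mem_open V.2 hxV
    have hγC : γ ∉ X.basicOpen f := fun hb => by
      obtain ⟨z, hzb, hz⟩ := mem_closure_iff.1 (hU'.ge ⟨s, hs, hγ.mem⟩ : γ ∈ closure C) _ (X.basicOpen f).2 hb
      exact hz.2 hzb
    by_cases hγx : γ = x
    · subst hγx
      exact (hγ.specializes hys).mem_closed hx rfl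
    · exact absurd (mem_basicOpen_of_regular hdim hV hxV (hγ.specializes hxs) hγx f (hf.symm ▸ hreg)) hγC
  let U : X.Opens := ⟨{x}ᶜ, hx.isOpen_compl⟩
  let W : X.Opens := V ⊓ ⟨Sᶜ, hScl.isOpen_compl⟩
  let fW : Γ(X, W) := AModX.resR (inf_le_left : W ≤ V) f
  have hbo : X.basicOpen fW = U ⊓ W := by
    ext y
    have h1 : X.basicOpen fW = W ⊓ X.basicOpen f := X.basicOpen_res _ _
    rw [h1]
    constructor
    · rintro ⟨hyW, hyb⟩
      refine ⟨?_, hyW⟩
      rintro rfl
      have := (X.mem_basicOpen f y hxV).1 hyb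
      rw [hf] at this
      exact hr this
    · rintro ⟨hyU, hyW⟩
      refine ⟨hyW, ?_⟩
      by_contra hyb
      exact hyW.2 (hCS y ⟨hyW.1, hyb⟩ hyU)
  obtain ⟨L, σ, hL, hσ, -⟩ := VarBase.DimOne.exists_genLocus_eq U (fun _ : PUnit.{u + 1} => W)
    (fun y hy => ⟨PUnit.unit, by
      have : y = x := not_not.1 hy
      subst this
      exact ⟨hxV, hxS⟩⟩)
    (fun i j hij => absurd (Subsingleton.elim i j) hij) (fun _ => fW) (fun _ => hbo)
  exact ⟨L, σ, hL, fun y => by rw [hσ]; rfl⟩

/-- The image of multiplication by a section on stalks. -/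
theorem exists_range_secMul {L : X.Modules} (hL : PicF.IsInvertible L) (σ : Coh.structureModule X ⟶ L) (x : X) :
    ∃ r : X.presheaf.stalk x, (x ∉ CohB1.genLocus L σ → r ∈ IsLocalRing.maximalIdeal (X.presheaf.stalk x)) ∧
      ∀ F : X.Modules, LinearMap.range ((DerSch.stalkFunctor X x).map ((secMul σ).app F)).hom =
        r • (⊤ : Submodule (X.presheaf.stalk x) ((DerSch.stalkFunctor X x).obj ((AmpleVan.tw L).obj F))) := by
  obtain ⟨U, hx, e, he⟩ := InvX.exists_frame hL x
  obtain ⟨g, hg⟩ := he.exists_coord le_rfl (AModX.res L (le_top : U ≤ ⊤) (InvX.one σ))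
  rw [AModX.res_self] at hg
  let R := X.presheaf.stalk x
  let l : (DerSch.stalkFunctor X x).obj L := L.presheaf.germ U x hx e
  let r : R := X.presheaf.germ U x hx g
  have hb := he.germ_bijective hx
  let one : (DerSch.stalkFunctor X x).obj (Coh.structureModule X) :=
    (Coh.structureModule X).presheaf.germ ⊤ x trivial (1 : Γ(X, ⊤))
  have hσ : stMap x σ one = r • l := by
    refine (stMap_germ_one x σ).trans ?_
    refine ((L.presheaf.germ_res_apply (homOfLE le_top) x hx (InvX.one σ)).symm.trans ?_)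
    rw [show (L.presheaf.map (homOfLE (le_top : U ≤ ⊤)).op) (InvX.one σ) = g • e from hg]
    exact QCoh.germ_smul' L hx g e
  refine ⟨r, fun hxL => ?_, fun F => ?_⟩
  · by_contra hu
    have hu' : IsUnit r := not_not.1 hu
    exact hxL ((InvX.genLocus_inf σ he hg).ge ((X.mem_basicOpen g x hx).2 hu')).1
  let M := (DerSch.stalkFunctor X x).obj F
  let N := (DerSch.stalkFunctor X x).obj L
  let a := stArrowIso σ F x
  let φ := ((DerSch.stalkFunctor X x).map ((secMul σ).app F)).hom
  let ψ := ((tensorLeft M).map (stMap x σ)).hom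
  have hcomm : ∀ z, φ (a.inv.left z) = a.inv.right (ψ z) := fun z => congr($(a.inv.w) z)
  have hψ : ∀ (z : M) (c : R), ψ (z ⊗ₜ[R] (c • one)) = r • ((c • z) ⊗ₜ[R] l) := fun z c => by
    show (z ⊗ₜ[R] stMap x σ (c • one) : TensorProduct R M N) = _
    rw [map_smul, hσ, smul_smul, TensorProduct.tmul_smul, mul_comm c r, mul_smul, TensorProduct.smul_tmul']
  apply le_antisymm
  · rintro _ ⟨y, rfl⟩
    have hy : y = a.inv.left (a.hom.left y) := by
      show y = (a.hom.left ≫ a.inv.left) y
      rw [← Arrow.comp_left, a.hom_inv_id]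
      rfl
    rw [hy, hcomm]
    generalize a.hom.left y = z
    have : ψ z ∈ r • (⊤ : Submodule R (TensorProduct R M N)) := by
      refine TensorProduct.induction_on z (by rw [map_zero]; exact zero_mem _) (fun m w => ?_)
        (fun u v hu hv => by rw [map_add]; exact add_mem hu hv)
      obtain ⟨c, rfl⟩ := germ_smul_one x w
      rw [hψ]
      exact Submodule.smul_mem_pointwise_smul _ _ _ Submodule.mem_top
    obtain ⟨w, -, hw⟩ := (Submodule.mem_smul_pointwise_iff_exists _ _ _).1 this
    rw [← hw]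
    exact (Submodule.mem_smul_pointwise_iff_exists _ _ _).2 ⟨a.inv.right w, trivial, (map_smul _ _ _).symm⟩
  · intro v hv
    obtain ⟨w, -, rfl⟩ := (Submodule.mem_smul_pointwise_iff_exists _ _ _).1 hv
    obtain ⟨z, hz⟩ : ∃ z : M, z ⊗ₜ[R] l = a.hom.right w := by
      generalize a.hom.right w = u
      refine TensorProduct.induction_on u ⟨0, TensorProduct.zero_tmul _ _⟩ (fun m n => ?_) ?_
      · obtain ⟨c, rfl⟩ := hb.2 n
        exact ⟨c • m, TensorProduct.smul_tmul _ _ _⟩
      · rintro p q ⟨z, rfl⟩ ⟨z', rfl⟩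
        exact ⟨z + z', TensorProduct.add_tmul _ _ _⟩
    refine ⟨a.inv.left (z ⊗ₜ[R] ((1 : R) • one)), ?_⟩
    refine (hcomm _).trans ?_
    rw [hψ, one_smul]
    refine (map_smul a.inv.right.hom r _).trans (congrArg (r • ·) ?_)
    rw [hz]
    show (a.hom.right ≫ a.inv.right) w = w
    rw [← Arrow.comp_right, a.hom_inv_id]
    rfl

end Groth.Agent.CurveDual15
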