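import Groth.Agent.CurveDual15.CMDual
import Groth.Agent.SheafHomX.Smul

/-!
# Sections of twists of the dualizing module
-/

set_option linter.style.haveILetI false
set_option linter.unusedSectionVars false
set_option backward.isDefEq.respectTransparency false
set_option backward.isDefEq.respectTransparency.types false

universe u

open CategoryTheory CategoryTheory.Limits AlgebraicGeometry TopologicalSpace Opposite MonoidalCategory
open Groth.Agent.PnCoh.Finite (mapLin)

attribute [local instance] HasDerivedCategory.standard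

noncomputable section

namespace Groth.Agent.CurveDual15

open Groth.Agent

variable (k : Type u) [Field k] {X : Scheme.{u}} [X.Over (Spec (CommRingCat.of k))]

/-- Twisting is linear. -/
theorem tw_map_smul (M : X.Modules) {A B : X.Modules} (a : k) (f : A ⟶ B) :
    (AmpleVan.tw M).map (a • f) = a • (AmpleVan.tw M).map f := by
  rw [KLin.smul_def, KLin.smul_def, Functor.map_comp]
  exact congrArg (· ≫ _) (SheafHomX.ten_map_smulMod M A a)

/-- Twisting by an invertible module as a linear equivalence on morphisms. -/
def twHom {M : X.Modules} (hM : PicF.IsInvertible M) (A B : X.Modules) :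
    (A ⟶ B) ≃ₗ[k] ((AmpleVan.tw M).obj A ⟶ (AmpleVan.tw M).obj B) :=
  haveI := AmpleVan.isEquivalence_tw hM
  haveI : (AmpleVan.tw M).Additive := Functor.additive_of_preserves_binary_products _
  LinearEquiv.ofBijective
    ({ toFun := fun f => (AmpleVan.tw M).map f
       map_add' := fun _ _ => (AmpleVan.tw M).map_add
       map_smul' := fun a f => tw_map_smul k M a f } :
      (A ⟶ B) →ₗ[k] ((AmpleVan.tw M).obj A ⟶ (AmpleVan.tw M).obj B))
    ⟨fun _ _ h => (AmpleVan.tw M).map_injective h, fun g => (AmpleVan.tw M).map_surjective g⟩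

/-- Sections as morphisms, linearly. -/
def homEquivH0 (F : X.Modules) : (Coh.structureModule X ⟶ F) ≃ₗ[k] Coh.HH X F 0 :=
  let S := DerivedCategory.singleFunctor X.Modules 0
  (LinearEquiv.ofBijective
    ({ toFun := fun f => S.map f
       map_add' := fun _ _ => S.map_add
       map_smul' := fun a f => S.map_smul a f } :
      (Coh.structureModule X ⟶ F) →ₗ[k] (OX X ⟶ DCoh.inD X F))
    ⟨fun _ _ h => S.map_injective h, fun g => S.map_surjective g⟩).trans
    ((Linear.homCongr k (Iso.refl _) ((shiftFunctorZero (DCoh.D X) ℤ).app (DCoh.inD X F)).symm).trans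
      (hhEquiv k F 0))

/-- Twisting by the inverse of a line bundle. -/
def homTwEquiv {M P : X.Modules} (hM : PicF.IsInvertible M) (e : CohB1.tensorMod P M ≅ Coh.structureModule X)
    (F : X.Modules) : (P ⟶ F) ≃ₗ[k] Coh.HH X (CohB1.tensorMod F M) 0 :=
  ((twHom k hM P F).trans (Linear.homCongr k e (Iso.refl _))).trans (homEquivH0 k (CohB1.tensorMod F M))

variable [IsProper (X ↘ Spec (CommRingCat.of k))] [DCoh.HasRpush (str k X)]
  {h : DCoh.RpushPreservesQCoh (str k X)} [DCoh.HasShriek (str k X) h] {OY : DCoh.DQCoh (pt k)}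

variable {k} in
/-- `h⁰(ω ⊗ M) = h¹(M⁻¹)` in top degree one. -/
theorem finrank_HH_zero_omega_tensor (hOY : Nonempty (OY.obj ≅ DCoh.inD (pt k) (Coh.structureModule (pt k))))
    (hdim : topologicalKrullDim X ≤ 1) {M P : X.Modules} (hM : PicF.IsInvertible M) (hP : PicF.IsInvertible P)
    (e : CohB1.tensorMod P M ≅ Coh.structureModule X) :
    Module.Finite k (Coh.HH X (CohB1.tensorMod (omega k h OY 1) M) 0) ∧
      Module.finrank k (Coh.HH X (CohB1.tensorMod (omega k h OY 1) M) 0) =
        Module.finrank k (Coh.HH X P 1) := by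
  haveI := isNoetherian_of_proper' k (X := X)
  haveI := CurveCohLib.finite_HH (k := k) (AmpleVan.isCoh_invertible hP) 1
  obtain ⟨t, ht⟩ := nonempty_homEquivDual (h := h) hOY 1 hdim
  let E := (LinearEquiv.ofBijective _ (ht P (AmpleVan.isCoh_invertible hP).1)).symm.trans
    (homTwEquiv k hM e (omega k h OY 1))
  exact ⟨Module.Finite.equiv E, E.finrank_eq.symm.trans Subspace.dual_finrank_eq⟩

end Groth.Agent.CurveDual15
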