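import Groth.Agent.CurveDual15.CohOmega
import Groth.Agent.CurveDual15.LocalGen
import Groth.Agent.CurveDual15.PointSection
import Groth.Agent.CurveDual15.TwistDual
import Groth.Agent.CurveCohLib.Skyscraper
import Groth.Agent.QCoh.LocFree
import Groth.Agent.Lib.CurveDualPrep
import Groth.Agent.ConsPropLib.FibreLocFreeRank

/-!
# The dualizing module of a Gorenstein curve is invertible
-/

set_option linter.style.haveILetI false
set_option linter.unusedSectionVars false
set_option backward.isDefEq.respectTransparency false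
set_option backward.isDefEq.respectTransparency.types false

universe u

open CategoryTheory CategoryTheory.Limits AlgebraicGeometry TopologicalSpace Opposite MonoidalCategory Abelian
open Groth.Agent.PnCoh.Finite (mapLin deltaLin)
open Groth.Agent.H23.PicMul (cl_tensor cl_tensorPow cl_eq_iff)
open scoped Groth.Agent.H23.PicMul
open scoped Pointwise

attribute [local instance] HasDerivedCategory.standard
attribute [local instance] Groth.Agent.QCoh.hasFiniteBiproducts

noncomputable section

namespace Groth.Agent.CurveDual15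

open Groth.Agent

/-- An injective map onto `rB` from a copy of a finite module `B` makes `r` regular on `B`. -/
theorem smulRegular_of_range {R A B : Type u} [CommRing R] [AddCommGroup A] [Module R A] [AddCommGroup B]
    [Module R B] [Module.Finite R B] (φ : A →ₗ[R] B) (hφ : Function.Injective φ) (r : R)
    (hr : LinearMap.range φ = r • (⊤ : Submodule R B)) (e : B ≃ₗ[R] A) : IsSMulRegular B r := by
  let eφ : A ≃ₗ[R] LinearMap.range φ := LinearEquiv.ofInjective φ hφ
  let h : B →ₗ[R] LinearMap.range φ :=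
    LinearMap.codRestrict _ (LinearMap.lsmul R B r) fun b =>
      hr.ge (Submodule.smul_mem_pointwise_smul _ _ _ Submodule.mem_top)
  have hs : Function.Surjective h := fun z => by
    obtain ⟨w, -, hw⟩ := (Submodule.mem_smul_pointwise_iff_exists _ _ _).1 (hr.le z.2)
    exact ⟨w, Subtype.ext hw⟩
  have hi := OrzechProperty.injective_of_surjective_endomorphism
    ((e.symm.toLinearMap ∘ₗ eφ.symm.toLinearMap) ∘ₗ h)
    (e.symm.surjective.comp (eφ.symm.surjective.comp hs))
  intro u v huv
  exact hi (congrArg (fun t => e.symm (eφ.symm t)) (Subtype.ext huv : h u = h v))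

theorem le_zero_of_lt_one {a : WithBot ℕ∞} (h : a < 1) : a ≤ 0 := by
  induction a using WithBot.recBotCoe with
  | bot => exact bot_le
  | coe a =>
    have ha : a < 1 := WithBot.coe_lt_coe.1 h
    rw [Order.lt_one_iff.1 ha]
    exact le_rfl

variable (k : Type u) [Field k] {X : Scheme.{u}} [X.Over (Spec (CommRingCat.of k))]

/-- The stalk of a cokernel as a quotient. -/
theorem exists_quot_equiv {S : ShortComplex X.Modules} (hS : S.ShortExact) (x : X)
    {N : Submodule (X.presheaf.stalk x) ((DerSch.stalkFunctor X x).obj S.X₂)}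
    (hN : LinearMap.range ((DerSch.stalkFunctor X x).map S.f).hom = N) :
    Nonempty (((DerSch.stalkFunctor X x).obj S.X₂ ⧸ N) ≃ₗ[X.presheaf.stalk x]
      (DerSch.stalkFunctor X x).obj S.X₃) := by
  have hx := hS.map_of_exact (DerSch.stalkFunctor X x)
  haveI := hx.epi_g
  have hsurj : Function.Surjective ((DerSch.stalkFunctor X x).map S.g).hom :=
    (ModuleCat.epi_iff_surjective _).1 hx.epi_g
  have hker : LinearMap.ker ((DerSch.stalkFunctor X x).map S.g).hom = N :=
    ((ShortComplex.moduleCat_exact_iff_range_eq_ker _).1 hx.exact).symm.trans hN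
  exact ⟨(Submodule.quotEquivOfEq _ _ hker.symm).trans (LinearMap.quotKerEquivOfSurjective _ hsurj)⟩

variable [IsProper (X ↘ Spec (CommRingCat.of k))]

/-- The dimension of the stalk of a cokernel supported at one point. -/
theorem finrank_quot_eq_euler {S : ShortComplex X.Modules} (hS : S.ShortExact)
    (h3 : Coh.IsCoh S.X₃) {x : X} (hx : IsClosed ({x} : Set X))
    (hsupp : CohB1.support S.X₃ ⊆ {x})
    {N : Submodule (X.presheaf.stalk x) ((DerSch.stalkFunctor X x).obj S.X₂)}
    (hN : LinearMap.range ((DerSch.stalkFunctor X x).map S.f).hom = N) :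
    letI := (Curv2.stalkMap k X x).toAlgebra
    letI : Module k ((DerSch.stalkFunctor X x).obj S.X₂) :=
      Module.compHom _ (Curv2.stalkMap k X x)
    haveI : IsScalarTower k (X.presheaf.stalk x) ((DerSch.stalkFunctor X x).obj S.X₂) :=
      ⟨fun a b c => (smul_smul _ b c).symm⟩
    Module.Finite k ((DerSch.stalkFunctor X x).obj S.X₂ ⧸ N) ∧
      (Module.finrank k ((DerSch.stalkFunctor X x).obj S.X₂ ⧸ N) : ℤ) = Curv2.euler k X S.X₃ := by
  letI := (Curv2.stalkMap k X x).toAlgebra
  letI : Module k ((DerSch.stalkFunctor X x).obj S.X₂) := Module.compHom _ (Curv2.stalkMap k X x)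
  letI : Module k ((DerSch.stalkFunctor X x).obj S.X₃) := Module.compHom _ (Curv2.stalkMap k X x)
  haveI : IsScalarTower k (X.presheaf.stalk x) ((DerSch.stalkFunctor X x).obj S.X₂) :=
    ⟨fun a b c => (smul_smul _ b c).symm⟩
  haveI : IsScalarTower k (X.presheaf.stalk x) ((DerSch.stalkFunctor X x).obj S.X₃) :=
    ⟨fun a b c => (smul_smul _ b c).symm⟩
  obtain ⟨he, hfin⟩ := CurveCohLib.euler_eq_sum_stalks (k := k) h3
    (fun y hy => by rw [Set.mem_singleton_iff.1 (hsupp hy)]; exact hx) {x} (by simpa using hsupp)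
  obtain ⟨e⟩ := exists_quot_equiv hS x hN
  haveI : Module.Finite k ((DerSch.stalkFunctor X x).obj S.X₃) := hfin x (Finset.mem_singleton_self x)
  refine ⟨Module.Finite.equiv (e.restrictScalars k).symm, ?_⟩
  rw [he, Finset.sum_singleton, (e.restrictScalars k).finrank_eq]
  rfl

variable [DCoh.HasRpush (str k X)] {h : DCoh.RpushPreservesQCoh (str k X)}
  [DCoh.HasShriek (str k X) h] {OY : DCoh.DQCoh (pt k)}

variable {k} in
set_option maxHeartbeats 1600000 in
/-- The stalks of the dualizing module at Gorenstein closed points are free of rank one. -/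
theorem nonempty_stalk_omega (hOY : Nonempty (OY.obj ≅ DCoh.inD (pt k) (Coh.structureModule (pt k))))
    (hequi : ∀ Z ∈ irreducibleComponents (X : Type u), topologicalKrullDim Z = 1) (hX : Unmixed X)
    {x : X} (hx : IsClosed ({x} : Set X)) [LocCoh.IsGorensteinLocalRing (X.presheaf.stalk x)] :
    Nonempty (X.presheaf.stalk x ≃ₗ[X.presheaf.stalk x] (DerSch.stalkFunctor X x).obj (omega k h OY 1)) := by
  haveI := isNoetherian_of_proper' k (X := X)
  haveI : QuasiSeparatedSpace X := inferInstance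
  have hdim := dim_le_one_of_equidim hequi
  obtain ⟨τ⟩ := nonempty_trace k h OY hOY
  obtain ⟨eT⟩ := exists_omega_iso τ hequi hX
  obtain ⟨tr, htr⟩ := nonempty_homEquivDual (h := h) hOY 1 hdim
  let ω := omega k h OY 1
  have hωc : Coh.IsCoh ω := isCoh_omega hOY hequi hX
  let R := X.presheaf.stalk x
  let F := DerSch.stalkFunctor X x
  obtain ⟨L, D, -, -, hL, hD, ⟨eLD⟩, -, -, -, q₀, hq₀⟩ := exists_pencil k hequi hX x
  obtain ⟨LZ, σ, hLZ, hσ⟩ := exists_point_section hdim hX hx
  obtain ⟨DZ, hDZ, ⟨eZ⟩⟩ := H23.PicInv.exists_inverse hLZ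
  obtain ⟨r, hr, hrange⟩ := exists_range_secMul hLZ σ x
  replace hr : r ∈ IsLocalRing.maximalIdeal R := hr fun hh => (hσ x).1 hh rfl
  -- the negative twists
  let Pn := twistIter D (Coh.structureModule X) q₀
  let Ln := CohB1.tensorPow L q₀
  have hPn : PicF.IsInvertible Pn := by
    obtain ⟨u⟩ := cl_eq_iff.1 ((cl_tensorPow D q₀).trans (cl_twistIter D q₀).symm)
    exact H23.PicMul.isInvertible_of_iso u (H23.PicMul.isInvertible_tensorPow hD q₀)
  have hLn : PicF.IsInvertible Ln := H23.PicMul.isInvertible_tensorPow hL q₀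
  have hclL : PicF.cl L * PicF.cl D = 1 := by
    rw [mul_comm, ← cl_tensor, H23.PicMul.one_def]; exact cl_eq_iff.2 ⟨eLD⟩
  have hclZ : PicF.cl LZ * PicF.cl DZ = 1 := by
    rw [← cl_tensor, H23.PicMul.one_def]; exact cl_eq_iff.2 ⟨eZ⟩
  let P := CohB1.tensorMod Pn DZ
  have hP : PicF.IsInvertible P := InvX.isInvertible_tensorMod hPn hDZ
  let M' := CohB1.tensorMod Ln LZ
  have hM' : PicF.IsInvertible M' := InvX.isInvertible_tensorMod hLn hLZ
  obtain ⟨ePn⟩ : Nonempty (CohB1.tensorMod Pn Ln ≅ Coh.structureModule X) := cl_eq_iff.1 (by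
    rw [cl_tensor, cl_tensorPow, cl_twistIter, ← mul_pow, mul_comm, hclL, one_pow]; rfl)
  obtain ⟨eP⟩ : Nonempty (CohB1.tensorMod P M' ≅ Coh.structureModule X) := cl_eq_iff.1 (by
    rw [cl_tensor, cl_tensor, cl_tensor, cl_twistIter, cl_tensorPow, mul_mul_mul_comm, ← mul_pow,
      mul_comm (PicF.cl D), hclL, one_pow, one_mul, mul_comm, hclZ]
    rfl)
  obtain ⟨eTwP⟩ : Nonempty ((AmpleVan.tw LZ).obj P ≅ Pn) := cl_eq_iff.1 (by
    show PicF.cl (CohB1.tensorMod P LZ) = _
    rw [cl_tensor, cl_tensor, mul_assoc, mul_comm (PicF.cl DZ), hclZ, mul_one])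
  haveI hPn0 : Subsingleton (Coh.HH X Pn 0) := hq₀ q₀ le_rfl
  haveI hTwP0 : Subsingleton (Coh.HH X ((AmpleVan.tw LZ).obj P) 0) :=
    @Equiv.subsingleton _ _
      ((Sheaf.functorH _ 0).mapIso ((QCoh.toAbFunctor X).mapIso eTwP)).addCommGroupIsoToAddEquiv.toEquiv hPn0
  -- multiplication by the section
  have hsupp : ∀ G : X.Modules, CohB1.support (cokernel ((secMul σ).app G)) ⊆ {x} := fun G y hy => by
    by_contra hne
    haveI := isIso_stalk_secMul hLZ σ G ((hσ y).2 hne)
    exact hy (ModuleCat.subsingleton_of_isZero (IsZero.of_iso (isZero_cokernel_of_epi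
      ((DerSch.stalkFunctor X y).map ((secMul σ).app G))) (PreservesCokernel.iso (DerSch.stalkFunctor X y) _)))
  have hker : ∀ G : X.Modules, CohB1.support (kernel ((secMul σ).app G)) ⊆ {x} := fun G y hy => by
    by_contra hne
    haveI := isIso_stalk_secMul hLZ σ G ((hσ y).2 hne)
    exact hy (ModuleCat.subsingleton_of_isZero (IsZero.of_iso (isZero_kernel_of_mono
      ((DerSch.stalkFunctor X y).map ((secMul σ).app G))) (PreservesKernel.iso (DerSch.stalkFunctor X y) _)))
  have hmonoInv : ∀ {G : X.Modules}, PicF.IsInvertible G → Mono ((secMul σ).app G) := fun {G} hG => by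
    refine InvEnd.mono_of_app_injective _ fun W => ?_
    rw [injective_iff_map_eq_zero]
    intro t ht
    refine eq_zero_of_nonclosed hX hG t fun η hη hηc => ?_
    haveI := isIso_stalk_secMul hLZ σ G ((hσ η).2 fun e => hηc (e ▸ hx))
    apply ((ConcreteCategory.isIso_iff_bijective
      ((DerSch.stalkFunctor X η).map ((secMul σ).app G))).1 inferInstance).1
    refine (DerSch.stalkFunctor_map_germ η _ W hη t).trans ?_
    erw [ht, map_zero, map_zero]
  haveI hmω : Mono ((secMul σ).app ω) := by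
    refine Preadditive.mono_of_isZero_kernel _ ?_
    let K := kernel ((secMul σ).app ω)
    have hKc : Coh.IsCoh K := QCoh.isCoh_of_mono (kernel.ι _) hωc
      (QCoh.isQCoh_kernel hωc.1 (AmpleVan.isCoh_tensor hωc (AmpleVan.isCoh_invertible hLZ)).1 _)
    haveI : Subsingleton (Coh.HH X K 1) := S0047.result X _ hKc (fun y hy => by
      rw [Set.mem_singleton_iff.1 (hker ω hy)]; exact hx) 1 one_pos
    have h0 : kernel.ι ((secMul σ).app ω) = 0 := by
      apply (htr K hKc.1).1
      refine LinearMap.ext fun v => ?_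
      rw [Subsingleton.elim v 0, map_zero, map_zero]
    exact IsZero.of_mono_eq_zero _ h0
  haveI hmP : Mono ((secMul σ).app P) := hmonoInv hP
  let π := cokernel.π ((secMul σ).app ω)
  let Sω : ShortComplex X.Modules := ShortComplex.mk ((secMul σ).app ω) π (cokernel.condition _)
  have hSω : Sω.ShortExact := { exact := ShortComplex.exact_cokernel _ }
  let SP : ShortComplex X.Modules :=
    ShortComplex.mk ((secMul σ).app P) (cokernel.π ((secMul σ).app P)) (cokernel.condition _)
  have hSP : SP.ShortExact := { exact := ShortComplex.exact_cokernel _ }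
  have hPc : Coh.IsCoh P := AmpleVan.isCoh_invertible hP
  have hTwω : Coh.IsCoh ((AmpleVan.tw LZ).obj ω) :=
    AmpleVan.isCoh_tensor hωc (AmpleVan.isCoh_invertible hLZ)
  have hTwPc : Coh.IsCoh ((AmpleVan.tw LZ).obj P) :=
    AmpleVan.isCoh_tensor hPc (AmpleVan.isCoh_invertible hLZ)
  haveI hP0 : Subsingleton (Coh.HH X P 0) := (injective_mapLin_zero k ((secMul σ).app P)).subsingleton
  -- a generating family of functionals and faithfulness
  haveI := CurveCohLib.finite_HH (k := k) hPc 1
  haveI : Module.Finite k (P ⟶ ω) :=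
    Module.Finite.equiv (LinearEquiv.ofBijective _ (htr P hPc.1)).symm
  obtain ⟨N₀, b, hb⟩ := Module.Finite.exists_fin (R := k) (M := (P ⟶ ω))
  let c : Fin N₀ → ((AmpleVan.tw LZ).obj P ⟶ cokernel ((secMul σ).app ω)) :=
    fun i => (AmpleVan.tw LZ).map (b i) ≫ π
  let T : ULift.{u} (Fin N₀) → X.Modules := fun _ => cokernel ((secMul σ).app ω)
  let qv : (AmpleVan.tw LZ).obj P ⟶ ⨁ T := biproduct.lift fun i => c i.down
  have hQωc : Coh.IsCoh (cokernel ((secMul σ).app ω)) :=
    QCoh.isCoh_of_epi π hTwω (QCoh.isQCoh_cokernel hωc.1 hTwω.1 _)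
  have hKc : Coh.IsCoh (kernel qv) := QCoh.isCoh_of_mono (kernel.ι qv) hTwPc
    (QCoh.isQCoh_kernel hTwPc.1 (QCoh.isCoh_biproduct T fun _ => hQωc).1 qv)
  have hjq : (secMul σ).app P ≫ qv = 0 := biproduct.hom_ext _ _ fun i => by
    rw [Category.assoc, biproduct.lift_π, zero_comp]
    show (secMul σ).app P ≫ (AmpleVan.tw LZ).map (b i.down) ≫ π = 0
    rw [← Category.assoc, ← (secMul σ).naturality (b i.down), Category.assoc]
    exact (congrArg (_ ≫ ·) (cokernel.condition _)).trans comp_zero
  let inc : P ⟶ kernel qv := kernel.lift qv ((secMul σ).app P) hjq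
  haveI : Mono inc := mono_of_mono_fac (kernel.lift_ι qv _ hjq)
  have hrest : ∀ u : P ⟶ ω, ∃ u' : kernel qv ⟶ ω, inc ≫ u' = u := fun u => by
    have hu : u ∈ Submodule.span k (Set.range b) := hb ▸ Submodule.mem_top
    induction hu using Submodule.span_induction with
    | mem _ hmem =>
      obtain ⟨i, rfl⟩ := hmem
      have hz : (kernel.ι qv ≫ (AmpleVan.tw LZ).map (b i)) ≫ π = 0 := by
        have : qv ≫ biproduct.π T ⟨i⟩ = c i := biproduct.lift_π _ _
        rw [Category.assoc]
        show kernel.ι qv ≫ c i = 0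
        rw [← this, ← Category.assoc, kernel.condition, zero_comp]
      obtain ⟨u', hu'⟩ := KernelFork.IsLimit.lift' hSω.fIsKernel _ hz
      refine ⟨u', ?_⟩
      rw [← cancel_mono ((secMul σ).app ω), Category.assoc]
      refine (congrArg (inc ≫ ·) hu').trans ?_
      rw [← Category.assoc, kernel.lift_ι]
      exact ((secMul σ).naturality (b i)).symm
    | zero => exact ⟨0, comp_zero⟩
    | add a a' _ _ ha ha' =>
      obtain ⟨v, rfl⟩ := ha
      obtain ⟨v', rfl⟩ := ha'
      exact ⟨v + v', Preadditive.comp_add _ _ _ _ _ _⟩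
    | smul a u _ hu =>
      obtain ⟨v, rfl⟩ := hu
      exact ⟨a • v, Linear.comp_smul _ _ _ inc a v⟩
  have hinc1 : Function.Injective (mapLin k inc 1) := by
    rw [injective_iff_map_eq_zero]
    intro v hv
    refine (Module.forall_dual_apply_eq_zero_iff k v).1 fun g => ?_
    obtain ⟨u, rfl⟩ := (htr P hPc.1).2 g
    obtain ⟨u', rfl⟩ := hrest u
    show tr (mapLin k (inc ≫ u') 1 v) = 0
    rw [← FFun.mapLin_comp, hv, map_zero, map_zero]
  let SC : ShortComplex X.Modules := ShortComplex.mk inc (cokernel.π inc) (cokernel.condition inc)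
  have hSC : SC.ShortExact := { exact := ShortComplex.exact_cokernel _ }
  have hCc : Coh.IsCoh (cokernel inc) :=
    QCoh.isCoh_of_epi (cokernel.π inc) hKc (QCoh.isQCoh_cokernel hPc.1 hKc.1 _)
  have hCsupp : CohB1.support (cokernel inc) ⊆ {x} := fun y hy => by
    by_contra hne
    haveI := isIso_stalk_secMul hLZ σ P ((hσ y).2 hne)
    haveI : IsIso ((DerSch.stalkFunctor X y).map inc ≫ (DerSch.stalkFunctor X y).map (kernel.ι qv)) := by
      rw [← Functor.map_comp, kernel.lift_ι]; infer_instance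
    haveI : Mono ((DerSch.stalkFunctor X y).map (kernel.ι qv)) := inferInstance
    haveI : Epi ((DerSch.stalkFunctor X y).map (kernel.ι qv)) :=
      epi_of_epi ((DerSch.stalkFunctor X y).map inc) _
    haveI := isIso_of_mono_of_epi ((DerSch.stalkFunctor X y).map (kernel.ι qv))
    haveI : IsIso ((DerSch.stalkFunctor X y).map inc) := IsIso.of_isIso_comp_right _
      ((DerSch.stalkFunctor X y).map (kernel.ι qv))
    exact hy (ModuleCat.subsingleton_of_isZero (IsZero.of_iso (isZero_cokernel_of_epi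
      ((DerSch.stalkFunctor X y).map inc)) (PreservesCokernel.iso (DerSch.stalkFunctor X y) _)))
  have hC0 : IsZero (cokernel inc) := by
    have hsupp' : ∀ y ∈ CohB1.support (cokernel inc), IsClosed ({y} : Set X) := fun y hy => by
      rw [Set.mem_singleton_iff.1 (hCsupp hy)]; exact hx
    haveI hK0 : Subsingleton (Coh.HH X (kernel qv) 0) := (injective_mapLin_zero k (kernel.ι qv)).subsingleton
    haveI : Subsingleton (Coh.HH X (cokernel inc) 0) := subsingleton_of_forall_eq 0 fun z => by
      have h1 : deltaLin k hSC 0 z = 0 := by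
        apply hinc1
        rw [map_zero]
        have : deltaLin k hSC 0 z ∈ LinearMap.range (deltaLin k hSC 0) := LinearMap.mem_range_self _ z
        rw [← CurveCohLib.ker_mapLin_f_succ k hSC 0] at this
        exact LinearMap.mem_ker.1 this
      have h2 : z ∈ LinearMap.ker (deltaLin k hSC 0) := LinearMap.mem_ker.2 h1
      rw [CurveCohLib.ker_deltaLin k hSC 0] at h2
      obtain ⟨w, rfl⟩ := h2
      rw [Subsingleton.elim w 0, map_zero]
    refine CurveCohLib.isZero_of_euler_eq_zero (k := k) hCc hsupp' ?_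
    rw [CurveCohLib.euler_eq_finrank_zero hCc hsupp', Module.finrank_zero_of_subsingleton]
    rfl
  haveI : Epi inc := Preadditive.epi_of_isZero_cokernel _ hC0
  haveI : IsIso inc := isIso_of_mono_of_epi inc
  -- the stalks
  obtain ⟨eM⟩ := nonempty_stalk_tw hLZ ω x
  obtain ⟨eA⟩ := nonempty_stalk_tw hLZ P x
  obtain ⟨bP⟩ := CurveTensor.exists_basis_stalk (InvEnd.isFinLocFreeOfRank_one hP) x
  let ψ : R ≃ₗ[R] F.obj ((AmpleVan.tw LZ).obj P) :=
    ((bP.equivFun.trans (LinearEquiv.funUnique (Fin 1) R R)).symm).trans eA.symm.toLinearEquiv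
  let y := ψ 1
  have hψ : ∀ a : R, a • y = ψ a := fun a => by rw [← map_smul, smul_eq_mul, mul_one]
  have hfaith : ∀ a : R, (∀ i, a • (F.map ((AmpleVan.tw LZ).map (b i))).hom y ∈
      r • (⊤ : Submodule R (F.obj ((AmpleVan.tw LZ).obj ω)))) → a ∈ Ideal.span {r} := fun a ha => by
    have hcomp : ∀ i, (F.map (c i)).hom (a • y) = 0 := fun i => by
      rw [Functor.map_comp, ModuleCat.hom_comp, LinearMap.comp_apply, map_smul]
      obtain ⟨w, hw⟩ : ((a • (F.map ((AmpleVan.tw LZ).map (b i))).hom y)) ∈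
          LinearMap.range (F.map ((secMul σ).app ω)).hom := by rw [hrange]; exact ha i
      rw [← hw]
      exact congr($((F.map_comp ((secMul σ).app ω) π).symm.trans
        ((congrArg F.map (cokernel.condition _)).trans (F.map_zero _ _))) w)
    have hqv : (F.map qv).hom (a • y) = 0 := by
      have hsum : qv = ∑ i : ULift.{u} (Fin N₀), c i.down ≫ biproduct.ι T i := by
        refine biproduct.hom_ext _ _ fun j => ?_
        rw [Preadditive.sum_comp, Finset.sum_eq_single j, biproduct.lift_π]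
        · rw [Category.assoc, biproduct.ι_π_self]
          exact (Category.comp_id _).symm
        · intro i _ hij
          rw [Category.assoc, biproduct.ι_π_ne T hij, comp_zero]
        · simp
      rw [hsum, Functor.map_sum, ModuleCat.hom_sum, LinearMap.sum_apply]
      refine Finset.sum_eq_zero fun i _ => ?_
      rw [Functor.map_comp, ModuleCat.hom_comp, LinearMap.comp_apply, hcomp, map_zero]
    let SK : ShortComplex X.Modules := ShortComplex.mk (kernel.ι qv) qv (kernel.condition qv)
    have hSK : (SK.map F).Exact :=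
      (ShortComplex.exact_of_f_is_kernel SK (kernelIsKernel qv)).map F
    obtain ⟨v, hv⟩ := (ShortComplex.moduleCat_exact_iff _).1 hSK (a • y) hqv
    have h1 : a • y ∈ LinearMap.range (F.map ((secMul σ).app P)).hom := by
      refine ⟨(F.map (inv inc)).hom v, ?_⟩
      rw [← hv]
      show ((F.map (inv inc)) ≫ F.map ((secMul σ).app P)).hom v = _
      rw [← F.map_comp, show inv inc ≫ (secMul σ).app P = kernel.ι qv by
        rw [IsIso.inv_comp_eq, kernel.lift_ι]]
      rfl
    rw [hrange, hψ] at h1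
    obtain ⟨w, -, hw⟩ := (Submodule.mem_smul_pointwise_iff_exists _ _ _).1 h1
    obtain ⟨w', rfl⟩ := ψ.surjective w
    rw [← map_smul] at hw
    exact Ideal.mem_span_singleton.2 ⟨w', (ψ.injective hw).symm⟩
  -- regularity
  have hreg : ∀ {G : X.Modules} (_ : Mono ((secMul σ).app G)) (_ : Coh.IsCoh G)
      (e : F.obj ((AmpleVan.tw LZ).obj G) ≅ F.obj G), IsSMulRegular (F.obj ((AmpleVan.tw LZ).obj G)) r := by
    intro G hm hG e
    haveI : Module.Finite R (F.obj ((AmpleVan.tw LZ).obj G)) :=
      QCoh.finite_stalk_of_isFT (AmpleVan.isCoh_tensor hG (AmpleVan.isCoh_invertible hLZ)).1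
        (AmpleVan.isCoh_tensor hG (AmpleVan.isCoh_invertible hLZ)).2 x
    exact smulRegular_of_range (F.map ((secMul σ).app G)).hom
      ((ModuleCat.mono_iff_injective (F.map ((secMul σ).app G))).1 inferInstance) r (hrange G) e.toLinearEquiv
  have hregR : IsSMulRegular R r := fun u v huv => ψ.injective (hreg hmP hPc eA (by
    show r • ψ u = r • ψ v
    rw [← map_smul, ← map_smul]
    exact congrArg ψ huv))
  have hregM : IsSMulRegular (F.obj ((AmpleVan.tw LZ).obj ω)) r := hreg hmω hωc eM
  -- dimensions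
  letI := (Curv2.stalkMap k X x).toAlgebra
  letI : Module k (F.obj ((AmpleVan.tw LZ).obj ω)) := Module.compHom _ (Curv2.stalkMap k X x)
  haveI : IsScalarTower k R (F.obj ((AmpleVan.tw LZ).obj ω)) := ⟨fun a b c => (smul_smul _ b c).symm⟩
  haveI : Module.Finite R (F.obj ((AmpleVan.tw LZ).obj ω)) := QCoh.finite_stalk_of_isFT hTwω.1 hTwω.2 x
  obtain ⟨hfinM, heM⟩ := finrank_quot_eq_euler k hSω hQωc hx (hsupp ω) (hrange ω)
  have hQPc : Coh.IsCoh (cokernel ((secMul σ).app P)) :=
    QCoh.isCoh_of_epi (cokernel.π _) hTwPc (QCoh.isQCoh_cokernel hPc.1 hTwPc.1 _)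
  letI : Module k (F.obj ((AmpleVan.tw LZ).obj P)) := Module.compHom _ (Curv2.stalkMap k X x)
  haveI : IsScalarTower k R (F.obj ((AmpleVan.tw LZ).obj P)) := ⟨fun a b c => (smul_smul _ b c).symm⟩
  obtain ⟨hfinP, heP⟩ := finrank_quot_eq_euler k hSP hQPc hx (hsupp P) (hrange P)
  have hmap : Submodule.map ψ.toLinearMap (Ideal.span {r} : Submodule R R) =
      r • (⊤ : Submodule R (F.obj ((AmpleVan.tw LZ).obj P))) := by
    ext v
    constructor
    · rintro ⟨u, hu, rfl⟩
      obtain ⟨q, rfl⟩ := Ideal.mem_span_singleton.1 hu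
      exact (Submodule.mem_smul_pointwise_iff_exists _ _ _).2 ⟨ψ q, trivial, (map_smul ψ r q).symm⟩
    · intro hv
      obtain ⟨w, -, rfl⟩ := (Submodule.mem_smul_pointwise_iff_exists _ _ _).1 hv
      obtain ⟨q, rfl⟩ := ψ.surjective w
      exact ⟨r * q, Ideal.mem_span_singleton.2 (dvd_mul_right r q), map_smul ψ r q⟩
  let eR := (Submodule.Quotient.equiv (Ideal.span {r} : Submodule R R) _ ψ hmap).restrictScalars k
  haveI : Module.Finite k (R ⧸ Ideal.span {r}) := Module.Finite.equiv eR.symm
  -- the twisted sequence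
  let N := (AmpleVan.tw Ln).obj ω
  haveI hmN : Mono ((secMul σ).app N) := by
    refine DevK.mono_of_stalk _ fun y => (ModuleCat.mono_iff_injective _).1 ?_
    obtain ⟨eN⟩ := nonempty_stalk_tw hLn ω y
    exact ((MorphismProperty.monomorphisms _).arrow_mk_iso_iff (stArrowCongr σ y eN)).2
      (show Mono ((DerSch.stalkFunctor X y).map ((secMul σ).app ω)) from inferInstance)
  let SN : ShortComplex X.Modules :=
    ShortComplex.mk ((secMul σ).app N) (cokernel.π ((secMul σ).app N)) (cokernel.condition _)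
  have hSN : SN.ShortExact := { exact := ShortComplex.exact_cokernel _ }
  have hNc : Coh.IsCoh N := AmpleVan.isCoh_tensor hωc (AmpleVan.isCoh_invertible hLn)
  have hTwN : Coh.IsCoh ((AmpleVan.tw LZ).obj N) :=
    AmpleVan.isCoh_tensor hNc (AmpleVan.isCoh_invertible hLZ)
  have hQNc : Coh.IsCoh (cokernel ((secMul σ).app N)) :=
    QCoh.isCoh_of_epi (cokernel.π _) hTwN (QCoh.isQCoh_cokernel hNc.1 hTwN.1 _)
  letI : Module k (F.obj ((AmpleVan.tw LZ).obj N)) := Module.compHom _ (Curv2.stalkMap k X x)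
  haveI : IsScalarTower k R (F.obj ((AmpleVan.tw LZ).obj N)) := ⟨fun a b c => (smul_smul _ b c).symm⟩
  obtain ⟨hfinN, heN⟩ := finrank_quot_eq_euler k hSN hQNc hx (hsupp N) (hrange N)
  obtain ⟨eN1⟩ := nonempty_stalk_tw hLZ N x
  obtain ⟨eN2⟩ := nonempty_stalk_tw hLn ω x
  let g := (eN1 ≪≫ eN2 ≪≫ eM.symm).toLinearEquiv
  have hgmap : (r • (⊤ : Submodule R (F.obj ((AmpleVan.tw LZ).obj N)))).map g.toLinearMap =
      r • (⊤ : Submodule R (F.obj ((AmpleVan.tw LZ).obj ω))) := by
    rw [Submodule.map_pointwise_smul, Submodule.map_top, LinearEquiv.range]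
  have hgdim := ((Submodule.Quotient.equiv _ _ g hgmap).restrictScalars k).finrank_eq
  -- Euler characteristics
  have hv := subsingleton_HH_curve' k (X := X) 1 hdim
  have heul : ∀ G : X.Modules, Coh.IsQCoh G → Curv2.euler k X G =
      (Module.finrank k (Coh.HH X G 0) : ℤ) - Module.finrank k (Coh.HH X G 1) := fun G hG => by
    rw [CurveCohLib.euler_eq_sum (k := k) (N := 2) fun i hi => hv G hG i hi]
    simp [Finset.sum_range_succ]
    ring
  have hadd : ∀ {S : ShortComplex X.Modules}, S.ShortExact → Coh.IsCoh S.X₁ → Coh.IsCoh S.X₂ →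
      Coh.IsCoh S.X₃ → Curv2.euler k X S.X₂ = Curv2.euler k X S.X₁ + Curv2.euler k X S.X₃ :=
    fun hS h1 h2 h3 => CurveCohLib.euler_additive_of_isQCoh hS h1.1 h2.1 h3.1
      (CurveCohLib.finite_HH h1) (CurveCohLib.finite_HH h2) (CurveCohLib.finite_HH h3)
  have hN0 : Module.finrank k (Coh.HH X N 0) = Module.finrank k (Coh.HH X Pn 1) :=
    (finrank_HH_zero_omega_tensor (h := h) hOY hdim hLn hPn ePn).2
  obtain ⟨cPn⟩ := H23.PicMul.comm Ln Pn
  have hN1 : Subsingleton (Coh.HH X N 1) :=
    subsingleton_HH_one_omega_tensor τ eT hPn (cPn ≪≫ ePn) hPn0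
  let eNZ : (AmpleVan.tw LZ).obj N ≅ CohB1.tensorMod ω M' := (AmpleVan.twComp Ln LZ).app ω
  obtain ⟨cP⟩ := H23.PicMul.comm M' P
  have hNZ1 : Subsingleton (Coh.HH X ((AmpleVan.tw LZ).obj N) 1) :=
    @Equiv.subsingleton _ _
      ((Sheaf.functorH _ 1).mapIso ((QCoh.toAbFunctor X).mapIso eNZ)).addCommGroupIsoToAddEquiv.toEquiv
      (subsingleton_HH_one_omega_tensor τ eT hP (cP ≪≫ eP) hP0)
  have hNZ0 : Module.finrank k (Coh.HH X ((AmpleVan.tw LZ).obj N) 0) = Module.finrank k (Coh.HH X P 1) :=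
    ((homEquivH0 k _).symm.trans ((Linear.homCongr k (Iso.refl _) eNZ).trans (homEquivH0 k _))).finrank_eq.trans
      (finrank_HH_zero_omega_tensor (h := h) hOY hdim hM' hP eP).2
  have htwP1 : Module.finrank k (Coh.HH X ((AmpleVan.tw LZ).obj P) 1) = Module.finrank k (Coh.HH X Pn 1) :=
    ((hhEquiv k _ 1).symm.trans ((Linear.homCongr k (Iso.refl _)
      ((shiftFunctor (DCoh.D X) ((1 : ℕ) : ℤ)).mapIso
        ((DerivedCategory.singleFunctor X.Modules 0).mapIso eTwP))).trans (hhEquiv k _ 1))).finrank_eq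
  have e1 := hadd hSN hNc hTwN hQNc
  have e2 := hadd hSP hPc hTwPc hQPc
  simp only [SN, SP, Functor.id_obj] at e1 e2
  rw [heul _ hTwN.1, heul _ hNc.1, hNZ0, hN0] at e1
  rw [heul _ hTwPc.1, heul _ hPc.1, htwP1] at e2
  rw [Module.finrank_zero_of_subsingleton (M := Coh.HH X N 1),
    Module.finrank_zero_of_subsingleton (M := Coh.HH X ((AmpleVan.tw LZ).obj N) 1)] at e1
  rw [Module.finrank_zero_of_subsingleton (M := Coh.HH X P 0),
    Module.finrank_zero_of_subsingleton (M := Coh.HH X ((AmpleVan.tw LZ).obj P) 0)] at e2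
  haveI := hfinM
  have hdimq : Module.finrank k (F.obj ((AmpleVan.tw LZ).obj ω) ⧸ r • (⊤ : Submodule R (F.obj ((AmpleVan.tw LZ).obj ω)))) ≤
      Module.finrank k (R ⧸ Ideal.span {r}) := by
    have key : Curv2.euler k X (cokernel ((secMul σ).app N)) = Curv2.euler k X (cokernel ((secMul σ).app P)) := by
      omega
    have hNP := Nat.cast_injective (heN.trans (key.trans heP.symm))
    exact le_of_eq (hgdim.symm.trans (hNP.trans eR.finrank_eq.symm))
  -- conclusion
  have hd1 : ringKrullDim R = 1 := by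
    refine le_antisymm (VarBase.DimOne.ringKrullDim_stalk_le hdim x) ?_
    by_contra hlt
    haveI : Ring.KrullDimLE 0 R := Ring.krullDimLE_iff.2 (le_zero_of_lt_one (not_le.1 hlt))
    obtain ⟨n, hn⟩ : IsNilpotent r := by
      rw [← mem_nilradical, nilradical_eq_sInf, Ideal.mem_sInf]
      intro Pr hPr
      have : Pr = IsLocalRing.maximalIdeal R :=
        congrArg PrimeSpectrum.asIdeal (Subsingleton.elim (⟨Pr, hPr⟩ : PrimeSpectrum R) (IsLocalRing.closedPoint R))
      rw [this]; exact hr
    have := IsSMulRegular.pow n hregR (show r ^ n • (1 : R) = r ^ n • (0 : R) by simp [hn])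
    exact one_ne_zero this
  obtain ⟨e, he⟩ := exists_bijective_smul (k := k) hr hregR hregM
    (fun a b' ha hb' ha0 => GorSocle.socle_dependent hd1 hr hregR a b' ha hb' ha0)
    (fun i => (F.map ((AmpleVan.tw LZ).map (b i))).hom y) hfaith hdimq
  exact ⟨(LinearEquiv.ofBijective (LinearMap.toSpanSingleton R _ e) he).trans eM.toLinearEquiv⟩

end Groth.Agent.CurveDual15

namespace Groth.Agent.CurveDual15

open Groth.Agent

variable (k : Type u) [Field k] {X : Scheme.{u}} [X.Over (Spec (CommRingCat.of k))]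
  [IsProper (X ↘ Spec (CommRingCat.of k))]

variable [DCoh.HasRpush (str k X)] {h : DCoh.RpushPreservesQCoh (str k X)}
  [DCoh.HasShriek (str k X) h] {OY : DCoh.DQCoh (pt k)}

variable {k} in
/-- The dualizing module of a Gorenstein curve is invertible. -/
theorem isInvertible_omega (hOY : Nonempty (OY.obj ≅ DCoh.inD (pt k) (Coh.structureModule (pt k))))
    (hequi : ∀ Z ∈ irreducibleComponents (X : Type u), topologicalKrullDim Z = 1) (hX : Unmixed X)
    (hgor : ∀ x : X, IsClosed ({x} : Set X) → LocCoh.IsGorensteinLocalRing (X.presheaf.stalk x)) :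
    PicF.IsInvertible (omega k h OY 1) := by
  haveI := isNoetherian_of_proper' k (X := X)
  haveI : JacobsonSpace X := LocallyOfFiniteType.jacobsonSpace (X ↘ Spec (CommRingCat.of k))
  let ω := omega k h OY 1
  have hfp := QCoh.isCoh_iff_isFP.1 (isCoh_omega (h := h) hOY hequi hX)
  have hclosed : ∀ y : X, ∃ x, y ⤳ x ∧ IsClosed ({x} : Set X) := fun y => by
    obtain ⟨x, hx, hxc⟩ := (isClosed_closure (s := ({y} : Set X))).exists_closed_singleton
      ⟨y, subset_closure rfl⟩
    exact ⟨x, specializes_iff_mem_closure.2 hx, hxc⟩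
  have he : ∀ x : X, IsClosed ({x} : Set X) →
      Module.Free (X.presheaf.stalk x) (ω.presheaf.stalk x) ∧
        Module.finrank (X.presheaf.stalk x) (ω.presheaf.stalk x) = 1 := fun x hx => by
    haveI := hgor x hx
    obtain ⟨e⟩ := nonempty_stalk_omega (h := h) hOY hequi hX hx
    let e' : X.presheaf.stalk x ≃ₗ[X.presheaf.stalk x] ω.presheaf.stalk x := e
    exact ⟨Module.Free.of_equiv e', e'.finrank_eq.symm.trans (Module.finrank_self _)⟩
  have hlf : FlatMod.IsFinLocFree ω := fun y => by
    obtain ⟨x, hyx, hx⟩ := hclosed y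
    haveI := (he x hx).1
    obtain ⟨U, n, hxU, e⟩ := QCoh.exists_free_nhd_of_free_stalk hfp x
    exact ⟨U, n, hyx.mem_open U.2 hxU, e⟩
  refine CurveDuality.isInvertible_of_rank_one (ConsPropLib.isFinLocFreeOfRank_iff.2 ⟨hlf, fun y => ?_⟩)
  obtain ⟨x, hyx, hx⟩ := hclosed y
  refine Eq.trans ?_ (he x hx).2
  exact hyx.mem_open ((QCoh.isLocallyConstant_rank hlf).isOpen_fiber _) rfl

end Groth.Agent.CurveDual15
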