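import Groth.Agent.CurveDual15.HHHom
import Groth.Agent.KFlatLib.Scheme.RightAdjBound
import Groth.Agent.AffStrat.Vanishing
import Groth.Agent.AffStrat.Bounds

/-!
# The dualizing module represents the dual of top cohomology
-/

set_option linter.style.haveILetI false
set_option linter.unusedSectionVars false
set_option backward.isDefEq.respectTransparency false
set_option backward.isDefEq.respectTransparency.types false

universe u

open CategoryTheory CategoryTheory.Limits CategoryTheory.Pretriangulated AlgebraicGeometry Opposite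
open Groth.Agent.PnCoh.Finite (mapLin)

attribute [local instance] HasDerivedCategory.standard

noncomputable section

namespace Groth.Agent.CurveDual15

variable (k : Type u) [Field k] {X : Scheme.{u}} [X.Over (Spec (CommRingCat.of k))]

theorem isNoetherian_of_proper' [IsProper (X ↘ Spec (CommRingCat.of k))] : IsNoetherian X := by
  haveI := LocallyOfFiniteType.isLocallyNoetherian (X ↘ Spec (CommRingCat.of k))
  haveI : CompactSpace X := QuasiCompact.compactSpace_of_compactSpace (X ↘ Spec (CommRingCat.of k))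
  exact ⟨⟩

/-- Grothendieck vanishing for quasi-coherent modules. -/
theorem subsingleton_HH_of_dim_lt [IsNoetherian X] (d : ℕ) (hd : topologicalKrullDim X ≤ d)
    (F : X.Modules) (hF : Coh.IsQCoh F) (p : ℕ) (hp : d < p) : Subsingleton (Coh.HH X F p) :=
  AffStrat.vanishes d X (AffStrat.of_noChain d X (AffStrat.not_hasChain_of_dim hd)) F hF p hp

/-- A module on a point without sections vanishes. -/
theorem isZero_of_hom_eq_zero (V : (pt k).Modules) (h : ∀ u : OPt k ⟶ V, u = 0) : IsZero V := by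
  let G := tilde.functor (CommRingCat.of k)
  let e := G.objObjPreimageIso V
  refine IsZero.of_iso (G.map_isZero ?_) e.symm
  rw [IsZero.iff_id_eq_zero]
  ext v
  let uv : ModuleCat.of k k ⟶ G.objPreimage V := ModuleCat.ofHom (LinearMap.toSpanSingleton k _ v)
  have h1 : (tildeK k).inv ≫ G.map uv ≫ e.hom = 0 := h _
  have h2 : uv = 0 := by
    apply G.map_injective
    rw [← cancel_epi (tildeK k).inv, ← cancel_mono e.hom, Category.assoc, h1]
    simp
  have h3 := congrArg (fun t => t.hom (1 : k)) h2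
  change ((1 : k) • v) = 0 at h3
  rwa [one_smul] at h3

variable [DCoh.HasRpush (str k X)]

/-- `Hom(O_X, A) = 0` for quasi-coherent complexes below `-d`. -/
theorem hom_eq_zero_of_isLE [QuasiCompact (str k X)] [QuasiSeparated (str k X)] (d : ℕ)
    (hd : ∀ F : X.Modules, Coh.IsQCoh F → ∀ p : ℕ, d < p → Subsingleton (Coh.HH X F p))
    (A : DCoh.D X) (hA : DCoh.IsQCohD A) (b : ℤ) [A.IsLE b] (hb : b + d < 0) (ξ : OX X ⟶ A) :
    ξ = 0 := by
  haveI : HasInjectiveResolutions X.Modules := KFlatLib.hasInjectiveResolutions_modules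
  obtain ⟨Φ, -, -⟩ := exists_homEquiv k (X := X)
  have hv : ∀ (M : X.Modules), Coh.IsQCoh M → ∀ p : ℕ, d + 1 ≤ p →
      IsZero ((Coh.Rpush (str k X) p).obj M) := fun M hM p hp => by
    haveI := hd M hM p (by omega)
    obtain ⟨e1⟩ := KFlatLib.nonempty_hd_rpush_single (str k X) M p
    obtain ⟨e2⟩ := KFlatLib.nonempty_rpush_shift (str k X) (DCoh.inD X M) (p : ℤ)
    refine IsZero.of_iso (isZero_of_hom_eq_zero k _ fun u => ?_) e1.symm
    let e3 : (DerivedCategory.homologyFunctor _ 0).obj ((DCoh.Rpush (str k X)).obj (sh M p)) ≅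
        DCoh.HD ((DCoh.Rpush (str k X)).obj (DCoh.inD X M)) (p : ℤ) :=
      (DerivedCategory.homologyFunctor _ 0).mapIso e2 ≪≫
        ((DerivedCategory.homologyFunctor _ 0).shiftIso (p : ℤ) 0 p (by omega)).app _
    haveI : Subsingleton (OX X ⟶ sh M p) := (hhEquiv k M p).toEquiv.subsingleton
    haveI : Subsingleton (OD k ⟶ (DCoh.Rpush (str k X)).obj (sh M p)) :=
      (Φ _).symm.toEquiv.subsingleton
    obtain ⟨φ, hφ⟩ := (bijective_fromP (OPt k) ((DCoh.Rpush (str k X)).obj (sh M p))).2 (u ≫ e3.inv)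
    rw [← cancel_mono e3.inv, ← hφ, Subsingleton.elim φ 0, zero_comp]
    simp [fromP]
  have hz : IsZero (DCoh.HD ((DCoh.Rpush (str k X)).obj A) 0) :=
    KFlatLib.isZero_of_isZero_restrict _ fun _ => ⟨⊤, trivial,
      KFlatLib.isZero_restrict_hd_rpush (str k X) hA b ⊤ (d + 1)
        (fun M hM p hp => Functor.map_isZero _ (hv M hM p hp)) 0 (by push_cast; omega)⟩
  apply (Φ A).injective
  apply (bijective_fromP (OPt k) _).1
  exact hz.eq_of_tgt _ _

variable (h : DCoh.RpushPreservesQCoh (str k X)) [DCoh.HasShriek (str k X) h]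
  (OY : DCoh.DQCoh (pt k))

/-- The dualizing module. -/
abbrev omega (d : ℕ) : X.Modules := DCoh.dualizingMod (str k X) h OY d

variable {k h OY}

/-- The dual pairing of `Hom(G, T)` with `Hom(O_X, G)`. -/
def Trace.pair (τ : Trace k h OY) (G : DCoh.D X) : (G ⟶ TX k h OY) →ₗ[k] Module.Dual k (OX X ⟶ G) where
  toFun φ := τ.tr.comp (Linear.rightComp k (OX X) φ)
  map_add' a b := LinearMap.ext fun ξ => by
    show τ.tr (ξ ≫ (a + b)) = τ.tr (ξ ≫ a) + τ.tr (ξ ≫ b)
    rw [Preadditive.comp_add, map_add]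
  map_smul' c a := LinearMap.ext fun ξ => by
    show τ.tr (ξ ≫ (c • a)) = c • τ.tr (ξ ≫ a)
    rw [Linear.comp_smul, map_smul]

theorem Trace.pair_apply (τ : Trace k h OY) {G : DCoh.D X} (φ : G ⟶ TX k h OY) (ξ : OX X ⟶ G) :
    τ.pair G φ ξ = τ.tr (ξ ≫ φ) := rfl

theorem Trace.bijective_pair (τ : Trace k h OY) {G : DCoh.D X} (hG : DCoh.IsQCohD G) :
    Function.Bijective (τ.pair G) := by
  refine ⟨fun a b hab => ?_, fun F => ?_⟩
  · exact (τ.perfect G hG (τ.pair G b)).unique (fun ξ => by rw [← hab]; rfl) fun ξ => rfl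
  · obtain ⟨φ, hφ, -⟩ := τ.perfect G hG F
    exact ⟨φ, LinearMap.ext hφ⟩

theorem isQCohD_sh {M : X.Modules} (hM : Coh.IsQCoh M) (n : ℕ) : DCoh.IsQCohD (sh M n) := by
  intro i
  refine KFlatLib.isQCoh_of_iso
    (((DerivedCategory.homologyFunctor X.Modules 0).shiftIso (n : ℤ) i ((n : ℤ) + i) rfl).app _ :).symm ?_
  by_cases hi : (n : ℤ) + i = 0
  · rw [hi]
    exact KFlatLib.isQCoh_of_iso (KFlatLib.h0Single M).symm hM
  · refine KFlatLib.isQCoh_of_isZero ?_
    rcases lt_or_gt_of_ne hi with hlt | hlt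
    · exact DerivedCategory.isZero_of_isGE _ 0 _ hlt
    · exact DerivedCategory.isZero_of_isLE _ 0 _ hlt

theorem isQCoh_omega (d : ℕ) : Coh.IsQCoh (omega k h OY d) := ((DCoh.shriek (str k X) h).obj OY).property _

/-- The dualizing complex has no cohomology below `-d`. -/
theorem isGE_dualizingCx [QuasiCompact (str k X)] [QuasiSeparated (str k X)] (τ : Trace k h OY) (d : ℕ)
    (hd : ∀ F : X.Modules, Coh.IsQCoh F → ∀ p : ℕ, d < p → Subsingleton (Coh.HH X F p)) :
    (TX k h OY).IsGE (-(d : ℤ)) := by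
  refine (DerivedCategory.isGE_iff _ _).2 fun i hi =>
    KFlatLib.isZero_hd_of_orth ((DCoh.shriek (str k X) h).obj OY).property (-(d : ℤ) - 1)
      (fun A hA hle φ => ?_) i (by omega)
  haveI := hle
  apply (τ.bijective_pair hA).1
  refine LinearMap.ext fun ξ => ?_
  rw [hom_eq_zero_of_isLE k d hd A hA (-(d : ℤ) - 1) (by omega) ξ, map_zero, map_zero]

/-- The lowest cohomology sheaf of the dualizing complex maps to it. -/
theorem exists_omega_map [QuasiCompact (str k X)] [QuasiSeparated (str k X)] (τ : Trace k h OY) (d : ℕ)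
    (hd : ∀ F : X.Modules, Coh.IsQCoh F → ∀ p : ℕ, d < p → Subsingleton (Coh.HH X F p)) :
    ∃ ι : sh (omega k h OY d) d ⟶ TX k h OY,
      (∀ (G : DCoh.D X) [G.IsLE (-(d : ℤ))], Function.Bijective fun φ : G ⟶ sh (omega k h OY d) d => φ ≫ ι) ∧
      (∀ (G : DCoh.D X) (j : ℤ) [G.IsLE j], j + d ≤ 1 → ∀ φ : G ⟶ sh (omega k h OY d) d, φ ≫ ι = 0 → φ = 0) ∧
      ((∀ i : ℤ, -(d : ℤ) < i → IsZero (DCoh.HD (TX k h OY) i)) → IsIso ι) := by
  haveI := isGE_dualizingCx τ d hd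
  obtain ⟨A, B, hA, hB, f, g, δ, hT⟩ :=
    DerivedCategory.TStructure.t.exists_triangle (TX k h OY) (-(d : ℤ)) (-(d : ℤ) + 1) rfl
  haveI : A.IsLE (-(d : ℤ)) := ⟨hA⟩
  haveI : B.IsGE (-(d : ℤ) + 1) := ⟨hB⟩
  haveI hB1 : DerivedCategory.TStructure.t.IsGE (B⟦(-1 : ℤ)⟧) (-(d : ℤ) + 2) :=
    DerivedCategory.TStructure.t.isGE_shift B (-(d : ℤ) + 1) (-1) _ (by omega)
  haveI : A.IsGE (-(d : ℤ)) := by
    refine DerivedCategory.TStructure.t.isGE₂ _ (inv_rot_of_distTriang _ hT) _ ?_ ‹(TX k h OY).IsGE _›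
    exact DerivedCategory.TStructure.t.isGE_of_ge (B⟦(-1 : ℤ)⟧) (-(d : ℤ)) (-(d : ℤ) + 2) (by omega)
  haveI : DerivedCategory.TStructure.t.IsLE (A⟦(-(d : ℤ))⟧) 0 :=
    DerivedCategory.TStructure.t.isLE_shift A (-(d : ℤ)) (-(d : ℤ)) 0 (by omega)
  haveI : DerivedCategory.TStructure.t.IsGE (A⟦(-(d : ℤ))⟧) 0 :=
    DerivedCategory.TStructure.t.isGE_shift A (-(d : ℤ)) (-(d : ℤ)) 0 (by omega)
  haveI : (A⟦(-(d : ℤ))⟧).IsLE 0 := ‹_›
  haveI : (A⟦(-(d : ℤ))⟧).IsGE 0 := ‹_›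
  obtain ⟨M, ⟨eM⟩⟩ := (A⟦(-(d : ℤ))⟧).exists_iso_singleFunctor_obj_of_isGE_of_isLE 0
  let eA : sh M d ≅ A := ((shiftFunctor (DCoh.D X) (d : ℤ)).mapIso eM.symm) ≪≫
    (shiftFunctorCompIsoId (DCoh.D X) (-(d : ℤ)) (d : ℤ) (by omega)).app A
  have hf : IsIso ((DerivedCategory.homologyFunctor X.Modules (-(d : ℤ))).map f) := by
    haveI : Epi ((DerivedCategory.homologyFunctor X.Modules (-(d : ℤ))).map f) :=
      (DerivedCategory.HomologySequence.exact₂ _ hT _).epi_f
        ((DerivedCategory.isZero_of_isGE B (-(d : ℤ) + 1) _ (by omega)).eq_of_tgt _ _)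
    haveI : Mono ((DerivedCategory.homologyFunctor X.Modules (-(d : ℤ))).map f) :=
      (DerivedCategory.HomologySequence.mono_homologyMap_mor₁_iff _ hT (-(d : ℤ) - 1) _ (by omega)).2
        ((DerivedCategory.isZero_of_isGE B (-(d : ℤ) + 1) _ (by omega)).eq_of_src _ _)
    exact isIso_of_mono_of_epi _
  let eω : omega k h OY d ≅ M :=
    (asIso ((DerivedCategory.homologyFunctor X.Modules (-(d : ℤ))).map f)).symm ≪≫
      (DerivedCategory.homologyFunctor X.Modules (-(d : ℤ))).mapIso eA.symm ≪≫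
      ((DerivedCategory.homologyFunctor X.Modules 0).shiftIso (d : ℤ) (-(d : ℤ)) 0 (by omega)).app _ ≪≫ h0 M
  let c : sh (omega k h OY d) d ≅ A :=
    (shiftFunctor (DCoh.D X) (d : ℤ)).mapIso ((DerivedCategory.singleFunctor X.Modules 0).mapIso eω) ≪≫ eA
  refine ⟨c.hom ≫ f, fun G _ => ⟨fun φ φ' hh => ?_, fun χ => ?_⟩, fun G j _ hj φ hφ => ?_, fun hz => ?_⟩
  · refine sub_eq_zero.1 ((cancel_mono c.hom).1 ?_)
    obtain ⟨a, ha⟩ : ∃ a : G ⟶ B⟦(-1 : ℤ)⟧, (φ - φ') ≫ c.hom = a ≫ (Triangle.mk f g δ).invRotate.mor₁ :=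
      Triangle.coyoneda_exact₂ _ (inv_rot_of_distTriang _ hT) ((φ - φ') ≫ c.hom)
        (show ((φ - φ') ≫ c.hom) ≫ f = 0 by simp only [Category.assoc, Preadditive.sub_comp]; exact sub_eq_zero.2 hh)
    haveI : DerivedCategory.TStructure.t.IsLE G (-(d : ℤ)) := ‹G.IsLE _›
    rw [ha, DerivedCategory.TStructure.t.zero a (-(d : ℤ)) (-(d : ℤ) + 2) (by omega), zero_comp, zero_comp]
  · haveI : DerivedCategory.TStructure.t.IsLE G (-(d : ℤ)) := ‹G.IsLE _›
    haveI : DerivedCategory.TStructure.t.IsGE B (-(d : ℤ) + 1) := ‹B.IsGE _›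
    obtain ⟨a, rfl⟩ : ∃ a : G ⟶ A, χ = a ≫ f := Triangle.coyoneda_exact₂ _ hT χ
      (DerivedCategory.TStructure.t.zero (χ ≫ g) (-(d : ℤ)) (-(d : ℤ) + 1) (by omega))
    exact ⟨a ≫ c.inv, by simp⟩
  · refine (cancel_mono c.hom).1 ?_
    obtain ⟨a, ha⟩ : ∃ a : G ⟶ B⟦(-1 : ℤ)⟧, φ ≫ c.hom = a ≫ (Triangle.mk f g δ).invRotate.mor₁ :=
      Triangle.coyoneda_exact₂ _ (inv_rot_of_distTriang _ hT) (φ ≫ c.hom)
        (show (φ ≫ c.hom) ≫ f = 0 by rw [Category.assoc]; exact hφ)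
    haveI : DerivedCategory.TStructure.t.IsLE G j := ‹G.IsLE j›
    rw [ha, DerivedCategory.TStructure.t.zero a j (-(d : ℤ) + 2) (by omega), zero_comp, zero_comp]
  · haveI : IsIso f := by
      refine (Triangle.isZero₃_iff_isIso₁ _ hT).1 ?_
      haveI : B.IsLE (-(d : ℤ)) := by
        refine (DerivedCategory.isLE_iff _ _).2 fun i hi => ?_
        refine (DerivedCategory.HomologySequence.exact₃ _ hT i (i + 1) rfl).isZero_of_both_zeros ?_ ?_
        · exact (hz i hi).eq_of_src _ _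
        · exact (DerivedCategory.isZero_of_isLE A (-(d : ℤ)) (i + 1) (by omega)).eq_of_tgt _ _
      exact DerivedCategory.TStructure.t.isZero B (-(d : ℤ)) (-(d : ℤ) + 1) (by omega)
    infer_instance

/-- The dualizing module with its trace: `Hom(F, ω) = H^d(X, F)^∨` and a comparison with the complex. -/
theorem exists_omega_trace [QuasiCompact (str k X)] [QuasiSeparated (str k X)] (τ : Trace k h OY) (d : ℕ)
    (hd : ∀ F : X.Modules, Coh.IsQCoh F → ∀ p : ℕ, d < p → Subsingleton (Coh.HH X F p)) :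
    ∃ t : Coh.HH X (omega k h OY d) d →ₗ[k] k,
      ∀ F : X.Modules, Coh.IsQCoh F → ∀ g : Coh.HH X F d →ₗ[k] k,
        ∃! φ : F ⟶ omega k h OY d, ∀ x, t (mapLin k φ d x) = g x := by
  obtain ⟨ι, hι, -, -⟩ := exists_omega_map τ d hd
  refine ⟨(τ.pair _ ι).comp (hhEquiv k (omega k h OY d) d).symm.toLinearMap, fun F hF g => ?_⟩
  obtain ⟨ψ, hψ⟩ := (τ.bijective_pair (isQCohD_sh hF d)).2 (g.comp (hhEquiv k F d).toLinearMap)
  haveI : (sh F d).IsLE (-(d : ℤ)) :=
    DerivedCategory.TStructure.t.isLE_shift (DCoh.inD X F) 0 (d : ℤ) (-(d : ℤ)) (by omega)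
  obtain ⟨χ, hχ⟩ := (hι (sh F d)).2 ψ
  obtain ⟨s, hs⟩ := (shiftFunctor (DCoh.D X) (d : ℤ)).map_surjective χ
  obtain ⟨φ, rfl⟩ := (DerivedCategory.singleFunctor X.Modules 0).map_surjective s
  have key : ∀ (φ' : F ⟶ omega k h OY d) x, ((τ.pair _ ι).comp (hhEquiv k (omega k h OY d) d).symm.toLinearMap)
      (mapLin k φ' d x) = τ.tr ((hhEquiv k F d).symm x ≫ shMap φ' d ≫ ι) := fun φ' x => by
    show τ.tr ((hhEquiv k _ d).symm (mapLin k φ' d x) ≫ ι) = _
    rw [hhEquiv_symm_naturality, Category.assoc]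
  refine ⟨φ, fun x => ?_, fun φ' hφ' => ?_⟩
  · rw [key]
    have h2 : shMap φ d ≫ ι = ψ := by rw [show shMap φ d = χ from hs]; exact hχ
    rw [h2]
    exact (LinearMap.congr_fun hψ _).trans (by simp)
  · apply (DerivedCategory.singleFunctor X.Modules 0).map_injective
    apply (shiftFunctor (DCoh.D X) (d : ℤ)).map_injective
    apply (hι (sh F d)).1
    apply (τ.bijective_pair (isQCohD_sh hF d)).1
    refine LinearMap.ext fun ξ => ?_
    obtain ⟨x, rfl⟩ := (hhEquiv k F d).symm.surjective ξ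
    show τ.tr ((hhEquiv k F d).symm x ≫ shMap φ' d ≫ ι) = τ.tr ((hhEquiv k F d).symm x ≫ shMap φ d ≫ ι)
    rw [← key, hφ' x]
    have h2 : shMap φ d ≫ ι = ψ := by rw [show shMap φ d = χ from hs]; exact hχ
    rw [h2]
    exact ((LinearMap.congr_fun hψ _).trans (by simp)).symm

end Groth.Agent.CurveDual15
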