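import Groth.Agent.CurveDual15.CMTwist
import Groth.Agent.AmpleVan.Kill
import Groth.Agent.DevK.Twist
import Groth.Agent.QCoh.DevissageSum

/-!
# Finite generation from the base-point-free pencil trick
-/

set_option linter.style.haveILetI false
set_option linter.unusedSectionVars false
set_option backward.isDefEq.respectTransparency false
set_option backward.isDefEq.respectTransparency.types false

universe u v

open CategoryTheory CategoryTheory.Limits AlgebraicGeometry TopologicalSpace Opposite MonoidalCategory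

attribute [local instance] HasDerivedCategory.standard
attribute [local instance] Groth.Agent.QCoh.hasFiniteBiproducts

noncomputable section

namespace Groth.Agent.CurveDual15

open Groth.Agent

/-- A complex with abstract middle projections which is split by two isomorphisms. -/
def splittingOfIso {C : Type*} [Category C] [Preadditive C] (S : ShortComplex C) {B₁ B₂ : C}
    (p₁ : S.X₂ ⟶ B₁) (p₂ : S.X₂ ⟶ B₂) (i₁ : B₁ ⟶ S.X₂) (i₂ : B₂ ⟶ S.X₂)
    (tot : p₁ ≫ i₁ + p₂ ≫ i₂ = 𝟙 S.X₂) (h11 : i₁ ≫ p₁ = 𝟙 B₁) (h21 : i₂ ≫ p₁ = 0)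
    [IsIso (S.f ≫ p₁)] [IsIso (i₂ ≫ S.g)] : S.Splitting where
  r := p₁ ≫ inv (S.f ≫ p₁)
  s := inv (i₂ ≫ S.g) ≫ i₂
  f_r := by rw [← Category.assoc, IsIso.hom_inv_id]
  s_g := by rw [Category.assoc, IsIso.inv_hom_id]
  id := by
    have hf : S.f = (S.f ≫ p₁) ≫ i₁ + (S.f ≫ p₂) ≫ i₂ := by
      rw [Category.assoc, Category.assoc, ← Preadditive.comp_add, tot, Category.comp_id]
    have hg : S.g = p₁ ≫ (i₁ ≫ S.g) + p₂ ≫ (i₂ ≫ S.g) := by
      rw [← Category.assoc, ← Category.assoc, ← Preadditive.add_comp, tot, Category.id_comp]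
    have hw : i₁ ≫ S.g = -(inv (S.f ≫ p₁) ≫ (S.f ≫ p₂) ≫ (i₂ ≫ S.g)) := by
      rw [← cancel_epi (S.f ≫ p₁), Preadditive.comp_neg, IsIso.hom_inv_id_assoc, eq_neg_iff_add_eq_zero,
        Category.assoc, Category.assoc, ← Preadditive.comp_add, ← hg, S.zero]
    conv_lhs => rw [Category.assoc]
    have e1 : inv (S.f ≫ p₁) ≫ S.f = i₁ + inv (S.f ≫ p₁) ≫ (S.f ≫ p₂) ≫ i₂ := by
      conv_lhs => arg 2; rw [hf]
      rw [Preadditive.comp_add, IsIso.inv_hom_id_assoc]
    have e2 : S.g ≫ inv (i₂ ≫ S.g) ≫ i₂ =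
        p₂ ≫ i₂ - p₁ ≫ inv (S.f ≫ p₁) ≫ (S.f ≫ p₂) ≫ i₂ := by
      conv_lhs => arg 1; rw [hg, hw]
      simp only [Preadditive.add_comp, Preadditive.comp_neg, Preadditive.neg_comp, Category.assoc]
      rw [← Category.assoc i₂ S.g, IsIso.hom_inv_id_assoc]
      abel
    rw [e1, e2, Preadditive.comp_add]
    rw [← tot]
    abel

variable {X : Scheme.{u}}

/-- Morphisms are determined by their stalk maps. -/
theorem hom_ext_stalks {M N : X.Modules} {f g : M ⟶ N}
    (h : ∀ x, (DerSch.stalkFunctor X x).map f = (DerSch.stalkFunctor X x).map g) : f = g := by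
  refine Scheme.Modules.hom_ext _ _ fun U => ?_
  ext t
  refine sub_eq_zero.1 (eq_zero_of_germs_eq_zero N _ fun x hx => ?_)
  rw [map_sub, sub_eq_zero]
  have h1 := congr($(h x) (M.presheaf.germ U x hx t))
  erw [DerSch.stalkFunctor_map_germ, DerSch.stalkFunctor_map_germ] at h1
  exact h1

variable {L : X.Modules} (s t : Coh.structureModule X ⟶ L)

/-- Multiplication by a section of a pencil commutes with twisting. -/
theorem tw_secMul (hL : PicF.IsInvertible L) (hcov : ∀ x, x ∈ CohB1.genLocus L s ∨ x ∈ CohB1.genLocus L t)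
    (P : X.Modules) :
    (AmpleVan.tw L).map ((secMul t).app P) = (secMul t).app ((AmpleVan.tw L).obj P) := by
  refine hom_ext_stalks fun x => ?_
  rcases hcov x with hx | hx
  · haveI := isIso_stalk_secMul hL s P hx
    rw [← cancel_epi ((DerSch.stalkFunctor X x).map ((secMul s).app P)), ← Functor.map_comp,
      ← Functor.map_comp]
    have n1 : (secMul s).app P ≫ (AmpleVan.tw L).map ((secMul t).app P) =
        (secMul t).app P ≫ (secMul s).app ((AmpleVan.tw L).obj P) :=
      ((secMul s).naturality ((secMul t).app P)).symm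
    have n2 : (secMul s).app P ≫ (secMul t).app ((AmpleVan.tw L).obj P) =
        (secMul t).app P ≫ (AmpleVan.tw L).map ((secMul s).app P) :=
      (secMul t).naturality ((secMul s).app P)
    have n3 : (secMul s).app P ≫ (AmpleVan.tw L).map ((secMul s).app P) =
        (secMul s).app P ≫ (secMul s).app ((AmpleVan.tw L).obj P) :=
      ((secMul s).naturality ((secMul s).app P)).symm
    have e : (DerSch.stalkFunctor X x).map ((AmpleVan.tw L).map ((secMul s).app P)) =
        (DerSch.stalkFunctor X x).map ((secMul s).app ((AmpleVan.tw L).obj P)) := by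
      rw [← cancel_epi ((DerSch.stalkFunctor X x).map ((secMul s).app P)), ← Functor.map_comp,
        ← Functor.map_comp, n3]
    rw [n1, n2, Functor.map_comp, Functor.map_comp, e]
  · haveI := isIso_stalk_secMul hL t P hx
    rw [← cancel_epi ((DerSch.stalkFunctor X x).map ((secMul t).app P)), ← Functor.map_comp,
      ← Functor.map_comp]
    exact congrArg _ ((secMul t).naturality ((secMul t).app P)).symm

/-- The base-point-free pencil trick: two sections span the sections of the next twist. -/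
theorem exists_pencil_preimage (hL : PicF.IsInvertible L)
    (hcov : ∀ x, x ∈ CohB1.genLocus L s ∨ x ∈ CohB1.genLocus L t) (P : X.Modules)
    (h1 : Subsingleton (Coh.HH X P 1)) (z : Γ((AmpleVan.tw L).obj ((AmpleVan.tw L).obj P), ⊤)) :
    ∃ u v : Γ((AmpleVan.tw L).obj P, ⊤),
      z = ((secMul s).app ((AmpleVan.tw L).obj P)).app ⊤ u +
        ((secMul t).app ((AmpleVan.tw L).obj P)).app ⊤ v := by
  let Q := (AmpleVan.tw L).obj P
  let a : P ⟶ Q := (secMul t).app P
  let b : P ⟶ Q := -(secMul s).app P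
  let c : Q ⟶ (AmpleVan.tw L).obj Q := (secMul s).app Q
  let d : Q ⟶ (AmpleVan.tw L).obj Q := (secMul t).app Q
  have w : biprod.lift a b ≫ biprod.desc c d = 0 := by
    rw [biprod.lift_desc, Preadditive.neg_comp, ← sub_eq_add_neg, sub_eq_zero]
    show (secMul t).app P ≫ (secMul s).app Q = (secMul s).app P ≫ (secMul t).app Q
    rw [← tw_secMul s t hL hcov P]
    exact (secMul s).naturality ((secMul t).app P)
  let S := ShortComplex.mk (biprod.lift a b) (biprod.desc c d) w
  have key : ∀ x, (S.map (DerSch.stalkFunctor X x)).ShortExact := fun x => by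
    let F := DerSch.stalkFunctor X x
    have tot : F.map biprod.fst ≫ F.map biprod.inl + F.map biprod.snd ≫ F.map biprod.inr =
        𝟙 (F.obj (Q ⊞ Q)) := by
      rw [← F.map_comp, ← F.map_comp, ← F.map_add, biprod.total, F.map_id]
    have e1 : F.map (biprod.inl : Q ⟶ Q ⊞ Q) ≫ F.map biprod.fst = 𝟙 (F.obj Q) := by
      rw [← F.map_comp, biprod.inl_fst, F.map_id]
    have e2 : F.map (biprod.inr : Q ⟶ Q ⊞ Q) ≫ F.map biprod.snd = 𝟙 (F.obj Q) := by
      rw [← F.map_comp, biprod.inr_snd, F.map_id]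
    have e3 : F.map (biprod.inr : Q ⟶ Q ⊞ Q) ≫ F.map biprod.fst = 0 := by
      rw [← F.map_comp, biprod.inr_fst, F.map_zero]
    have e4 : F.map (biprod.inl : Q ⟶ Q ⊞ Q) ≫ F.map biprod.snd = 0 := by
      rw [← F.map_comp, biprod.inl_snd, F.map_zero]
    rcases hcov x with hx | hx
    · haveI : IsIso ((S.map F).f ≫ F.map biprod.snd) := by
        show IsIso (F.map (biprod.lift a b) ≫ F.map biprod.snd)
        rw [← F.map_comp, biprod.lift_snd, F.map_neg]
        haveI := isIso_stalk_secMul hL s P hx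
        exact ⟨-inv (F.map ((secMul s).app P)), by simp, by simp⟩
      haveI : IsIso (F.map (biprod.inl : Q ⟶ Q ⊞ Q) ≫ (S.map F).g) := by
        show IsIso (F.map biprod.inl ≫ F.map (biprod.desc c d))
        rw [← F.map_comp, biprod.inl_desc]
        exact isIso_stalk_secMul hL s Q hx
      exact (splittingOfIso (S.map F) (F.map biprod.snd) (F.map biprod.fst) (F.map biprod.inr)
        (F.map biprod.inl) (by rw [add_comm]; exact tot) e2 e4).shortExact
    · haveI : IsIso ((S.map F).f ≫ F.map biprod.fst) := by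
        show IsIso (F.map (biprod.lift a b) ≫ F.map biprod.fst)
        rw [← F.map_comp, biprod.lift_fst]
        exact isIso_stalk_secMul hL t P hx
      haveI : IsIso (F.map (biprod.inr : Q ⟶ Q ⊞ Q) ≫ (S.map F).g) := by
        show IsIso (F.map biprod.inr ≫ F.map (biprod.desc c d))
        rw [← F.map_comp, biprod.inr_desc]
        exact isIso_stalk_secMul hL t Q hx
      exact (splittingOfIso (S.map F) (F.map biprod.fst) (F.map biprod.snd) (F.map biprod.inl)
        (F.map biprod.inr) tot e1 e3).shortExact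
  have hS : S.ShortExact :=
    { exact := (KFlatLib.exact_iff_stalk S).2 fun x => (key x).exact
      mono_f := DevK.mono_of_stalk S.f fun x => (ModuleCat.mono_iff_injective _).1 (key x).mono_f
      epi_g := ((ShortComplex.mk S.g (0 : S.X₃ ⟶ S.X₃) comp_zero).exact_iff_epi rfl).1
        ((KFlatLib.exact_iff_stalk _).2 fun x =>
          (((ShortComplex.mk S.g (0 : S.X₃ ⟶ S.X₃) comp_zero).map (DerSch.stalkFunctor X x)).exact_iff_epi
            ((DerSch.stalkFunctor X x).map_zero _ _)).2 (key x).epi_g) }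
  obtain ⟨y, hy⟩ := QCoh.app_top_surjective_of_HH_one hS h1 z
  refine ⟨(biprod.fst : Q ⊞ Q ⟶ Q).app ⊤ y, (biprod.snd : Q ⊞ Q ⟶ Q).app ⊤ y, hy.symm.trans ?_⟩
  show (biprod.desc c d).app ⊤ y = _
  rw [show biprod.desc c d = biprod.fst ≫ c + biprod.snd ≫ d by apply biprod.hom_ext' <;> simp]
  rfl

theorem itw_obj_itw (W : X.Modules) (a : ℕ) : ∀ n,
    (AmpleVan.itw L n).obj ((AmpleVan.itw L a).obj W) = (AmpleVan.itw L (a + n)).obj W
  | 0 => rfl
  | n + 1 => congrArg (AmpleVan.tw L).obj (itw_obj_itw W a n)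

/-- A map which kills the global sections kills those of all twists. -/
theorem kill_twists (hL : PicF.IsInvertible L)
    (hcov : ∀ x, x ∈ CohB1.genLocus L s ∨ x ∈ CohB1.genLocus L t) (R : X.Modules)
    (hR : Subsingleton (Coh.HH X R 1))
    (hM : ∀ n, Subsingleton (Coh.HH X ((AmpleVan.itw L n).obj ((AmpleVan.tw L).obj R)) 1))
    {Q : X.Modules} (π : (AmpleVan.tw L).obj R ⟶ Q)
    (hπ : ∀ u : Γ((AmpleVan.tw L).obj R, ⊤), π.app ⊤ u = 0) :
    ∀ (n : ℕ) (u : Γ((AmpleVan.itw L n).obj ((AmpleVan.tw L).obj R), ⊤)),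
      ((AmpleVan.itw L n).map π).app ⊤ u = 0 := by
  intro n
  induction n with
  | zero => exact hπ
  | succ n ih =>
    intro z
    obtain ⟨P, e, hP⟩ : ∃ P, (AmpleVan.tw L).obj P = (AmpleVan.itw L n).obj ((AmpleVan.tw L).obj R) ∧
        Subsingleton (Coh.HH X P 1) := by
      cases n with
      | zero => exact ⟨R, rfl, hR⟩
      | succ m => exact ⟨_, rfl, hM m⟩
    have hpre := exists_pencil_preimage s t hL hcov P hP
    rw [e] at hpre
    obtain ⟨u, v, rfl⟩ := hpre z
    have key : ∀ (σ : Coh.structureModule X ⟶ L) (w : Γ((AmpleVan.itw L n).obj ((AmpleVan.tw L).obj R), ⊤)),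
        ((AmpleVan.tw L).map ((AmpleVan.itw L n).map π)).app ⊤
          (((secMul σ).app ((AmpleVan.itw L n).obj ((AmpleVan.tw L).obj R))).app ⊤ w) = 0 := fun σ w => by
      refine (congr(($((secMul σ).naturality ((AmpleVan.itw L n).map π))).app ⊤ w) : _).symm.trans ?_
      show ((secMul σ).app ((AmpleVan.itw L n).obj Q)).app ⊤ (((AmpleVan.itw L n).map π).app ⊤ w) = 0
      rw [ih, map_zero]
    show ((AmpleVan.tw L).map ((AmpleVan.itw L n).map π)).app ⊤ (_ + _) = 0
    rw [map_add, key s u, key t v, add_zero]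

variable (k : Type u) [Field k] [X.Over (Spec (CommRingCat.of k))]
  [IsProper (X ↘ Spec (CommRingCat.of k))]

include k in
/-- The image of a section is zero on the generating locus when twists kill it. -/
theorem app_eq_zero_of_kill {M Q : X.Modules} (hM : Coh.IsQCoh M) (hL : PicF.IsInvertible L) (π : M ⟶ Q)
    (h : ∀ (n : ℕ) (u : Γ((AmpleVan.itw L n).obj M, ⊤)), ((AmpleVan.itw L n).map π).app ⊤ u = 0)
    (w : Γ(M, CohB1.genLocus L s)) : π.app _ w = 0 := by
  haveI := isNoetherian_of_proper' k (X := X)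
  obtain ⟨n, T, hT⟩ := AmpleVan.exists_extend hM hL s w
  have h1 := congrArg (AModX.res ((AmpleVan.itw L n).obj Q) (le_top : CohB1.genLocus L s ≤ ⊤)) (h n T)
  rw [map_zero, ← AModX.app_res, hT] at h1
  have h2 : ((AmpleVan.pw (InvX.one s) n).app Q).app _ (π.app _ w) = 0 :=
    (congr(($((AmpleVan.pw (InvX.one s) n).naturality π)).app _ w) : _).trans h1
  obtain ⟨θ, hθ⟩ := AmpleVan.exists_itwIso L Q n
  have h3 := congrArg (θ.hom.app _) h2
  rw [hθ, map_zero] at h3
  have hfr : InvX.IsFrame (AModX.res L (le_top : CohB1.genLocus L s ≤ ⊤) (InvX.one s)) := by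
    refine InvX.isFrame_of_germ fun y hy => ?_
    obtain ⟨V, hyV, hV⟩ := InvX.mem_genLocus hy
    have := hV.germ_bijective hyV
    rw [InvX.germ_res'] at this ⊢
    exact this
  exact eq_zero_of_tmul_eq_zero (AmpleX.isFrame_powElt hfr n) _ h3

/-- Multiplication by a power of a section is injective on sections over its generating locus. -/
theorem pw_app_injective (hL : PicF.IsInvertible L) (W : X.Modules) (n : ℕ) :
    Function.Injective (((AmpleVan.pw (InvX.one s) n).app W).app (CohB1.genLocus L s)) := by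
  rw [injective_iff_map_eq_zero]
  intro w hw
  obtain ⟨θ, hθ⟩ := AmpleVan.exists_itwIso L W n
  have h3 := congrArg (θ.hom.app _) hw
  rw [map_zero] at h3
  have h4 := (hθ (InvX.one s) _ w).symm.trans h3
  have hfr : InvX.IsFrame (AModX.res L (le_top : CohB1.genLocus L s ≤ ⊤) (InvX.one s)) := by
    refine InvX.isFrame_of_germ fun y hy => ?_
    obtain ⟨V, hyV, hV⟩ := InvX.mem_genLocus hy
    have := hV.germ_bijective hyV
    rw [InvX.germ_res'] at this ⊢
    exact this
  exact eq_zero_of_tmul_eq_zero (AmpleX.isFrame_powElt hfr n) _ h4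

include k in
/-- Finite generation on the generating locus of a member of a pencil. -/
theorem finite_sections_of_pencil {W : X.Modules} (hW : Coh.IsQCoh W) (hL : PicF.IsInvertible L)
    (hcov : ∀ x, x ∈ CohB1.genLocus L s ∨ x ∈ CohB1.genLocus L t)
    (haff : IsAffineOpen (CohB1.genLocus L s)) (j : ℕ)
    (h1 : ∀ n, j ≤ n → Subsingleton (Coh.HH X ((AmpleVan.itw L n).obj W) 1))
    (hgen : ∃ (A : X.Modules) (p : A ⟶ (AmpleVan.itw L (j + 1)).obj W), Coh.IsCoh A ∧
      ∀ {N : X.Modules} (φ : (AmpleVan.itw L (j + 1)).obj W ⟶ N), p ≫ φ = 0 →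
        ∀ u : Γ((AmpleVan.itw L (j + 1)).obj W, ⊤), φ.app ⊤ u = 0) :
    Module.Finite Γ(X, CohB1.genLocus L s) Γ(W, CohB1.genLocus L s) := by
  haveI := isNoetherian_of_proper' k (X := X)
  let U := CohB1.genLocus L s
  obtain ⟨A, p, hA, hp⟩ := hgen
  let M := (AmpleVan.itw L (j + 1)).obj W
  have hMq : Coh.IsQCoh M := AmpleVan.isQCoh_itw hL hW _
  have hQq : Coh.IsQCoh (cokernel p) := QCoh.isQCoh_cokernel hA.1 hMq p
  let G := kernel (cokernel.π p)
  have hGc : Coh.IsCoh G := by
    haveI : Epi (Abelian.factorThruImage p) := inferInstance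
    exact QCoh.isCoh_of_epi (Abelian.factorThruImage p) hA (QCoh.isQCoh_kernel hMq hQq _)
  have hk := kill_twists s t hL hcov ((AmpleVan.itw L j).obj W) (h1 j le_rfl)
    (fun n => by
      rw [show (AmpleVan.tw L).obj ((AmpleVan.itw L j).obj W) = (AmpleVan.itw L (j + 1)).obj W from rfl,
        itw_obj_itw]
      exact h1 _ (by omega))
    (cokernel.π p) (hp _ (cokernel.condition p))
  let f : Γ(G, U) →ₗ[Γ(X, U)] Γ(M, U) :=
    { toFun := (kernel.ι (cokernel.π p)).app U
      map_add' := map_add _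
      map_smul' := Scheme.Modules.Hom.app_smul _ }
  have hf : Function.Surjective f := fun w =>
    QCoh.exists_kernel_lift (cokernel.π p) U w (app_eq_zero_of_kill s k hMq hL (cokernel.π p) hk w)
  haveI := QCoh.finite_sections hGc haff
  haveI : Module.Finite Γ(X, U) Γ(M, U) := Module.Finite.of_surjective f hf
  haveI : IsNoetherianRing Γ(X, U) := IsLocallyNoetherian.component_noetherian ⟨U, haff⟩
  exact Module.Finite.of_injective
    ({ toFun := ((AmpleVan.pw (InvX.one s) (j + 1)).app W).app U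
       map_add' := map_add _
       map_smul' := Scheme.Modules.Hom.app_smul _ } : Γ(W, U) →ₗ[Γ(X, U)] Γ(M, U))
    (pw_app_injective s hL W (j + 1))

end Groth.Agent.CurveDual15
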