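import Mathlib.Algebra.Homology.DerivedCategory.TStructure
import Mathlib.Algebra.Homology.DerivedCategory.KInjective
import Mathlib.Algebra.Homology.DerivedCategory.KProjective
import Mathlib.Algebra.Homology.DerivedCategory.HomologySequence
import Mathlib.Algebra.Homology.DerivedCategory.FullyFaithful
import Mathlib.CategoryTheory.Triangulated.TStructure.TruncLTGE

/-!
# Maps between a complex and a projective or injective object in the derived category
-/

set_option linter.style.haveILetI false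
set_option linter.unusedSectionVars false

universe w v u

open CategoryTheory CategoryTheory.Limits CategoryTheory.Pretriangulated DerivedCategory

noncomputable section

namespace Groth.Agent.CurveDual15

variable {C : Type u} [Category.{v} C] [Abelian C] [HasDerivedCategory.{w} C]

/-- `H⁰` of an object placed in degree `0`. -/
def h0 (M : C) : (homologyFunctor C 0).obj ((singleFunctor C 0).obj M) ≅ M :=
  (singleFunctorCompHomologyFunctorIso C 0).app M

theorem map_single_h0 {M N : C} (f : M ⟶ N) :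
    (homologyFunctor C 0).map ((singleFunctor C 0).map f) ≫ (h0 N).hom = (h0 M).hom ≫ f :=
  (singleFunctorCompHomologyFunctorIso C 0).hom.naturality f

theorem h0_inv_map_single {M N : C} (f : M ⟶ N) :
    (h0 M).inv ≫ (homologyFunctor C 0).map ((singleFunctor C 0).map f) = f ≫ (h0 N).inv :=
  ((singleFunctorCompHomologyFunctorIso C 0).inv.naturality f).symm

/-- The complex consisting of one object in degree `0` represents the single functor. -/
def qSingle (M : C) : Q.obj ((HomologicalComplex.single C (ComplexShape.up ℤ) 0).obj M) ≅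
    (singleFunctor C 0).obj M :=
  ((SingleFunctors.evaluation _ _ 0).mapIso (singleFunctorsPostcompQIso C)).app M |>.symm

theorem eq_zero_from_projective (P : C) [Projective P] (K : DerivedCategory C) [K.IsLE (-1)]
    (φ : (singleFunctor C 0).obj P ⟶ K) : φ = 0 := by
  obtain ⟨E, hE, ⟨e⟩⟩ := K.exists_iso_Q_obj_of_isLE (-1)
  let S : CochainComplex C ℤ := (HomologicalComplex.single C (ComplexShape.up ℤ) 0).obj P
  haveI : S.IsKProjective := by
    haveI : ∀ i, Projective (S.X i) := fun i => by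
      by_cases h : i = 0
      · subst h; exact Projective.of_iso (HomologicalComplex.singleObjXSelf _ 0 P).symm inferInstance
      · exact (HomologicalComplex.isZero_single_obj_X _ 0 P i h).projective
    exact CochainComplex.isKProjective_of_projective S 0
  suffices ∀ ψ : Q.obj S ⟶ Q.obj E, ψ = 0 by
    have h := this ((qSingle P).hom ≫ φ ≫ e.hom)
    rwa [← cancel_epi (qSingle P).hom, ← cancel_mono e.hom, comp_zero, zero_comp, Category.assoc]
  intro ψ
  obtain ⟨g, hg⟩ := (CochainComplex.IsKProjective.Qh_map_bijective S _).2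
    ((quotientCompQhIso C).hom.app S ≫ ψ ≫ (quotientCompQhIso C).inv.app E)
  obtain ⟨g', rfl⟩ := (HomotopyCategory.quotient C (ComplexShape.up ℤ)).map_surjective g
  have hz : g' = 0 := by
    refine HomologicalComplex.hom_ext _ _ fun i => ?_
    by_cases h : i = 0
    · subst h; exact (CochainComplex.isZero_of_isStrictlyLE E (-1) 0 (by omega)).eq_of_tgt _ _
    · exact (HomologicalComplex.isZero_single_obj_X _ 0 P i h).eq_of_src _ _
  rw [hz, Functor.map_zero, Functor.map_zero] at hg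
  rw [← cancel_epi ((quotientCompQhIso C).hom.app S), ← cancel_mono ((quotientCompQhIso C).inv.app E),
    comp_zero, zero_comp, Category.assoc]
  exact hg.symm

theorem eq_zero_to_injective (I : C) [Injective I] (K : DerivedCategory C) [K.IsGE 1]
    (φ : K ⟶ (singleFunctor C 0).obj I) : φ = 0 := by
  obtain ⟨E, hE, ⟨e⟩⟩ := K.exists_iso_Q_obj_of_isGE 1
  let S : CochainComplex C ℤ := (HomologicalComplex.single C (ComplexShape.up ℤ) 0).obj I
  haveI : S.IsKInjective := by
    haveI : ∀ i, Injective (S.X i) := fun i => by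
      by_cases h : i = 0
      · subst h; exact Injective.of_iso (HomologicalComplex.singleObjXSelf _ 0 I).symm inferInstance
      · exact (HomologicalComplex.isZero_single_obj_X _ 0 I i h).injective
    exact CochainComplex.isKInjective_of_injective S 0
  suffices ∀ ψ : Q.obj E ⟶ Q.obj S, ψ = 0 by
    have h := this (e.inv ≫ φ ≫ (qSingle I).inv)
    rwa [← cancel_epi e.inv, ← cancel_mono (qSingle I).inv, comp_zero, zero_comp, Category.assoc]
  intro ψ
  obtain ⟨g, hg⟩ := (CochainComplex.IsKInjective.Qh_map_bijective _ S).2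
    ((quotientCompQhIso C).hom.app E ≫ ψ ≫ (quotientCompQhIso C).inv.app S)
  obtain ⟨g', rfl⟩ := (HomotopyCategory.quotient C (ComplexShape.up ℤ)).map_surjective g
  have hz : g' = 0 := by
    refine HomologicalComplex.hom_ext _ _ fun i => ?_
    by_cases h : i = 0
    · subst h; exact (CochainComplex.isZero_of_isStrictlyGE E 1 0 (by omega)).eq_of_src _ _
    · exact (HomologicalComplex.isZero_single_obj_X _ 0 I i h).eq_of_tgt _ _
  rw [hz, Functor.map_zero, Functor.map_zero] at hg
  rw [← cancel_epi ((quotientCompQhIso C).hom.app E), ← cancel_mono ((quotientCompQhIso C).inv.app S),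
    comp_zero, zero_comp, Category.assoc]
  exact hg.symm

/-- `Hom(P[0], K) → Hom(P, H⁰K)`. -/
def fromP (P : C) (K : DerivedCategory C) (φ : (singleFunctor C 0).obj P ⟶ K) :
    P ⟶ (homologyFunctor C 0).obj K :=
  (h0 P).inv ≫ (homologyFunctor C 0).map φ

/-- `Hom(K, I[0]) → Hom(H⁰K, I)`. -/
def toI (I : C) (K : DerivedCategory C) (φ : K ⟶ (singleFunctor C 0).obj I) :
    (homologyFunctor C 0).obj K ⟶ I :=
  (homologyFunctor C 0).map φ ≫ (h0 I).hom

theorem fromP_comp (P : C) {K L : DerivedCategory C} (φ : (singleFunctor C 0).obj P ⟶ K) (f : K ⟶ L) :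
    fromP P L (φ ≫ f) = fromP P K φ ≫ (homologyFunctor C 0).map f := by
  simp [fromP]

theorem fromP_precomp {P P' : C} {K : DerivedCategory C} (e : P' ⟶ P)
    (φ : (singleFunctor C 0).obj P ⟶ K) :
    fromP P' K ((singleFunctor C 0).map e ≫ φ) = e ≫ fromP P K φ := by
  rw [fromP, fromP, Functor.map_comp, ← Category.assoc, h0_inv_map_single, Category.assoc]

theorem toI_comp (I : C) {K L : DerivedCategory C} (f : L ⟶ K) (φ : K ⟶ (singleFunctor C 0).obj I) :
    toI I L (f ≫ φ) = (homologyFunctor C 0).map f ≫ toI I K φ := by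
  simp [toI]

theorem bijective_fromP_single (P M : C) :
    Function.Bijective (fromP P ((singleFunctor C 0).obj M)) := by
  refine ⟨fun φ φ' h => ?_, fun y => ⟨(singleFunctor C 0).map (y ≫ (h0 M).hom), ?_⟩⟩
  · obtain ⟨a, rfl⟩ := (singleFunctor C 0).map_surjective φ
    obtain ⟨a', rfl⟩ := (singleFunctor C 0).map_surjective φ'
    rw [fromP, fromP, h0_inv_map_single, h0_inv_map_single, cancel_mono] at h
    rw [h]
  · rw [fromP, h0_inv_map_single, Category.assoc, Iso.hom_inv_id, Category.comp_id]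

theorem bijective_toI_single (I M : C) :
    Function.Bijective (toI I ((singleFunctor C 0).obj M)) := by
  refine ⟨fun φ φ' h => ?_, fun y => ⟨(singleFunctor C 0).map ((h0 M).inv ≫ y), ?_⟩⟩
  · obtain ⟨a, rfl⟩ := (singleFunctor C 0).map_surjective φ
    obtain ⟨a', rfl⟩ := (singleFunctor C 0).map_surjective φ'
    rw [toI, toI, map_single_h0, map_single_h0, cancel_epi] at h
    rw [h]
  · rw [toI, map_single_h0, Iso.hom_inv_id_assoc]

theorem bijective_fromP_of_iso (P : C) {K L : DerivedCategory C} (e : K ≅ L)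
    (h : Function.Bijective (fromP P K)) : Function.Bijective (fromP P L) := by
  refine ⟨fun φ φ' hh => ?_, fun y => ?_⟩
  · rw [← cancel_mono e.inv]; exact h.1 (by rw [fromP_comp, fromP_comp, hh])
  · obtain ⟨φ, hφ⟩ := h.2 (y ≫ (homologyFunctor C 0).map e.inv)
    exact ⟨φ ≫ e.hom, by rw [fromP_comp, hφ, Category.assoc, ← Functor.map_comp, e.inv_hom_id]; simp⟩

theorem bijective_toI_of_iso (I : C) {K L : DerivedCategory C} (e : K ≅ L)
    (h : Function.Bijective (toI I K)) : Function.Bijective (toI I L) := by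
  refine ⟨fun φ φ' hh => ?_, fun y => ?_⟩
  · rw [← cancel_epi e.hom]; exact h.1 (by rw [toI_comp, toI_comp, hh])
  · obtain ⟨φ, hφ⟩ := h.2 ((homologyFunctor C 0).map e.hom ≫ y)
    exact ⟨e.inv ≫ φ, by rw [toI_comp, hφ, ← Category.assoc, ← Functor.map_comp, e.inv_hom_id]; simp⟩

/-- Maps from a projective in degree `0` are read off on `H⁰`. -/
theorem bijective_fromP (P : C) [Projective P] (K : DerivedCategory C) :
    Function.Bijective (fromP P K) := by
  obtain ⟨A, B, hA, hB, f, g, δ, hT⟩ := TStructure.t.exists_triangle K 0 1 rfl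
  haveI : A.IsLE 0 := ⟨hA⟩
  haveI : B.IsGE 1 := ⟨hB⟩
  obtain ⟨A', A'', hA', hA'', f', g', δ', hT'⟩ := TStructure.t.exists_triangle A (-1) 0 rfl
  haveI : A'.IsLE (-1) := ⟨hA'⟩
  haveI : A''.IsGE 0 := ⟨hA''⟩
  haveI : (A'⟦(1 : ℤ)⟧).IsLE (-1) := by
    haveI : TStructure.t.IsLE (A'⟦(1 : ℤ)⟧) (-2) := TStructure.t.isLE_shift A' (-1) 1 (-2) (by omega)
    exact TStructure.t.isLE_of_le (A'⟦(1 : ℤ)⟧) (-2) (-1) (by omega)
  haveI : (A'⟦(1 : ℤ)⟧).IsLE 0 := TStructure.t.isLE_of_le (A'⟦(1 : ℤ)⟧) (-1) 0 (by omega)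
  haveI : A''.IsLE 0 := TStructure.t.isLE₂ _ (rot_of_distTriang _ hT') 0 ‹A.IsLE 0› ‹(A'⟦(1 : ℤ)⟧).IsLE 0›
  obtain ⟨M, ⟨eM⟩⟩ := A''.exists_iso_singleFunctor_obj_of_isGE_of_isLE 0
  have hA''bij : Function.Bijective (fromP P A'') :=
    bijective_fromP_of_iso P eM.symm (bijective_fromP_single P M)
  have hHg' : IsIso ((homologyFunctor C 0).map g') := by
    haveI : Mono ((homologyFunctor C 0).map g') := by
      refine (DerivedCategory.HomologySequence.exact₂ _ hT' 0).mono_g ?_
      exact (isZero_of_isLE A' (-1) 0 (by omega)).eq_of_src _ _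
    haveI : Epi ((homologyFunctor C 0).map g') :=
      (DerivedCategory.HomologySequence.epi_homologyMap_mor₂_iff _ hT' 0 1 (by omega)).2
        ((isZero_of_isLE A' (-1) 1 (by omega)).eq_of_tgt _ _)
    exact isIso_of_mono_of_epi _
  have hAbij : Function.Bijective (fromP P A) := by
    refine ⟨fun φ φ' hh => ?_, fun y => ?_⟩
    · refine sub_eq_zero.1 ?_
      have h0 : (φ - φ') ≫ g' = 0 := by
        rw [Preadditive.sub_comp, sub_eq_zero]
        exact hA''bij.1 (by rw [fromP_comp, fromP_comp, hh])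
      obtain ⟨χ, hχ⟩ : ∃ χ : (singleFunctor C 0).obj P ⟶ A', φ - φ' = χ ≫ f' :=
        Triangle.coyoneda_exact₂ _ hT' (φ - φ') h0
      exact hχ.trans (by rw [eq_zero_from_projective P A' χ]; exact zero_comp)
    · obtain ⟨φ'', hφ''⟩ := hA''bij.2 (y ≫ (homologyFunctor C 0).map g')
      obtain ⟨φ, rfl⟩ : ∃ φ : (singleFunctor C 0).obj P ⟶ A, φ'' = φ ≫ g' :=
        Triangle.coyoneda_exact₃ _ hT' φ'' (eq_zero_from_projective P (A'⟦(1 : ℤ)⟧) _)
      refine ⟨φ, ?_⟩
      rw [← cancel_mono ((homologyFunctor C 0).map g'), ← hφ'', fromP_comp]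
  have hHf : IsIso ((homologyFunctor C 0).map f) := by
    haveI : Epi ((homologyFunctor C 0).map f) :=
      (DerivedCategory.HomologySequence.exact₂ _ hT 0).epi_f
        ((isZero_of_isGE B 1 0 (by omega)).eq_of_tgt _ _)
    haveI : Mono ((homologyFunctor C 0).map f) :=
      (DerivedCategory.HomologySequence.mono_homologyMap_mor₁_iff _ hT (-1) 0 (by omega)).2
        ((isZero_of_isGE B 1 (-1) (by omega)).eq_of_src _ _)
    exact isIso_of_mono_of_epi _
  have zB : ∀ ψ : (singleFunctor C 0).obj P ⟶ B, ψ = 0 := fun ψ =>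
    TStructure.t.zero ψ 0 1 (by omega)
  have exK : ∀ φ : (singleFunctor C 0).obj P ⟶ K, ∃ a : (singleFunctor C 0).obj P ⟶ A, φ = a ≫ f :=
    fun φ => Triangle.coyoneda_exact₂ _ hT φ (zB (φ ≫ g))
  refine ⟨fun φ φ' hh => ?_, fun y => ?_⟩
  · obtain ⟨a, rfl⟩ := exK φ
    obtain ⟨a', rfl⟩ := exK φ'
    have : a = a' := hAbij.1 (by
      rw [← cancel_mono ((homologyFunctor C 0).map f), ← fromP_comp, ← fromP_comp]; exact hh)
    rw [this]
  · obtain ⟨a, ha⟩ := hAbij.2 (y ≫ inv ((homologyFunctor C 0).map f))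
    exact ⟨a ≫ f, by rw [fromP_comp, ha]; simp⟩

/-- Maps to an injective in degree `0` are read off on `H⁰`. -/
theorem bijective_toI (I : C) [Injective I] (K : DerivedCategory C) :
    Function.Bijective (toI I K) := by
  obtain ⟨A, B, hA, hB, f, g, δ, hT⟩ := TStructure.t.exists_triangle K 0 1 rfl
  haveI : A.IsLE 0 := ⟨hA⟩
  haveI : B.IsGE 1 := ⟨hB⟩
  obtain ⟨A', A'', hA', hA'', f', g', δ', hT'⟩ := TStructure.t.exists_triangle A (-1) 0 rfl
  haveI : A'.IsLE (-1) := ⟨hA'⟩
  haveI : A''.IsGE 0 := ⟨hA''⟩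
  haveI hA'1 : (A'⟦(1 : ℤ)⟧).IsLE (-2) := TStructure.t.isLE_shift A' (-1) 1 (-2) (by omega)
  haveI : (A'⟦(1 : ℤ)⟧).IsLE 0 := TStructure.t.isLE_of_le (A'⟦(1 : ℤ)⟧) (-2) 0 (by omega)
  haveI : A''.IsLE 0 := TStructure.t.isLE₂ _ (rot_of_distTriang _ hT') 0 ‹A.IsLE 0› ‹(A'⟦(1 : ℤ)⟧).IsLE 0›
  obtain ⟨M, ⟨eM⟩⟩ := A''.exists_iso_singleFunctor_obj_of_isGE_of_isLE 0
  have hA''bij : Function.Bijective (toI I A'') :=
    bijective_toI_of_iso I eM.symm (bijective_toI_single I M)
  have hHg' : IsIso ((homologyFunctor C 0).map g') := by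
    haveI : Mono ((homologyFunctor C 0).map g') :=
      (DerivedCategory.HomologySequence.exact₂ _ hT' 0).mono_g
        ((isZero_of_isLE A' (-1) 0 (by omega)).eq_of_src _ _)
    haveI : Epi ((homologyFunctor C 0).map g') :=
      (DerivedCategory.HomologySequence.epi_homologyMap_mor₂_iff _ hT' 0 1 (by omega)).2
        ((isZero_of_isLE A' (-1) 1 (by omega)).eq_of_tgt _ _)
    exact isIso_of_mono_of_epi _
  have hAbij : Function.Bijective (toI I A) := by
    have zA' : ∀ ψ : A' ⟶ (singleFunctor C 0).obj I, ψ = 0 := fun ψ =>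
      TStructure.t.zero ψ (-1) 0 (by omega)
    refine ⟨fun φ φ' hh => ?_, fun y => ?_⟩
    · obtain ⟨a, rfl⟩ : ∃ a : A'' ⟶ (singleFunctor C 0).obj I, φ = g' ≫ a :=
        Triangle.yoneda_exact₂ _ hT' φ (zA' (f' ≫ φ))
      obtain ⟨a', rfl⟩ : ∃ a : A'' ⟶ (singleFunctor C 0).obj I, φ' = g' ≫ a :=
        Triangle.yoneda_exact₂ _ hT' φ' (zA' (f' ≫ φ'))
      have : a = a' := hA''bij.1 (by
        rw [← cancel_epi ((homologyFunctor C 0).map g'), ← toI_comp, ← toI_comp]; exact hh)
      rw [this]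
    · obtain ⟨a, ha⟩ := hA''bij.2 (inv ((homologyFunctor C 0).map g') ≫ y)
      exact ⟨g' ≫ a, by rw [toI_comp, ha]; simp⟩
  have hHf : IsIso ((homologyFunctor C 0).map f) := by
    haveI : Epi ((homologyFunctor C 0).map f) :=
      (DerivedCategory.HomologySequence.exact₂ _ hT 0).epi_f
        ((isZero_of_isGE B 1 0 (by omega)).eq_of_tgt _ _)
    haveI : Mono ((homologyFunctor C 0).map f) :=
      (DerivedCategory.HomologySequence.mono_homologyMap_mor₁_iff _ hT (-1) 0 (by omega)).2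
        ((isZero_of_isGE B 1 (-1) (by omega)).eq_of_src _ _)
    exact isIso_of_mono_of_epi _
  have hT2 := inv_rot_of_distTriang _ hT
  haveI : (B⟦(-1 : ℤ)⟧).IsGE 1 := by
    haveI : TStructure.t.IsGE (B⟦(-1 : ℤ)⟧) 2 := TStructure.t.isGE_shift B 1 (-1) 2 (by omega)
    exact TStructure.t.isGE_of_ge (B⟦(-1 : ℤ)⟧) 1 2 (by omega)
  refine ⟨fun φ φ' hh => ?_, fun y => ?_⟩
  · refine sub_eq_zero.1 ?_
    have h0 : f ≫ (φ - φ') = 0 := by
      rw [Preadditive.comp_sub, sub_eq_zero]
      exact hAbij.1 (by rw [toI_comp, toI_comp, hh])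
    obtain ⟨χ, hχ⟩ : ∃ χ : B ⟶ (singleFunctor C 0).obj I, φ - φ' = g ≫ χ :=
      Triangle.yoneda_exact₂ _ hT (φ - φ') h0
    exact hχ.trans (by rw [eq_zero_to_injective I B χ]; exact comp_zero)
  · obtain ⟨a, ha⟩ := hAbij.2 ((homologyFunctor C 0).map f ≫ y)
    obtain ⟨φ, rfl⟩ : ∃ φ : K ⟶ (singleFunctor C 0).obj I, a = f ≫ φ :=
      Triangle.yoneda_exact₂ _ hT2 a (eq_zero_to_injective I (B⟦(-1 : ℤ)⟧) _)
    exact ⟨φ, (cancel_epi ((homologyFunctor C 0).map f)).1 ((toI_comp I f φ).symm.trans ha)⟩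

end Groth.Agent.CurveDual15
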