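import Groth.Agent.CurveDual15.Curve
import Groth.Agent.Lib.CurveDuality
import Groth.Agent.SurfInt.SecMono
import Groth.Agent.VarBase.DimOne.Ample
import Groth.Agent.S7669

/-!
# Torsion-free modules on an integral curve; the rank of the dualizing module
-/

set_option linter.style.haveILetI false
set_option linter.unusedSectionVars false
set_option backward.isDefEq.respectTransparency false
set_option backward.isDefEq.respectTransparency.types false

universe u

open CategoryTheory CategoryTheory.Limits AlgebraicGeometry TopologicalSpace Opposite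
open Groth.Agent.PnCoh.Finite (mapLin)

attribute [local instance] HasDerivedCategory.standard

noncomputable section

namespace Groth.Agent.CurveDual15

variable {X : Scheme.{u}}

/-- Torsion-free on stalks. -/
def IsTFree (M : X.Modules) : Prop :=
  ∀ (x : X) (a : X.presheaf.stalk x) (m : M.presheaf.stalk x), a • m = 0 → a = 0 ∨ m = 0

theorem IsTFree.of_mono {M N : X.Modules} (hN : IsTFree N) (i : M ⟶ N) [Mono i] : IsTFree M :=
  fun x a m h => (hN x a (Algz.stalkMapₗ i x m) (by rw [← map_smul, h, map_zero])).imp id fun h' =>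
    CurveBundle.stalkMap_injective i x (h'.trans (map_zero _).symm)

variable [IsIntegral X] [IsLocallyNoetherian X]

theorem IsTFree.isZero_of_generic {M : X.Modules} (hM : IsTFree M) (hq : Coh.IsQCoh M)
    (h : Subsingleton (M.presheaf.stalk (genericPoint X))) : IsZero M := by
  refine CurveCohLib.isZero_of_subsingleton_stalks fun x => subsingleton_of_forall_eq 0 fun m => ?_
  obtain ⟨W, hxW, t, rfl⟩ := TopCat.Presheaf.exists_germ_eq M.presheaf m
  obtain ⟨_, ⟨V, hV, rfl⟩, hxV, hle⟩ :=
    X.isBasis_affineOpens.exists_subset_of_mem_open (show x ∈ W from hxW) W.2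
  replace hle : V ≤ W := hle
  have hη : genericPoint X ∈ V :=
    ((genericPoint_spec X).specializes (Set.mem_univ x)).mem_open V.2 hxV
  have hg : M.presheaf.germ V _ hη (M.presheaf.map (homOfLE hle).op t) = 0 := h.elim _ _
  obtain ⟨f, hf, hft⟩ := (QCoh.germ_eq_zero_iff hq hV hη _).1 hg
  rw [← M.presheaf.germ_res_apply (homOfLE hle) x hxV t]
  have h1 := congrArg (M.presheaf.germ V x hxV) hft
  rw [QCoh.germ_smul' M hxV, map_zero] at h1
  refine (hM x _ _ h1).resolve_left fun h0 => ?_
  have h2 : f = 0 := (map_eq_zero_iff _ (germ_injective_of_isIntegral X x hxV)).1 h0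
  subst h2
  simp at hf

theorem IsTFree.isZero_of_rk_eq_zero {M : X.Modules} (hM : IsTFree M) (hc : Coh.IsCoh M)
    (h : CurveBundle.rk M = 0) : IsZero M := by
  letI := (CurveBundle.isField_stalk_generic (X := X)).toField
  haveI := CurveBundle.finite_stalk_of_coh hc (genericPoint X)
  exact hM.isZero_of_generic hc.1 (Module.finrank_zero_iff.1 h)

variable (k : Type u) [Field k] [X.Over (Spec (CommRingCat.of k))]
  [IsProper (X ↘ Spec (CommRingCat.of k))]

/-- The degree of an invertible module with a section is the length of its cokernel. -/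
theorem deg_eq_h0_cokernel (hdim : topologicalKrullDim X = 1) {D : X.Modules}
    (hD : PicF.IsInvertible D) (s : Coh.structureModule X ⟶ D) [Mono s] :
    Curv2.deg k X D 1 = Module.finrank k (Coh.HH X (cokernel s) 0) ∧ Coh.IsCoh (cokernel s) ∧
      ∀ x ∈ CohB1.support (cokernel s), IsClosed ({x} : Set X) := by
  haveI := CurveCohLib.isNoetherian_of_proper (k := k) (X := X)
  have hDc := AmpleVan.isCoh_invertible hD
  have hOc : Coh.IsCoh (Coh.structureModule X) := QCoh.isCoh_structureModule'
  have hQc : Coh.IsCoh (cokernel s) := QCoh.isCoh_cokernel hOc.1 hDc s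
  have hS := CurveSlope.shortExact_cokernel_of_mono s
  have hrk := CurveSlope.rk_add_coh k _ _ _ hS hDc
  rw [CurveBundle.rk_eq (InvEnd.isFinLocFreeOfRank_one hD),
    CurveBundle.rk_eq (InvEnd.isFinLocFreeOfRank_one InvX.isInvertible_structureModule)] at hrk
  have hcl : ∀ x ∈ CohB1.support (cokernel s), IsClosed ({x} : Set X) := fun x hx => by
    by_contra hxc
    obtain rfl := CurveCohLib.eq_genericPoint_of_not_isClosed hdim hxc
    letI := (CurveBundle.isField_stalk_generic (X := X)).toField
    haveI := CurveBundle.finite_stalk_of_coh hQc (genericPoint X)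
    exact hx (Module.finrank_zero_iff.1 (show CurveBundle.rk (cokernel s) = 0 by omega))
  have he := CurveBundle.euler_add' k _ _ _ hS hOc hDc hQc
  rw [CurveCohLib.euler_eq_finrank_zero (k := k) hQc hcl] at he
  refine ⟨?_, hQc, hcl⟩
  unfold Curv2.deg
  push_cast
  omega

/-- An invertible module of positive degree. -/
theorem exists_deg_pos (hdim : topologicalKrullDim X = 1) :
    ∃ A : X.Modules, PicF.IsInvertible A ∧ 0 < Curv2.deg k X A 1 := by
  haveI := CurveCohLib.isNoetherian_of_proper (k := k) (X := X)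
  obtain ⟨p, -, hp⟩ := IsClosed.exists_closed_singleton (X := X) isClosed_univ Set.univ_nonempty
  have hpη : genericPoint X ≠ p := fun he => by
    have huniv : (Set.univ : Set X) ⊆ {genericPoint X} := by
      rw [he, ← hp.closure_eq, ← he, genericPoint_closure]
    haveI : Subsingleton X := ⟨fun a b => (huniv (Set.mem_univ a)).trans (huniv (Set.mem_univ b)).symm⟩
    have h2 : topologicalKrullDim X ≤ 0 := Order.krullDim_nonpos_iff_forall_isMin.2 fun a b _ => by
      obtain ⟨z, hz⟩ := b.isIrreducible.nonempty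
      intro y _
      exact (Subsingleton.elim z y) ▸ hz
    rw [hdim] at h2
    exact absurd h2 (by norm_num)
  let U : X.Opens := ⟨{p}ᶜ, hp.isOpen_compl⟩
  haveI : DiscreteTopology ↥((U : Set X)ᶜ) := by
    haveI : Subsingleton ↥((U : Set X)ᶜ) := ⟨fun a b => Subtype.ext <| by
      have ha : a.1 = p := by simpa [U] using a.2
      have hb : b.1 = p := by simpa [U] using b.2
      rw [ha, hb]⟩
    infer_instance
  obtain ⟨⟨L, s, hL, hs⟩, -⟩ := S7669.result X U inferInstance fun x _ =>
    ⟨inferInstance, VarBase.DimOne.ringKrullDim_stalk_le hdim.le x⟩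
  have hsη : genericPoint X ∈ CohB1.genLocus L s := hs ▸ hpη
  have hs0 : s ≠ 0 := fun h0 => by
    subst h0
    obtain ⟨W, hW, hWf⟩ := InvX.mem_genLocus hsη
    haveI : Nonempty W := ⟨⟨_, hW⟩⟩
    refine one_ne_zero (α := Γ(X, W)) (hWf.coord_unique le_rfl ?_)
    have h1 : InvX.one (0 : Coh.structureModule X ⟶ L) = 0 := rfl
    simp [h1]
  haveI := InvEnd.mono_of_ne_zero InvX.isInvertible_structureModule hL s hs0
  obtain ⟨hd, hQc, hcl⟩ := deg_eq_h0_cokernel k hdim hL s
  refine ⟨L, hL, ?_⟩
  rw [hd]
  by_contra hle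
  have hz : IsZero (cokernel s) := CurveCohLib.isZero_of_euler_eq_zero (k := k) hQc hcl (by
    rw [CurveCohLib.euler_eq_finrank_zero (k := k) hQc hcl]; omega)
  haveI : Epi s := Preadditive.epi_of_isZero_cokernel s hz
  haveI : IsIso s := isIso_of_mono_of_epi s
  have hp' : p ∈ CohB1.genLocus L s := (le_sSup (show (⊤ : X.Opens) ∈ {V : X.Opens |
    IsIso ((Scheme.Modules.restrictFunctor V.ι).map s)} from (inferInstance : IsIso _))) trivial
  rw [hs] at hp'
  exact hp' rfl

theorem deg_tensorPow' (hdim : topologicalKrullDim X = 1) {A : X.Modules} (hA : PicF.IsInvertible A) :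
    ∀ n : ℕ, Curv2.deg k X (CohB1.tensorPow A n) 1 = n * Curv2.deg k X A 1
  | 0 => by simp [CohB1.tensorPow, Curv2.deg]
  | n + 1 => by
    show Curv2.deg k X ((DCoh.tensorBi.obj (CohB1.tensorPow A n)).obj A) 1 = _
    rw [CurveRR.deg_tensor k hdim (InvX.isInvertible_tensorPow hA n) hA, deg_tensorPow' hdim hA n]
    push_cast
    ring

theorem h0_eq_zero_of_deg_neg (hdim : topologicalKrullDim X = 1) {D : X.Modules}
    (hD : PicF.IsInvertible D) (hd : Curv2.deg k X D 1 < 0) :
    Module.finrank k (Coh.HH X D 0) = 0 := by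
  haveI := CurveCohLib.isNoetherian_of_proper (k := k) (X := X)
  rcases subsingleton_or_nontrivial (Coh.HH X D 0) with h | h
  · exact Module.finrank_zero_of_subsingleton
  exfalso
  obtain ⟨s, hs⟩ := SurfInt.exists_mono_of_nontrivial_H0 hD
  haveI := hs
  have := (deg_eq_h0_cokernel k hdim hD s).1
  omega

variable {k} [DCoh.HasRpush (str k X)] {h : DCoh.RpushPreservesQCoh (str k X)}
  [DCoh.HasShriek (str k X) h] {OY : DCoh.DQCoh (pt k)}

/-- A coherent torsion-free dualizing module of an integral curve has rank one. -/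
theorem rk_omega (hOY : Nonempty (OY.obj ≅ DCoh.inD (pt k) (Coh.structureModule (pt k))))
    (hdim : topologicalKrullDim X = 1) (hω : Coh.IsCoh (omega k h OY 1))
    (htf : IsTFree (omega k h OY 1)) : CurveBundle.rk (omega k h OY 1) = 1 := by
  haveI := CurveCohLib.isNoetherian_of_proper (k := k) (X := X)
  have hd : topologicalKrullDim X ≤ ((1 : ℕ) : WithBot ℕ∞) := hdim.le
  obtain ⟨t, ht⟩ := nonempty_homEquivDual (h := h) hOY 1 hd
  obtain ⟨A, hA, hdA⟩ := exists_deg_pos k hdim
  set r := CurveBundle.rk (omega k h OY 1) with hr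
  let n := (Curv2.euler k X (Coh.structureModule X)).natAbs +
    (Curv2.euler k X (omega k h OY 1)).natAbs + 1
  let P := CohB1.tensorPow A n
  have hP : PicF.IsInvertible P := InvX.isInvertible_tensorPow hA n
  obtain ⟨D, hD, ⟨e'⟩⟩ := H23.PicInv.exists_inverse hP
  have e : (DCoh.tensorBi.obj D).obj P ≅ Coh.structureModule X := CurveTensor.commIso D P ≪≫ e'
  have hdP : Curv2.deg k X P 1 = n * Curv2.deg k X A 1 := deg_tensorPow' k hdim hA n
  have hdD : Curv2.deg k X D 1 = - Curv2.deg k X P 1 := by
    have h1 := CurveRR.deg_tensor k hdim hD hP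
    rw [CurveRR.deg_congr k e, CurveDeg.deg_structureModule] at h1
    omega
  have hn : (n : ℤ) ≤ n * Curv2.deg k X A 1 := le_mul_of_one_le_right (by positivity) (by omega)
  have hDc := AmpleVan.isCoh_invertible hD
  haveI := CurveCohLib.finite_HH (k := k) hDc 1
  have h1D : (Module.finrank k (Coh.HH X D 1) : ℤ) =
      Curv2.deg k X P 1 - Curv2.euler k X (Coh.structureModule X) := by
    have h2 := CurveRR.euler_eq_h0_sub_h1 k hdim.le hDc.1
    rw [h0_eq_zero_of_deg_neg k hdim hD (by omega)] at h2
    unfold Curv2.deg at hdD ⊢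
    push_cast at h2 hdD ⊢
    omega
  have hr0 : r ≠ 0 := fun h0 => by
    have hz := htf.isZero_of_rk_eq_zero hω h0
    have hs : Subsingleton (Module.Dual k (Coh.HH X D 1)) := ⟨fun g g' => by
      obtain ⟨a, rfl⟩ := (ht D hDc.1).2 g
      obtain ⟨b, rfl⟩ := (ht D hDc.1).2 g'
      rw [hz.eq_of_tgt a b]⟩
    have := Module.finrank_zero_of_subsingleton (R := k) (M := Module.Dual k (Coh.HH X D 1))
    rw [Subspace.dual_finrank_eq] at this
    omega
  have hP1 := InvEnd.isFinLocFreeOfRank_one hP
  have hPf : FlatMod.IsFinLocFree P := fun x => let ⟨U, hx, e⟩ := hP1 x; ⟨U, 1, hx, e⟩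
  have hWc := CurveTensor.isCoh_tensor hPf hω
  have hχ := CurveTensor.euler_tensor k hdim hP1 hω
  rw [CurveRR.euler_eq_h0_sub_h1 k hdim.le hWc.1] at hχ
  have hinj : Function.Injective (CurveDuality.pairing k e (omega k h OY 1) t) :=
    (injective_iff_map_eq_zero _).2 fun v hv => by
      by_contra hv0
      exact CurveDuality.homOfTwist_ne_zero e hv0 ((ht D hDc.1).1 (hv.trans (map_zero _).symm))
  haveI := CurveCohLib.finite_HH (k := k) hWc 0
  have hle := LinearMap.finrank_le_finrank_of_injective hinj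
  rw [Subspace.dual_finrank_eq] at hle
  by_contra hne
  have h2 : (2 : ℤ) * Curv2.deg k X P 1 ≤ (r : ℤ) * Curv2.deg k X P 1 :=
    mul_le_mul_of_nonneg_right (by omega) (by omega)
  simp only [← hr] at hχ
  push_cast at hχ
  omega

end Groth.Agent.CurveDual15
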